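import Groth.Agent.LeadExc.CatenaryCM
import Groth.Agent.SerreLift.Catenary
import Groth.Agent.LocDuality.CompleteGor
import Groth.Agent.CAlgCompl.Local
import Groth.Agent.CAlgN2.AnUnram
import Groth.Agent.RegLocus.SemilocalCpl
import Groth.Prelude.Def_EGA4b

/-!
# Equidimensional catenary local rings and flat descent
-/

set_option autoImplicit false
universe u

open IsLocalRing Groth.Agent.SerreLift

namespace Groth.Agent.LeadFCat

variable {A : Type u} [CommRing A]

/-- `dim A/P = dim A/Q + 1` for an immediate specialization in a catenary local ring. -/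
theorem dim_covBy [IsLocalRing A] (hcat : CAlg.IsCatenary A) {p q : PrimeSpectrum A} (h : p ⋖ q) :
    ringKrullDim (A ⧸ p.asIdeal) = ringKrullDim (A ⧸ q.asIdeal) + 1 := by
  have hq : q ≤ closedPoint A := le_maximalIdeal q.2.ne_top
  obtain ⟨m, hm⟩ := exists_hasLen hcat hq
  obtain ⟨n, hn⟩ := exists_hasLen hcat (h.1.le.trans hq)
  rw [ringKrullDim_quotient_eq hn, ringKrullDim_quotient_eq hm, (hasLen_covBy h).add hcat hm hn]
  push_cast
  rw [add_comm]

theorem exists_dim (A : Type u) [CommRing A] [IsNoetherianRing A] [IsLocalRing A] :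
    ∃ n : ℕ, ringKrullDim A = (n : WithBot ℕ∞) := CAlgReg.exists_dim

theorem exists_dim_quot [IsNoetherianRing A] [IsLocalRing A] (I : Ideal A) (hI : I ≠ ⊤) :
    ∃ n : ℕ, ringKrullDim (A ⧸ I) = (n : WithBot ℕ∞) := by
  have : Nontrivial (A ⧸ I) := Ideal.Quotient.nontrivial_iff.2 hI
  exact exists_dim (A ⧸ I)

theorem exists_height [IsNoetherianRing A] (P : Ideal A) [P.IsPrime] : ∃ h : ℕ, P.height = h := by
  obtain ⟨h, hh⟩ := ENat.ne_top_iff_exists.1 (Ideal.height_ne_top_of_isPrime (I := P))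
  exact ⟨h, hh.symm⟩

/-- dimension of a quotient is attained on a minimal prime. -/
theorem dim_quot_le [IsNoetherianRing A] (I : Ideal A) (c : WithBot ℕ∞)
    (h : ∀ P ∈ I.minimalPrimes, ringKrullDim (A ⧸ P) ≤ c) : ringKrullDim (A ⧸ I) ≤ c := by
  rw [ringKrullDim_quotient]
  refine iSup_le fun l => ?_
  obtain ⟨P, hP, hle⟩ := Ideal.exists_minimalPrimes_le (show I ≤ l.head.1.asIdeal from l.head.2)
  refine le_trans ?_ (h P hP)
  rw [ringKrullDim_quotient]
  let l' : LTSeries (PrimeSpectrum.zeroLocus (P : Set A)) :=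
    ⟨l.length, fun i => ⟨(l i).1, fun x hx => (l.monotone (Fin.zero_le i)) (hle hx)⟩, l.step⟩
  exact le_iSup (fun p : LTSeries (PrimeSpectrum.zeroLocus (P : Set A)) => ((p.length : ℕ∞) : WithBot ℕ∞)) l'

theorem dim_quot_mono {I J : Ideal A} (h : I ≤ J) : ringKrullDim (A ⧸ J) ≤ ringKrullDim (A ⧸ I) :=
  ringKrullDim_le_of_surjective (Ideal.Quotient.factor h) (Ideal.Quotient.factor_surjective h)

theorem minimalPrimes_bot' : (⊥ : Ideal A).minimalPrimes = minimalPrimes A := by
  rw [minimalPrimes]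

/-- Equidimensionality of a quotient in terms of the minimal primes of the ideal. -/
theorem isEquidim_quot_iff (I : Ideal A) :
    EGA4.IsEquidim (A ⧸ I) ↔ ∀ P ∈ I.minimalPrimes, ringKrullDim (A ⧸ P) = ringKrullDim (A ⧸ I) := by
  have key : ∀ (P : Ideal A), I ≤ P → ringKrullDim ((A ⧸ I) ⧸ P.map (Ideal.Quotient.mk I)) = ringKrullDim (A ⧸ P) :=
    fun P hP => ringKrullDim_eq_of_ringEquiv (DoubleQuot.quotQuotEquivQuotOfLE hP)
  constructor
  · intro h P hP
    rw [← key P hP.1.2]
    refine h _ ?_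
    rw [Ideal.minimalPrimes_eq_comap (I := I)] at hP
    obtain ⟨Q, hQ, rfl⟩ := hP
    rwa [Ideal.map_comap_of_surjective _ Ideal.Quotient.mk_surjective]
  · intro h Q hQ
    have hP : Q.comap (Ideal.Quotient.mk I) ∈ I.minimalPrimes := by
      rw [Ideal.minimalPrimes_eq_comap (I := I)]; exact ⟨Q, hQ, rfl⟩
    rw [← h _ hP, ← key _ hP.1.2, Ideal.map_comap_of_surjective _ Ideal.Quotient.mk_surjective]

theorem isEquidim_of_ringEquiv {B : Type u} [CommRing B] (e : A ≃+* B) (h : EGA4.IsEquidim A) :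
    EGA4.IsEquidim B := by
  intro P hP
  have := hP.1.1
  have hP' : P.comap e.toRingHom ∈ minimalPrimes A := by
    refine ⟨⟨Ideal.IsPrime.comap _, bot_le⟩, fun Q hQ hle => ?_⟩
    have := hQ.1
    intro x hx
    have h1 : P ≤ Q.comap e.symm.toRingHom := hP.2 ⟨Ideal.IsPrime.comap _, bot_le⟩ fun y hy => by
      have := hle (show e.symm y ∈ Q from hy)
      rw [Ideal.mem_comap] at this
      simpa using this
    have := h1 (show e x ∈ P from hx)
    rw [Ideal.mem_comap] at this
    simpa using this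
  rw [← ringKrullDim_eq_of_ringEquiv e, ← h _ hP']
  exact (ringKrullDim_eq_of_ringEquiv (Ideal.quotientEquiv _ _ e
    (by rw [← Ideal.map_coe]; exact (Ideal.map_comap_of_surjective e.toRingHom e.surjective P).symm))).symm

theorem not_nontrivial_dim {B : Type u} [CommRing B] [Nontrivial B] : ringKrullDim B ≠ ⊥ :=
  ne_bot_of_le_ne_bot (WithBot.natCast_ne_bot 0) ringKrullDim_nonneg_of_nontrivial

/-- In an equidimensional catenary local ring `dim A/P + ht P = dim A`. -/
theorem dim_add_height [IsNoetherianRing A] [IsLocalRing A] (hcat : CAlg.IsCatenary A)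
    (heq : EGA4.IsEquidim A) (P : Ideal A) [hP : P.IsPrime] :
    ringKrullDim (A ⧸ P) + P.height = ringKrullDim A := by
  let p : PrimeSpectrum A := ⟨P, hP⟩
  obtain ⟨d, hd⟩ := exists_hasLen hcat (show p ≤ closedPoint A from le_maximalIdeal hP.ne_top)
  obtain ⟨N, hN⟩ := exists_dim A
  have hd' := ringKrullDim_quotient_eq hd
  dsimp only [p] at hd'
  rw [hd', hN]
  have hmin : ∀ (r : PrimeSpectrum A), r.asIdeal ∈ minimalPrimes A → r ≤ p → ∀ n, HasLen r p n → n + d = N := by
    intro r hr hrp n hn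
    obtain ⟨k, hk⟩ := exists_hasLen hcat (show r ≤ closedPoint A from le_maximalIdeal r.2.ne_top)
    have h1 := heq _ hr
    rw [ringKrullDim_quotient_eq hk, hN] at h1
    have : k = N := Nat.cast_injective (R := WithBot ℕ∞) h1
    rw [← this, hn.add hcat hd hk]
  obtain ⟨r, hr, hrp⟩ := Ideal.exists_minimalPrimes_le (bot_le : (⊥ : Ideal A) ≤ P)
  let r' : PrimeSpectrum A := ⟨r, hr.1.1⟩
  obtain ⟨n, hn⟩ := exists_hasLen hcat (show r' ≤ p from hrp)
  have hnd := hmin r' hr hrp n hn
  have hh : P.height = (n : ℕ∞) := by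
    rw [show P.height = Order.height p from p.height_eq_orderHeight]
    refine le_antisymm (Order.height_le fun l hl => ?_) ?_
    · obtain ⟨r₁, hr₁, hle⟩ := Ideal.exists_minimalPrimes_le (bot_le : (⊥ : Ideal A) ≤ l.head.asIdeal)
      let r₁' : PrimeSpectrum A := ⟨r₁, hr₁.1.1⟩
      have hr₁p : r₁' ≤ p := le_trans (show r₁' ≤ l.head from hle) (l.head_le_last.trans hl.le)
      obtain ⟨n₁, hn₁⟩ := exists_hasLen hcat hr₁p
      have := hmin r₁' hr₁ hr₁p n₁ hn₁
      rcases eq_or_lt_of_le (show r₁' ≤ l.head from hle) with he | hlt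
      · have := hn₁.2 l he.symm hl
        exact_mod_cast (show l.length ≤ n by omega)
      · have := hn₁.2 (l.cons r₁' hlt) (RelSeries.head_cons ..) (by rw [RelSeries.last_cons]; exact hl)
        simp only [RelSeries.cons_length] at this
        exact_mod_cast (show l.length ≤ n by omega)
    · obtain ⟨⟨s, -, s2, s3, -⟩, -⟩ := hn
      rw [← s3]
      exact Order.length_le_height (by rw [s2])
  rw [hh, ← hnd, Nat.add_comm]
  simp [WithBot.coe_add]

/-- A Noetherian local ring is catenary if `dim A/Q + ht(Q/P) = dim A/P` for all primes. -/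
theorem isCatenary_of_dim_formula [IsNoetherianRing A] [IsLocalRing A]
    (h : ∀ (P : Ideal A) [P.IsPrime] (Q : Ideal (A ⧸ P)) [Q.IsPrime],
      ringKrullDim ((A ⧸ P) ⧸ Q) + Q.height = ringKrullDim (A ⧸ P)) : CAlg.IsCatenary A := by
  choose d hd using fun p : PrimeSpectrum A => exists_dim_quot p.asIdeal p.2.ne_top
  have hlt : ∀ p q : PrimeSpectrum A, p < q → d q + 1 ≤ d p ∧ (p ⋖ q → d q + 1 = d p) := by
    intro p q hpq
    have hpr : (q.asIdeal.map (Ideal.Quotient.mk p.asIdeal)).IsPrime :=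
      Ideal.map_isPrime_of_surjective Ideal.Quotient.mk_surjective (by rw [Ideal.mk_ker]; exact hpq.le)
    have hcm : (q.asIdeal.map (Ideal.Quotient.mk p.asIdeal)).comap (Ideal.Quotient.mk p.asIdeal) = q.asIdeal := by
      rw [Ideal.comap_map_of_surjective _ Ideal.Quotient.mk_surjective, ← RingHom.ker_eq_comap_bot,
        Ideal.mk_ker, sup_eq_left]
      exact hpq.le
    have hf := h p.asIdeal (q.asIdeal.map (Ideal.Quotient.mk p.asIdeal))
    rw [ringKrullDim_eq_of_ringEquiv (DoubleQuot.quotQuotEquivQuotOfLE hpq.le), hd, hd] at hf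
    obtain ⟨c, hc⟩ := exists_height (q.asIdeal.map (Ideal.Quotient.mk p.asIdeal))
    rw [hc] at hf
    have e : d q + c = d p := by exact_mod_cast hf
    have hne : q.asIdeal.map (Ideal.Quotient.mk p.asIdeal) ≠ ⊥ := fun he => hpq.ne' (PrimeSpectrum.ext (by
      rw [← hcm, he, ← RingHom.ker_eq_comap_bot, Ideal.mk_ker]))
    have h0 : c ≠ 0 := fun h0 => hne (Ideal.height_eq_zero_iff_eq_bot.1 (by rw [hc, h0]; rfl))
    refine ⟨by omega, fun hcov => ?_⟩
    suffices c ≤ 1 by omega
    have : (q.asIdeal.map (Ideal.Quotient.mk p.asIdeal)).height ≤ ((1 : ℕ) : ℕ∞) := by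
      rw [Ideal.height_le_iff]
      intro r hr hrq
      have hr0 : r = ⊥ := by
        by_contra hr0
        refine hcov.2 (c := ⟨r.comap (Ideal.Quotient.mk p.asIdeal), inferInstance⟩) ?_ ?_
        · refine lt_of_le_of_ne (show p.asIdeal ≤ r.comap (Ideal.Quotient.mk p.asIdeal) from
            Ideal.mk_ker.symm.le.trans (Ideal.comap_mono bot_le)) fun he => hr0 ?_
          have he' : r.comap (Ideal.Quotient.mk p.asIdeal) = p.asIdeal := (congrArg PrimeSpectrum.asIdeal he).symm
          rw [← Ideal.map_comap_of_surjective _ Ideal.Quotient.mk_surjective r, he', Ideal.map_quotient_self]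
        · refine lt_of_le_of_ne (show r.comap (Ideal.Quotient.mk p.asIdeal) ≤ q.asIdeal from
            (Ideal.comap_mono hrq.le).trans hcm.le) fun he => hrq.ne ?_
          rw [← Ideal.map_comap_of_surjective _ Ideal.Quotient.mk_surjective r]
          exact congrArg (Ideal.map _) (congrArg PrimeSpectrum.asIdeal he)
      rw [hr0, Ideal.height_bot]
      norm_num
    rw [hc] at this
    exact_mod_cast this
  have key : ∀ s : LTSeries (PrimeSpectrum A), ∀ (i : ℕ) (hi : i < s.length + 1),
      d (s ⟨i, hi⟩) + i ≤ d s.head ∧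
      ((∀ j : Fin s.length, s (Fin.castSucc j) ⋖ s (Fin.succ j)) → d (s ⟨i, hi⟩) + i = d s.head) := by
    intro s i
    induction i with
    | zero => intro hi; exact ⟨le_rfl, fun _ => rfl⟩
    | succ i ih =>
      intro hi
      obtain ⟨a, b⟩ := ih (by omega)
      obtain ⟨c, e⟩ := hlt (s ⟨i, by omega⟩) (s ⟨i + 1, hi⟩) (s.strictMono (by simp [Fin.lt_def]))
      refine ⟨by omega, fun hs => ?_⟩
      have := e (hs ⟨i, by omega⟩)
      have := b hs
      omega
  refine ⟨fun p q _ => ⟨d p, fun s hs _ => ?_⟩, fun s t h1 h2 hs ht => ?_⟩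
  · have := (key s s.length (by omega)).1
    rw [hs] at this
    omega
  · have a := (key s s.length (by omega)).2 hs
    have b := (key t t.length (by omega)).2 ht
    rw [h1] at a
    change d s.last + s.length = _ at a
    change d t.last + t.length = _ at b
    rw [h2] at a
    omega

end Groth.Agent.LeadFCat
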