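import Groth.Agent.LeadFCat.Poly
import Groth.Agent.DimTheory.Algebra

/-!
# Heights of maximal ideals of birational finite type extensions
-/

set_option autoImplicit false
universe u

open IsLocalRing

namespace Groth.Agent.LeadFCat

/-- In a universally catenary local domain, maximal ideals over `m` of birational finite type
extensions have height `dim A`. -/
theorem height_of_birational {A : Type u} [CommRing A] [IsDomain A] [IsNoetherianRing A] [IsLocalRing A]
    (hA : CAlg.IsUniversallyCatenary A) (B : Type u) [CommRing B] [IsDomain B] [Algebra A B]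
    [Algebra.FiniteType A B] (hinj : Function.Injective (algebraMap A B))
    (hbir : ∀ x : B, ∃ a : A, a ≠ 0 ∧ ∃ c : A, algebraMap A B a * x = algebraMap A B c)
    (N : Ideal B) [N.IsMaximal] (hN : N.comap (algebraMap A B) = maximalIdeal A) :
    (N.height : WithBot ℕ∞) = ringKrullDim A := by
  obtain ⟨n, f, hf⟩ := Algebra.FiniteType.iff_quotient_mvPolynomial''.1 (inferInstance : Algebra.FiniteType A B)
  let C := MvPolynomial (Fin n) A
  let P : Ideal C := RingHom.ker f.toRingHom
  have hP : P.IsPrime := RingHom.ker_isPrime _
  let M : Ideal C := N.comap f.toRingHom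
  have hM : M.IsMaximal := Ideal.comap_isMaximal_of_surjective _ hf
  have hPM : P ≤ M := Ideal.comap_mono (f := f.toRingHom) bot_le
  -- height of `P`
  have hP0 : P.comap (algebraMap A C) = ⊥ := by
    rw [eq_bot_iff]
    intro a ha
    have h1 : f (algebraMap A C a) = 0 := ha
    rw [f.commutes] at h1
    exact hinj (h1.trans (map_zero _).symm)
  have hPh : P.height = (n : ℕ∞) := by
    let K := FractionRing A
    let CK := MvPolynomial (Fin n) K
    let _ : Algebra C CK := MvPolynomial.algebraMvPolynomial
    have hloc : IsLocalization ((nonZeroDivisors A).map (MvPolynomial.C : A →+* C)) CK :=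
      MvPolynomial.isLocalization (nonZeroDivisors A) K
    have hdisj : Disjoint (((nonZeroDivisors A).map (MvPolynomial.C : A →+* C) : Submonoid C) : Set C) (P : Set C) := by
      rw [Set.disjoint_left]
      rintro _ ⟨a, ha, rfl⟩ hmem
      have : a ∈ P.comap (algebraMap A C) := hmem
      rw [hP0] at this
      exact nonZeroDivisors.ne_zero ha this
    have hPK : (P.map (algebraMap C CK)).IsPrime := IsLocalization.isPrime_of_isPrime_disjoint _ CK P hP hdisj
    let φ : K →+* CK ⧸ P.map (algebraMap C CK) := (Ideal.Quotient.mk _).comp MvPolynomial.C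
    have hφ : Function.Surjective φ := by
      intro x
      obtain ⟨x, rfl⟩ := Ideal.Quotient.mk_surjective x
      induction x using MvPolynomial.induction_on with
      | C a => exact ⟨a, rfl⟩
      | add p q hp hq =>
        obtain ⟨a, ha⟩ := hp
        obtain ⟨b, hb⟩ := hq
        exact ⟨a + b, by rw [map_add, ha, hb, map_add]⟩
      | mul_X p i hp =>
        obtain ⟨a, ha⟩ := hp
        obtain ⟨d, hd, c, hc⟩ := hbir (f (MvPolynomial.X i))
        have hmem : algebraMap C CK (algebraMap A C d * MvPolynomial.X i - algebraMap A C c) ∈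
            P.map (algebraMap C CK) := Ideal.mem_map_of_mem _ (by
          show f (algebraMap A C d * MvPolynomial.X i - algebraMap A C c) = 0
          rw [map_sub, map_mul, f.commutes, f.commutes, hc, sub_self])
        rw [← Ideal.Quotient.eq_zero_iff_mem, map_sub, map_mul, map_sub, map_mul, sub_eq_zero] at hmem
        have e1 : ∀ r : A, algebraMap C CK (algebraMap A C r) = MvPolynomial.C (algebraMap A K r) := fun r =>
          MvPolynomial.map_C _ r
        rw [e1, e1, show algebraMap C CK (MvPolynomial.X i) = MvPolynomial.X i from MvPolynomial.map_X _ i] at hmem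
        have hdK : algebraMap A K d ≠ 0 := by simpa using hd
        refine ⟨a * (algebraMap A K c / algebraMap A K d), ?_⟩
        rw [map_mul, ha, map_mul]
        congr 1
        refine mul_left_cancel₀ (a := φ (algebraMap A K d)) ((map_ne_zero φ).2 hdK) ?_
        rw [← map_mul, mul_div_cancel₀ _ hdK]
        exact hmem.symm
    have hmax : (P.map (algebraMap C CK)).IsMaximal := by
      have hb : Function.Bijective φ := ⟨φ.injective, hφ⟩
      exact Ideal.Quotient.maximal_of_isField _ ((RingEquiv.ofBijective φ hb).symm.toMulEquiv.isField (Field.toIsField K))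
    rw [← IsLocalization.height_map_of_disjoint ((nonZeroDivisors A).map (MvPolynomial.C : A →+* C)) (S := CK) P hdisj]
    have h1 := DimTheory.height_add_ringKrullDim_quotient' K (P.map (algebraMap C CK))
    let _ := Ideal.Quotient.field (P.map (algebraMap C CK))
    rw [ringKrullDim_eq_zero_of_field, zero_add, MvPolynomial.ringKrullDim_of_isNoetherianRing,
      ringKrullDim_eq_zero_of_field, zero_add] at h1
    rw [Nat.card_eq_fintype_card, Fintype.card_fin] at h1
    exact_mod_cast h1
  -- height of `M`
  have hMover : M.LiesOver (maximalIdeal A) := ⟨by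
    rw [← hN]
    show N.comap (algebraMap A B) = (N.comap f.toRingHom).comap (algebraMap A C)
    rw [Ideal.comap_comap, f.toRingHom_eq_coe, f.comp_algebraMap]⟩
  have hk : (maximalIdeal A).map (algebraMap A C) ≤ M := Ideal.map_le_iff_le_comap.2 hMover.over.le
  have hMh : (M.height : WithBot ℕ∞) = ringKrullDim A + n := by
    rw [Ideal.height_eq_height_add_of_liesOver_of_hasGoingDown (maximalIdeal A) M, WithBot.coe_add,
      IsLocalRing.maximalIdeal_height_eq_ringKrullDim]
    congr 1
    let F := C ⧸ (maximalIdeal A).map (algebraMap A C)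
    let e : MvPolynomial (Fin n) (ResidueField A) ≃+* F :=
      (MvPolynomial.quotientEquivQuotientMvPolynomial (maximalIdeal A)).toRingEquiv
    let M' := (M.map (Ideal.Quotient.mk ((maximalIdeal A).map (algebraMap A C)))).comap e.toRingHom
    have hMq : (M.map (Ideal.Quotient.mk ((maximalIdeal A).map (algebraMap A C)))).IsMaximal :=
      Ideal.IsMaximal.map_of_surjective_of_ker_le Ideal.Quotient.mk_surjective (by rwa [Ideal.mk_ker])
    have hM' : M'.IsMaximal := Ideal.comap_isMaximal_of_surjective _ e.surjective
    have h1 := DimTheory.height_add_ringKrullDim_quotient' (ResidueField A) M'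
    let _ := Ideal.Quotient.field M'
    rw [ringKrullDim_eq_zero_of_field, zero_add, MvPolynomial.ringKrullDim_of_isNoetherianRing,
      ringKrullDim_eq_zero_of_field, zero_add, Nat.card_eq_fintype_card, Fintype.card_fin,
      show M'.height = _ from RingEquiv.height_comap e _] at h1
    exact h1
  -- catenary
  have hcat : CAlg.IsCatenary C := hA.2 C inferInstance
  let p0 : PrimeSpectrum C := ⟨⊥, Ideal.isPrime_bot⟩
  let p1 : PrimeSpectrum C := ⟨P, hP⟩
  let p2 : PrimeSpectrum C := ⟨M, hM.isPrime⟩
  have key : ∀ (x y : PrimeSpectrum C) (hxy : x ≤ y) (k : ℕ), SerreLift.HasLen x y k →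
      (y.asIdeal.map (Ideal.Quotient.mk x.asIdeal)).height = (k : ℕ∞) := by
    intro x y hxy k hk
    have hpr : (y.asIdeal.map (Ideal.Quotient.mk x.asIdeal)).IsPrime :=
      Ideal.map_isPrime_of_surjective Ideal.Quotient.mk_surjective (by rwa [Ideal.mk_ker])
    let g := PrimeSpectrum.comap (Ideal.Quotient.mk x.asIdeal)
    have hg : StrictMono g := RingHom.strictMono_comap_of_surjective Ideal.Quotient.mk_surjective
    let y' : PrimeSpectrum (C ⧸ x.asIdeal) := ⟨_, hpr⟩
    have hy : g y' = y := PrimeSpectrum.ext (LocCohBasic.comap_map_mk hxy)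
    have hge : ∀ z, x ≤ g z := fun z => Ideal.mk_ker.symm.le.trans (Ideal.comap_mono bot_le)
    rw [show (y.asIdeal.map (Ideal.Quotient.mk x.asIdeal)).height = Order.height y' from y'.height_eq_orderHeight]
    refine le_antisymm (Order.height_le fun l hl => ?_) ?_
    · let l' := l.map g hg
      have hlast : l'.last = y := by rw [LTSeries.last_map, hl, hy]
      rcases eq_or_lt_of_le (show x ≤ l'.head by rw [LTSeries.head_map]; exact hge _) with he | hlt
      · exact_mod_cast (show l.length ≤ k from hk.2 l' he.symm hlast)
      · have := hk.2 (l'.cons x hlt) (RelSeries.head_cons ..) (by rw [RelSeries.last_cons]; exact hlast)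
        simp only [RelSeries.cons_length] at this
        exact_mod_cast (show l.length ≤ k by change l.length + 1 ≤ k at this; omega)
    · obtain ⟨⟨s, s1, s2, s3, -⟩, -⟩ := hk
      have hlift : ∀ i, ∃ z, g z = s i := fun i => by
        have h1 : x ≤ s i := s1 ▸ s.monotone (Fin.zero_le i)
        have : s i ∈ PrimeSpectrum.zeroLocus (x.asIdeal : Set C) := h1
        rwa [← Ideal.mk_ker (I := x.asIdeal), ← range_comap_of_surjective _ _ Ideal.Quotient.mk_surjective] at this
      choose t ht using hlift
      let l : LTSeries (PrimeSpectrum (C ⧸ x.asIdeal)) := ⟨s.length, t, fun i => by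
        have h1 := s.step i
        rw [← ht, ← ht] at h1
        show (t i.castSucc).asIdeal < (t i.succ).asIdeal
        refine lt_of_le_not_ge ((Ideal.comap_le_comap_iff_of_surjective _ Ideal.Quotient.mk_surjective _ _).1 h1.le) ?_
        exact fun hle => h1.not_ge (Ideal.comap_mono hle)⟩
      have hlast : l.last = y' := PrimeSpectrum.comap_injective_of_surjective _ Ideal.Quotient.mk_surjective
        ((ht _).trans (s2.trans hy.symm))
      rw [← s3]
      exact Order.length_le_height (p := l) hlast.le
  obtain ⟨a, ha⟩ := SerreLift.exists_hasLen hcat (show p0 ≤ p1 from bot_le (a := P))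
  obtain ⟨b, hb⟩ := SerreLift.exists_hasLen hcat (show p1 ≤ p2 from hPM)
  obtain ⟨c, hc⟩ := SerreLift.exists_hasLen hcat (show p0 ≤ p2 from bot_le (a := M))
  have e := ha.add hcat hb hc
  have hbot : ∀ (I : Ideal C) [I.IsPrime], (I.map (Ideal.Quotient.mk (⊥ : Ideal C))).height = I.height := fun I _ => by
    have h1 : I.map (RingEquiv.quotientBot C).symm.toRingHom = I.map (Ideal.Quotient.mk (⊥ : Ideal C)) := rfl
    rw [← h1]
    exact RingEquiv.height_map _ _
  have k1 := key p0 p1 bot_le a ha
  have k2 := key p1 p2 hPM b hb
  have k3 := key p0 p2 bot_le c hc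
  dsimp only [p0, p1, p2] at k1 k2 k3
  rw [hbot P, hPh] at k1
  rw [hbot M] at k3
  have hNh : N.height = (b : ℕ∞) := by
    rw [← k2]
    let e' : (C ⧸ P) ≃+* B := RingHom.quotientKerEquivOfSurjective hf
    have : N.comap e'.toRingHom = M.map (Ideal.Quotient.mk P) := by
      refine Ideal.ext fun z => ?_
      obtain ⟨z, rfl⟩ := Ideal.Quotient.mk_surjective z
      rw [Ideal.mem_comap, ← Ideal.mem_comap (f := Ideal.Quotient.mk P) (K := M.map _),
        LocCohBasic.comap_map_mk hPM]
      rfl
    rw [← this]
    exact (RingEquiv.height_comap e' N).symm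
  obtain ⟨d, hd⟩ := exists_dim A
  rw [k3, hd] at hMh
  have e2 : c = d + n := by exact_mod_cast hMh
  have e3 : n = a := by exact_mod_cast k1
  rw [hNh, hd]
  exact_mod_cast (show b = d by omega)

end Groth.Agent.LeadFCat
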