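import Groth.Agent.LeadFCat.Flat
import Groth.Agent.Hensel.CplEquiv

/-!
# Formally equidimensional local rings
-/

set_option autoImplicit false
universe u

open IsLocalRing
open scoped TensorProduct

namespace Groth.Agent.LeadFCat

variable (A : Type u) [CommRing A] [IsNoetherianRing A] [IsLocalRing A]

theorem cpl_map_maximalIdeal : (maximalIdeal A).map (algebraMap A (EGA4.Cpl A)) = maximalIdeal (EGA4.Cpl A) :=
  AdicCompletion.maximalIdeal_eq_map.symm

theorem cpl_fibre_dim :
    ringKrullDim (EGA4.Cpl A ⧸ (maximalIdeal A).map (algebraMap A (EGA4.Cpl A))) = 0 := by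
  rw [cpl_map_maximalIdeal]
  exact ringKrullDim_eq_zero_of_isField ((Ideal.Quotient.maximal_ideal_iff_isField_quotient _).1 (maximalIdeal.isMaximal _))

theorem isUniversallyCatenary_of_complete (R : Type u) [CommRing R] [IsLocalRing R] [IsNoetherianRing R]
    [IsAdicComplete (maximalIdeal R) R] : CAlg.IsUniversallyCatenary R := by
  obtain ⟨S, _, hS, g, hg⟩ := LocDuality.exists_regular_surjection (R := R)
  exact LeadExc.isUniversallyCatenary_of_surjective g hg
    (LeadExc.isUniversallyCatenary_of_isCohenMacaulayRing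
      (have := LocCohBasic.isCohenMacaulayLocalRing_of_isRegularLocalRing (R := S); Depth.isCohenMacaulayRing_of_local))

theorem cpl_isUniversallyCatenary : CAlg.IsUniversallyCatenary (EGA4.Cpl A) := by
  have : IsAdicComplete (maximalIdeal (EGA4.Cpl A)) (EGA4.Cpl A) := by
    rw [← cpl_map_maximalIdeal]
    exact AdicCompletion.isAdicComplete_self _ (IsNoetherian.noetherian _)
  exact isUniversallyCatenary_of_complete _

theorem cpl_isCatenary : CAlg.IsCatenary (EGA4.Cpl A) :=
  CatenaryLib.isCatenary_of_essFiniteType (B := EGA4.Cpl A) (cpl_isUniversallyCatenary A)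

theorem isFormallyEquidim_quot_iff (a : Ideal A) [Nontrivial (A ⧸ a)] :
    EGA4.IsFormallyEquidim (A ⧸ a) ↔
      EGA4.IsEquidim (EGA4.Cpl A ⧸ a.map (algebraMap A (EGA4.Cpl A))) := by
  obtain ⟨e⟩ := RegLocus.cplQuotient_equiv A a
  let e1 : EGA4.Cpl (A ⧸ a) ≃+* EGA4.Cpl A ⧸ a.map (algebraMap A (EGA4.Cpl A)) :=
    (e.symm.toRingEquiv.trans (Algebra.TensorProduct.comm A (A ⧸ a) (EGA4.Cpl A)).toRingEquiv).trans
      (Algebra.TensorProduct.quotIdealMapEquivTensorQuot (EGA4.Cpl A) a).symm.toRingEquiv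
  exact ⟨fun h => isEquidim_of_ringEquiv e1 h, fun h => isEquidim_of_ringEquiv e1.symm h⟩

theorem isEquidim_of_isFormallyEquidim (h : EGA4.IsFormallyEquidim A) : EGA4.IsEquidim A :=
  isEquidim_descent A (EGA4.Cpl A) h (cpl_isCatenary A)

theorem isCatenary_of_isFormallyEquidim (h : EGA4.IsFormallyEquidim A) : CAlg.IsCatenary A :=
  isCatenary_descent A (EGA4.Cpl A) h (cpl_isCatenary A)

theorem isEquidim_quot_iff_formally (h : EGA4.IsFormallyEquidim A) (a : Ideal A) [Nontrivial (A ⧸ a)] :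
    EGA4.IsEquidim (A ⧸ a) ↔ EGA4.IsFormallyEquidim (A ⧸ a) := by
  rw [isFormallyEquidim_quot_iff]
  exact (isEquidim_quot_iff_of_fibre A (EGA4.Cpl A) h (cpl_isCatenary A) (cpl_fibre_dim A) a).symm

theorem isFormallyEquidim_iff_minimal : EGA4.IsFormallyEquidim A ↔
    (EGA4.IsEquidim A ∧ ∀ (p : Ideal A) [p.IsPrime], p ∈ minimalPrimes A → EGA4.IsFormallyEquidim (A ⧸ p)) := by
  constructor
  · intro h
    refine ⟨isEquidim_of_isFormallyEquidim A h, fun p _ _ => ?_⟩
    rw [isFormallyEquidim_quot_iff]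
    exact isEquidim_map_prime A (EGA4.Cpl A) h (cpl_isCatenary A) p
  · rintro ⟨heq, h⟩ P' hP'
    have hP'' : P' ∈ ((⊥ : Ideal A).map (algebraMap A (EGA4.Cpl A))).minimalPrimes := by
      rw [Ideal.map_bot]; exact hP'
    obtain ⟨h1, h2⟩ := under_mem_minimal (⊥ : Ideal A) P' hP''
    have := h1.1.1
    have hp : P'.comap (algebraMap A (EGA4.Cpl A)) ∈ minimalPrimes A := h1
    have h3 := (isEquidim_quot_iff _).1 ((isFormallyEquidim_quot_iff A _).1 (h _ hp)) P' h2
    rw [h3, dim_quot_eq_add A (EGA4.Cpl A) _ (Ideal.IsPrime.ne_top inferInstance), cpl_fibre_dim, add_zero,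
      heq _ hp, CAlgCompl.ringKrullDim_adicCompletion]

theorem isEquidim_of_isCohenMacaulay {R : Type u} [CommRing R] [LocCoh.IsCohenMacaulayLocalRing R] :
    EGA4.IsEquidim R := by
  intro P hP
  have := hP.1.1
  have hCM := Depth.isCohenMacaulayRing_of_local (R := R)
  have hle : P ≤ maximalIdeal R := le_maximalIdeal this.ne_top
  have : Nontrivial (R ⧸ P) := Ideal.Quotient.nontrivial_iff.2 this.ne_top
  have : IsLocalRing (R ⧸ P) := IsLocalRing.of_surjective' (Ideal.Quotient.mk P) Ideal.Quotient.mk_surjective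
  have h1 := LocDuality.height_eq_add hCM P (maximalIdeal R) hle
  rw [Ideal.height_eq_zero_iff.2 hP, zero_add, IsLocalRing.map_maximalIdeal_of_surjective _ Ideal.Quotient.mk_surjective] at h1
  rw [← maximalIdeal_height_eq_ringKrullDim, ← maximalIdeal_height_eq_ringKrullDim, h1]

theorem isFormallyEquidim_of_isCohenMacaulay [LocCoh.IsCohenMacaulayLocalRing A] :
    EGA4.IsFormallyEquidim A := by
  have : LocCoh.IsCohenMacaulayLocalRing (EGA4.Cpl A) := by
    refine (FlatLocalDepth.isCohenMacaulayLocalRing_iff A (EGA4.Cpl A)).2 ⟨‹_›, ?_⟩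
    rw [cpl_map_maximalIdeal]
    have : IsRegularLocalRing (EGA4.Cpl A ⧸ maximalIdeal (EGA4.Cpl A)) :=
      let _ := Ideal.Quotient.field (maximalIdeal (EGA4.Cpl A)); inferInstance
    exact LocCohBasic.isCohenMacaulayLocalRing_of_isRegularLocalRing
  exact isEquidim_of_isCohenMacaulay

theorem isFormallyCatenary_quot_of_isCohenMacaulay {R : Type u} [CommRing R] [LocCoh.IsCohenMacaulayLocalRing R]
    {B : Type u} [CommRing B] [IsNoetherianRing B] [IsLocalRing B] [Algebra R B]
    (hs : Function.Surjective (algebraMap R B)) : EGA4.IsFormallyCatenary B := by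
  intro p _
  let φ : R →+* B ⧸ p := (Ideal.Quotient.mk p).comp (algebraMap R B)
  have hφ : Function.Surjective φ := Ideal.Quotient.mk_surjective.comp hs
  have : (RingHom.ker φ).IsPrime := RingHom.ker_isPrime φ
  have : Nontrivial (R ⧸ RingHom.ker φ) := Ideal.Quotient.nontrivial_iff.2 this.ne_top
  have h1 : EGA4.IsFormallyEquidim (R ⧸ RingHom.ker φ) := by
    rw [isFormallyEquidim_quot_iff]
    exact isEquidim_map_prime R (EGA4.Cpl R) (isFormallyEquidim_of_isCohenMacaulay R) (cpl_isCatenary R) _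
  let e : (R ⧸ RingHom.ker φ) ≃+* (B ⧸ p) := RingHom.quotientKerEquivOfSurjective hφ
  let _ := e.toRingHom.toAlgebra
  obtain ⟨E, -⟩ := Hensel.exists_completion_equiv (maximalIdeal (R ⧸ RingHom.ker φ)) (maximalIdeal (B ⧸ p))
    (fun n => by rw [Ideal.map_pow]; exact congrArg (· ^ n) (IsLocalRing.map_maximalIdeal_of_surjective e.toRingHom e.surjective))
    (fun n => ⟨Ideal.quotientMap_injective' (fun x hx => by
        rw [Ideal.mem_comap] at hx
        obtain ⟨y, hy, hxy⟩ := (Ideal.mem_map_iff_of_surjective e.toRingHom e.surjective).1 hx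
        exact e.injective hxy ▸ hy),
      Ideal.quotientMap_surjective e.surjective⟩)
  exact isEquidim_of_ringEquiv E h1

end Groth.Agent.LeadFCat
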