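import Groth.Agent.DimFormula.Basic
import Groth.Agent.LeadFCat.Birational

/-!
# The dimension formula over universally catenary domains
-/

set_option autoImplicit false
universe u

open Polynomial

namespace Groth.Agent.LeadFCat

/-- The common length of the saturated chains from `x` to `y` is the height of `y/x`. -/
theorem height_map_mk_eq {C : Type u} [CommRing C] (x y : PrimeSpectrum C) (hxy : x ≤ y) (k : ℕ)
    (hk : SerreLift.HasLen x y k) : (y.asIdeal.map (Ideal.Quotient.mk x.asIdeal)).height = (k : ℕ∞) := by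
  have hpr : (y.asIdeal.map (Ideal.Quotient.mk x.asIdeal)).IsPrime :=
    Ideal.map_isPrime_of_surjective Ideal.Quotient.mk_surjective (by rwa [Ideal.mk_ker])
  let g := PrimeSpectrum.comap (Ideal.Quotient.mk x.asIdeal)
  have hg : StrictMono g := RingHom.strictMono_comap_of_surjective Ideal.Quotient.mk_surjective
  let y' : PrimeSpectrum (C ⧸ x.asIdeal) := ⟨_, hpr⟩
  have hy : g y' = y := PrimeSpectrum.ext (LocCohBasic.comap_map_mk hxy)
  have hge : ∀ z, x ≤ g z := fun z => Ideal.mk_ker.symm.le.trans (Ideal.comap_mono bot_le)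
  rw [show (y.asIdeal.map (Ideal.Quotient.mk x.asIdeal)).height = Order.height y' from y'.height_eq_orderHeight]
  refine le_antisymm (Order.height_le fun l hl => ?_) ?_
  · let l' := l.map g hg
    have hlast : l'.last = y := by rw [LTSeries.last_map, hl, hy]
    rcases eq_or_lt_of_le (show x ≤ l'.head by rw [LTSeries.head_map]; exact hge _) with he | hlt
    · exact_mod_cast (show l.length ≤ k from hk.2 l' he.symm hlast)
    · have := hk.2 (l'.cons x hlt) (RelSeries.head_cons ..) (by rw [RelSeries.last_cons]; exact hlast)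
      simp only [RelSeries.cons_length] at this
      exact_mod_cast (show l.length ≤ k by change l.length + 1 ≤ k at this; omega)
  · obtain ⟨⟨s, s1, s2, s3, -⟩, -⟩ := hk
    have hlift : ∀ i, ∃ z, g z = s i := fun i => by
      have h1 : x ≤ s i := s1 ▸ s.monotone (Fin.zero_le i)
      have : s i ∈ PrimeSpectrum.zeroLocus (x.asIdeal : Set C) := h1
      rwa [← Ideal.mk_ker (I := x.asIdeal), ← range_comap_of_surjective _ _ Ideal.Quotient.mk_surjective] at this
    choose t ht using hlift
    let l : LTSeries (PrimeSpectrum (C ⧸ x.asIdeal)) := ⟨s.length, t, fun i => by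
      have h1 := s.step i
      rw [← ht, ← ht] at h1
      show (t i.castSucc).asIdeal < (t i.succ).asIdeal
      refine lt_of_le_not_ge ((Ideal.comap_le_comap_iff_of_surjective _ Ideal.Quotient.mk_surjective _ _).1 h1.le) ?_
      exact fun hle => h1.not_ge (Ideal.comap_mono hle)⟩
    have hlast : l.last = y' := PrimeSpectrum.comap_injective_of_surjective _ Ideal.Quotient.mk_surjective
      ((ht _).trans (s2.trans hy.symm))
    rw [← s3]
    exact Order.length_le_height (p := l) hlast.le

/-- In a catenary domain `ht Q = ht P + ht (Q/P)`, for a surjection with kernel `P`. -/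
theorem height_comap_eq_add {C B : Type u} [CommRing C] [IsDomain C] [CommRing B]
    (hcat : CAlg.IsCatenary C) (φ : C →+* B) (hφ : Function.Surjective φ) [(RingHom.ker φ).IsPrime]
    (q : Ideal B) [q.IsPrime] : (q.comap φ).height = (RingHom.ker φ).height + q.height := by
  let p0 : PrimeSpectrum C := ⟨⊥, Ideal.isPrime_bot⟩
  let p1 : PrimeSpectrum C := ⟨RingHom.ker φ, inferInstance⟩
  let p2 : PrimeSpectrum C := ⟨q.comap φ, Ideal.IsPrime.comap φ⟩
  have h12 : p1 ≤ p2 := Ideal.comap_mono bot_le
  obtain ⟨a, ha⟩ := SerreLift.exists_hasLen hcat (show p0 ≤ p1 from bot_le (a := RingHom.ker φ))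
  obtain ⟨b, hb⟩ := SerreLift.exists_hasLen hcat h12
  obtain ⟨c, hc⟩ := SerreLift.exists_hasLen hcat (show p0 ≤ p2 from bot_le (a := q.comap φ))
  have hbot : ∀ (I : Ideal C) [I.IsPrime], (I.map (Ideal.Quotient.mk (⊥ : Ideal C))).height = I.height := fun I _ => by
    have h1 : I.map (RingEquiv.quotientBot C).symm.toRingHom = I.map (Ideal.Quotient.mk (⊥ : Ideal C)) := rfl
    rw [← h1]
    exact RingEquiv.height_map _ _
  have k1 := height_map_mk_eq p0 p1 bot_le a ha
  have k2 := height_map_mk_eq p1 p2 h12 b hb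
  have k3 := height_map_mk_eq p0 p2 bot_le c hc
  dsimp only [p0, p1, p2] at k1 k2 k3
  rw [hbot (RingHom.ker φ)] at k1
  rw [hbot (q.comap φ)] at k3
  have hq : q.height = (b : ℕ∞) := by
    rw [← k2]
    let e : (C ⧸ RingHom.ker φ) ≃+* B := RingHom.quotientKerEquivOfSurjective hφ
    have : q.comap e.toRingHom = (q.comap φ).map (Ideal.Quotient.mk (RingHom.ker φ)) := by
      refine Ideal.ext fun z => ?_
      obtain ⟨z, rfl⟩ := Ideal.Quotient.mk_surjective z
      rw [Ideal.mem_comap, ← Ideal.mem_comap (f := Ideal.Quotient.mk (RingHom.ker φ)) (K := (q.comap φ).map _),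
        LocCohBasic.comap_map_mk h12]
      rfl
    rw [← this]
    exact (RingEquiv.height_comap e q).symm
  rw [k1, k3, hq, ha.add hcat hb hc]
  norm_cast

/-- The dimension formula, in natural numbers. -/
def DimEq (A B : Type u) [CommRing A] [CommRing B] [Algebra A B] : Prop :=
  ∀ (p : Ideal A) [p.IsPrime] (q : Ideal B) [q.IsPrime] [q.LiesOver p],
    ∃ h h' t T : ℕ, q.height = h ∧ p.height = h' ∧
      Algebra.trdeg (A ⧸ p) (B ⧸ q) = t ∧ Algebra.trdeg A B = T ∧ h + t = h' + T

theorem dimEq_monogenic {A B : Type u} [CommRing A] [CommRing B] [Algebra A B] [IsDomain A]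
    [IsDomain B] [IsNoetherianRing A] [FaithfulSMul A B] (hcat : CAlg.IsCatenary A[X]) (x : B)
    (hx : Algebra.adjoin A ({x} : Set B) = ⊤) : DimEq A B := by
  intro p _ q _ _
  let φ : A[X] →ₐ[A] B := aeval x
  have hφ : Function.Surjective φ := fun b => by
    have : b ∈ Algebra.adjoin A ({x} : Set B) := hx ▸ Algebra.mem_top
    rwa [Algebra.adjoin_singleton_eq_range_aeval] at this
  let Q := q.comap φ.toRingHom
  haveI : Q.LiesOver p := ⟨by
    show p = (q.comap φ.toRingHom).comap (algebraMap A A[X])
    rw [q.over_def p]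
    show q.comap (algebraMap A B) = _
    rw [Ideal.comap_comap, AlgHom.toRingHom_eq_coe, φ.comp_algebraMap]⟩
  let χ : (A[X] ⧸ Q) →ₐ[A ⧸ p] (B ⧸ q) :=
    { toRingHom := Ideal.quotientMap q φ.toRingHom le_rfl
      commutes' := fun a => by
        obtain ⟨a, rfl⟩ := Ideal.Quotient.mk_surjective a
        show Ideal.quotientMap q φ.toRingHom le_rfl (Ideal.Quotient.mk Q (algebraMap A A[X] a)) = _
        rw [Ideal.quotientMap_mk]
        exact congrArg (Ideal.Quotient.mk q) (φ.commutes a) }
  have hχ : Function.Bijective χ :=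
    ⟨Ideal.quotientMap_injective, Ideal.quotientMap_surjective (H := le_rfl) hφ⟩
  have ht := (AlgEquiv.ofBijective χ hχ).trdeg_eq
  obtain ⟨h', hh'⟩ := exists_height p
  by_cases hker : Function.Injective φ
  · let e := AlgEquiv.ofBijective φ ⟨hker, hφ⟩
    have hq : Q.height = q.height := e.toRingEquiv.height_comap q
    have hT : Algebra.trdeg A B = 1 := by rw [← e.trdeg_eq, Polynomial.trdeg_of_isDomain]
    rcases DimFormula.polynomial_cases p Q with ⟨h1, h2⟩ | ⟨h1, h2⟩
    · exact ⟨h', h', 1, 1, by rw [← hq, h1, hh'], hh', by rw [← ht, h2, Nat.cast_one],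
        by rw [hT, Nat.cast_one], rfl⟩
    · exact ⟨h' + 1, h', 0, 1, by rw [← hq, h1, hh', Nat.cast_add, Nat.cast_one], hh',
        by rw [← ht, h2, Nat.cast_zero], by rw [hT, Nat.cast_one], by omega⟩
  · obtain ⟨g, hg, hg0⟩ : ∃ g : A[X], φ g = 0 ∧ g ≠ 0 := by
      simpa [injective_iff_map_eq_zero] using hker
    have hX : IsAlgebraic A x := ⟨g, hg0, hg⟩
    haveI : Algebra.IsAlgebraic A B := ⟨fun y => by
      have : Algebra.adjoin A ({x} : Set B) ≤ Subalgebra.algebraicClosure A B :=
        Algebra.adjoin_le (Set.singleton_subset_iff.mpr hX)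
      exact this (hx ▸ Algebra.mem_top)⟩
    have hT : Algebra.trdeg A B = 0 := trdeg_eq_zero
    haveI : IsNoetherianRing B := isNoetherianRing_of_surjective _ B φ.toRingHom hφ
    haveI : (RingHom.ker φ.toRingHom).IsPrime := RingHom.ker_isPrime _
    have h1' : (RingHom.ker φ.toRingHom).height = 1 := by
      refine DimFormula.height_le_one_of_comap_eq_bot _ (eq_bot_iff.2 fun a ha => ?_) ?_
      · refine FaithfulSMul.algebraMap_injective A B ?_
        rw [map_zero, ← φ.commutes]
        exact ha
      · intro h0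
        have h2 : g ∈ RingHom.ker φ.toRingHom := hg
        rw [h0, Ideal.mem_bot] at h2
        exact hg0 h2
    have hQ : Q.height = 1 + q.height := by
      rw [← h1']
      exact height_comap_eq_add hcat φ.toRingHom hφ q
    obtain ⟨h, hh⟩ := exists_height q
    rcases DimFormula.polynomial_cases p Q with ⟨h1, h2⟩ | ⟨h1, h2⟩ <;> rw [hQ, hh, hh'] at h1
    · exact ⟨h, h', 1, 0, hh, hh', by rw [← ht, h2, Nat.cast_one], by rw [hT, Nat.cast_zero],
        by norm_cast at h1; omega⟩
    · exact ⟨h, h', 0, 0, hh, hh', by rw [← ht, h2, Nat.cast_zero], by rw [hT, Nat.cast_zero],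
        by norm_cast at h1; omega⟩

theorem dimEq_trans {A B C : Type u} [CommRing A] [CommRing B] [CommRing C] [Algebra A B]
    [Algebra B C] [Algebra A C] [IsScalarTower A B C] [IsDomain A] [IsDomain B] [IsDomain C]
    [FaithfulSMul A B] [FaithfulSMul B C] (h1 : DimEq A B) (h2 : DimEq B C) : DimEq A C := by
  intro p _ q _ _
  haveI hqp : (q.under B).LiesOver p := ⟨(q.over_def p).trans (Ideal.under_under (A := A) (B := B) q).symm⟩
  obtain ⟨a, b, t, T, ha, hb, ht, hT, hle⟩ := h2 (q.under B) q
  obtain ⟨b', c, t', T', hb', hc, ht', hT', hle'⟩ := h1 p (q.under B)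
  rw [hb] at hb'
  obtain rfl : b = b' := by exact_mod_cast hb'
  haveI : IsScalarTower (A ⧸ p) (B ⧸ q.under B) (C ⧸ q) := IsScalarTower.of_algebraMap_eq fun y => by
    obtain ⟨y, rfl⟩ := Ideal.Quotient.mk_surjective y
    exact congrArg (Ideal.Quotient.mk q) (IsScalarTower.algebraMap_apply A B C y)
  refine ⟨a, c, t' + t, T' + T, ha, hc, ?_, ?_, by omega⟩
  · rw [Nat.cast_add, ← ht, ← ht', trdeg_add_eq]
  · rw [Nat.cast_add, ← hT, ← hT', trdeg_add_eq]

theorem dimEq {A : Type u} [CommRing A] [IsDomain A] (hA : CAlg.IsUniversallyCatenary A) (B : Type u)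
    [CommRing B] [IsDomain B] [Algebra A B] [FaithfulSMul A B] [hft : Algebra.FiniteType A B] :
    DimEq A B := by
  classical
  have := hA.1
  suffices ∀ (n : ℕ) (B : Type u) [CommRing B] [IsDomain B] [Algebra A B] [FaithfulSMul A B]
      (s : Finset B), s.card ≤ n → Algebra.adjoin A (s : Set B) = ⊤ → DimEq A B by
    obtain ⟨s, hs⟩ := hft.out
    exact this _ B s le_rfl hs
  intro n
  induction n with
  | zero =>
    intro B _ _ _ _ s hn hs
    obtain rfl : s = ∅ := Finset.card_eq_zero.mp (by omega)
    refine dimEq_monogenic (hA.2 _ inferInstance) (0 : B) (top_le_iff.mp (hs ▸ ?_))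
    exact Algebra.adjoin_mono (by simp)
  | succ n ih =>
    intro B _ _ _ _ s hn hs
    by_cases hs' : s = ∅
    · exact ih B s (by simp [hs']) hs
    obtain ⟨x, hx⟩ := Finset.nonempty_iff_ne_empty.mpr hs'
    let B' := Algebra.adjoin A (((s.erase x : Finset B)) : Set B)
    haveI : FaithfulSMul A B' := (faithfulSMul_iff_algebraMap_injective _ _).mpr fun a b h =>
      FaithfulSMul.algebraMap_injective A B (congrArg Subtype.val h)
    haveI : Algebra.FiniteType A B' :=
      (Subalgebra.fg_iff_finiteType _).mp ⟨_, rfl⟩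
    haveI : IsNoetherianRing B' := Algebra.FiniteType.isNoetherianRing A B'
    let s' : Finset B' := (s.erase x).attach.map ⟨fun y => ⟨y.1, Algebra.subset_adjoin y.2⟩,
      fun a b h => Subtype.ext (show a.1 = b.1 by simpa using h)⟩
    have h1 : DimEq A B' := by
      refine ih B' s' ?_ ?_
      · simp [s', Finset.card_erase_of_mem hx]; omega
      · refine top_le_iff.mp fun z _ => ?_
        have hz := z.2
        have : (Algebra.adjoin A (s' : Set B')).map B'.val = B' := by
          rw [AlgHom.map_adjoin]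
          congr 1
          ext y
          simp only [Set.mem_image, Finset.mem_coe, s', Finset.mem_map, Finset.mem_attach, true_and]
          constructor
          · rintro ⟨_, ⟨a, rfl⟩, rfl⟩
            exact a.2
          · exact fun h => ⟨_, ⟨⟨y, h⟩, rfl⟩, rfl⟩
        replace hz := (SetLike.ext_iff.mp this z.1).mpr hz
        obtain ⟨w, hw, hwz⟩ := hz
        exact (Subtype.ext hwz : w = z) ▸ hw
    have hcat : CAlg.IsCatenary (Polynomial B') :=
      hA.2 _ (Algebra.FiniteType.trans (S := B') inferInstance inferInstance)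
    refine dimEq_trans h1 (dimEq_monogenic hcat x (top_le_iff.mp fun z _ => ?_))
    have hz : z ∈ Algebra.adjoin A (s : Set B) := hs ▸ Algebra.mem_top
    induction hz using Algebra.adjoin_induction with
    | mem y hy =>
      by_cases hyx : y = x
      · exact hyx ▸ Algebra.subset_adjoin rfl
      · exact Subalgebra.algebraMap_mem (Algebra.adjoin B' {x})
          (⟨y, Algebra.subset_adjoin (Finset.mem_erase.mpr ⟨hyx, hy⟩)⟩ : B')
    | algebraMap a =>
      exact Subalgebra.algebraMap_mem (Algebra.adjoin B' {x}) (algebraMap A B' a)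
    | add a b _ _ ha hb => exact add_mem (ha trivial) (hb trivial)
    | mul a b _ _ ha hb => exact mul_mem (ha trivial) (hb trivial)

/-- Finite extensions of universally catenary domains preserve heights. -/
theorem height_eq_under_of_finite {A : Type u} [CommRing A] [IsDomain A]
    (hA : CAlg.IsUniversallyCatenary A) {B : Type u} [CommRing B] [IsDomain B] [Algebra A B]
    [FaithfulSMul A B] [Module.Finite A B] (q : Ideal B) [q.IsPrime] :
    q.height = (q.under A).height := by
  obtain ⟨h, h', t, T, hh, hh', ht, hT, he⟩ := dimEq hA B (q.under A) q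
  haveI hint : Algebra.IsIntegral (A ⧸ q.under A) (B ⧸ q) := ⟨fun y => by
    obtain ⟨y, rfl⟩ := Ideal.Quotient.mk_surjective y
    exact (((Algebra.IsIntegral.isIntegral (R := A) y).map (Ideal.Quotient.mkₐ A q))).tower_top⟩
  haveI : Algebra.IsAlgebraic (A ⧸ q.under A) (B ⧸ q) := Algebra.IsIntegral.isAlgebraic
  have t0 : Algebra.trdeg (A ⧸ q.under A) (B ⧸ q) = 0 := trdeg_eq_zero
  have T0 : Algebra.trdeg A B = 0 := trdeg_eq_zero
  rw [t0] at ht
  rw [T0] at hT
  have : t = 0 := by exact_mod_cast ht.symm
  have : T = 0 := by exact_mod_cast hT.symm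
  rw [hh, hh']
  congr 1
  omega

end Groth.Agent.LeadFCat
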