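import Groth.Agent.LeadFCat.DimEq
import Groth.Agent.SymGr.NagataJac

/-!
# The dimension formula at primes over the maximal ideal
-/

set_option autoImplicit false
universe u

open Polynomial IsLocalRing

namespace Groth.Agent.LeadFCat

/-- `ht Q = ht P + ht (Q/P)` when the local ring at `Q` is catenary. -/
theorem height_eq_add_of_catenary_atPrime {C : Type u} [CommRing C] [IsDomain C] (K Q : Ideal C) [K.IsPrime]
    [Q.IsPrime] (hKQ : K ≤ Q) (hcat : CAlg.IsCatenary (Localization.AtPrime Q)) :
    Q.height = K.height + (Q.map (Ideal.Quotient.mk K)).height := by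
  let L := Localization.AtPrime Q
  let KL := K.map (algebraMap C L)
  have hdisj : Disjoint (Q.primeCompl : Set C) K := Set.disjoint_left.2 fun c hc hcr => hc (hKQ hcr)
  have : KL.IsPrime := IsLocalization.isPrime_of_isPrime_disjoint Q.primeCompl L K ‹_› hdisj
  have : IsDomain L := inferInstance
  have : IsLocalRing (L ⧸ KL) := IsLocalRing.of_surjective' (Ideal.Quotient.mk KL) Ideal.Quotient.mk_surjective
  have : (RingHom.ker (Ideal.Quotient.mk KL)).IsPrime := by rwa [Ideal.mk_ker]
  have h := height_comap_eq_add hcat (Ideal.Quotient.mk KL) Ideal.Quotient.mk_surjective (maximalIdeal (L ⧸ KL))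
  have hm : (maximalIdeal (L ⧸ KL)).comap (Ideal.Quotient.mk KL) = maximalIdeal L := by
    rw [← IsLocalRing.map_maximalIdeal_of_surjective (Ideal.Quotient.mk KL) Ideal.Quotient.mk_surjective,
      LocCohBasic.comap_map_mk (le_maximalIdeal Ideal.IsPrime.ne_top')]
  rw [hm, Ideal.mk_ker] at h
  have h1 : (maximalIdeal L).height = Q.height := by
    have e := IsLocalization.AtPrime.ringKrullDim_eq_height Q L
    rw [← IsLocalRing.maximalIdeal_height_eq_ringKrullDim (R := L)] at e
    exact WithBot.coe_inj.1 e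
  have h2 : KL.height = K.height := by
    have e : KL.under C = K := IsLocalization.under_map_of_isPrime_disjoint Q.primeCompl L ‹_› hdisj
    rw [← IsLocalization.height_under Q.primeCompl KL, e]
  have : (Q.map (Ideal.Quotient.mk K)).IsPrime :=
    Ideal.map_isPrime_of_surjective Ideal.Quotient.mk_surjective (by rwa [Ideal.mk_ker])
  have h3 : (maximalIdeal (L ⧸ KL)).height = (Q.map (Ideal.Quotient.mk K)).height := by
    obtain ⟨e⟩ := SymGr.nonempty_localization_quotient_equiv K Q hKQ
    have e1 := ringKrullDim_eq_of_ringEquiv e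
    rw [← IsLocalRing.maximalIdeal_height_eq_ringKrullDim (R := L ⧸ KL),
      IsLocalization.AtPrime.ringKrullDim_eq_height (Q.map (Ideal.Quotient.mk K))] at e1
    exact WithBot.coe_inj.1 e1
  rw [← h1, h, h2, h3]

/-- The dimension formula at one prime. -/
def DimEqAt (A B : Type u) [CommRing A] [CommRing B] [Algebra A B] (p : Ideal A) (q : Ideal B) [q.LiesOver p] : Prop :=
  ∃ h h' t T : ℕ, q.height = h ∧ p.height = h' ∧
    Algebra.trdeg (A ⧸ p) (B ⧸ q) = t ∧ Algebra.trdeg A B = T ∧ h + t = h' + T

theorem dimEqAt_monogenic {A B : Type u} [CommRing A] [CommRing B] [Algebra A B] [IsDomain A]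
    [IsDomain B] [IsNoetherianRing A] [FaithfulSMul A B] (x : B)
    (hx : Algebra.adjoin A ({x} : Set B) = ⊤) (p : Ideal A) [p.IsPrime] (q : Ideal B) [q.IsPrime] [q.LiesOver p]
    (hcat : ∀ (Q : Ideal A[X]) [Q.IsPrime], Q.comap (algebraMap A A[X]) = p → CAlg.IsCatenary (Localization.AtPrime Q)) :
    DimEqAt A B p q := by
  let φ : A[X] →ₐ[A] B := aeval x
  have hφ : Function.Surjective φ := fun b => by
    have : b ∈ Algebra.adjoin A ({x} : Set B) := hx ▸ Algebra.mem_top
    rwa [Algebra.adjoin_singleton_eq_range_aeval] at this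
  let Q := q.comap φ.toRingHom
  haveI : Q.LiesOver p := ⟨by
    show p = (q.comap φ.toRingHom).comap (algebraMap A A[X])
    rw [q.over_def p]
    show q.comap (algebraMap A B) = _
    rw [Ideal.comap_comap, AlgHom.toRingHom_eq_coe, φ.comp_algebraMap]⟩
  let χ : (A[X] ⧸ Q) →ₐ[A ⧸ p] (B ⧸ q) :=
    { toRingHom := Ideal.quotientMap q φ.toRingHom le_rfl
      commutes' := fun a => by
        obtain ⟨a, rfl⟩ := Ideal.Quotient.mk_surjective a
        show Ideal.quotientMap q φ.toRingHom le_rfl (Ideal.Quotient.mk Q (algebraMap A A[X] a)) = _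
        rw [Ideal.quotientMap_mk]
        exact congrArg (Ideal.Quotient.mk q) (φ.commutes a) }
  have hχ : Function.Bijective χ :=
    ⟨Ideal.quotientMap_injective, Ideal.quotientMap_surjective (H := le_rfl) hφ⟩
  have ht := (AlgEquiv.ofBijective χ hχ).trdeg_eq
  obtain ⟨h', hh'⟩ := exists_height p
  by_cases hker : Function.Injective φ
  · let e := AlgEquiv.ofBijective φ ⟨hker, hφ⟩
    have hq : Q.height = q.height := e.toRingEquiv.height_comap q
    have hT : Algebra.trdeg A B = 1 := by rw [← e.trdeg_eq, Polynomial.trdeg_of_isDomain]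
    rcases DimFormula.polynomial_cases p Q with ⟨h1, h2⟩ | ⟨h1, h2⟩
    · exact ⟨h', h', 1, 1, by rw [← hq, h1, hh'], hh', by rw [← ht, h2, Nat.cast_one],
        by rw [hT, Nat.cast_one], rfl⟩
    · exact ⟨h' + 1, h', 0, 1, by rw [← hq, h1, hh', Nat.cast_add, Nat.cast_one], hh',
        by rw [← ht, h2, Nat.cast_zero], by rw [hT, Nat.cast_one], by omega⟩
  · obtain ⟨g, hg, hg0⟩ : ∃ g : A[X], φ g = 0 ∧ g ≠ 0 := by
      simpa [injective_iff_map_eq_zero] using hker
    have hX : IsAlgebraic A x := ⟨g, hg0, hg⟩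
    haveI : Algebra.IsAlgebraic A B := ⟨fun y => by
      have : Algebra.adjoin A ({x} : Set B) ≤ Subalgebra.algebraicClosure A B :=
        Algebra.adjoin_le (Set.singleton_subset_iff.mpr hX)
      exact this (hx ▸ Algebra.mem_top)⟩
    have hT : Algebra.trdeg A B = 0 := trdeg_eq_zero
    haveI : IsNoetherianRing B := isNoetherianRing_of_surjective _ B φ.toRingHom hφ
    let K := RingHom.ker φ.toRingHom
    haveI : K.IsPrime := RingHom.ker_isPrime _
    have h1' : K.height = 1 := by
      refine DimFormula.height_le_one_of_comap_eq_bot _ (eq_bot_iff.2 fun a ha => ?_) ?_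
      · refine FaithfulSMul.algebraMap_injective A B ?_
        rw [map_zero, ← φ.commutes]
        exact ha
      · intro h0
        have h2 : g ∈ RingHom.ker φ.toRingHom := hg
        rw [show RingHom.ker φ.toRingHom = ⊥ from h0, Ideal.mem_bot] at h2
        exact hg0 h2
    have hKQ : K ≤ Q := Ideal.comap_mono bot_le
    have hqh : (Q.map (Ideal.Quotient.mk K)).height = q.height := by
      let e : (A[X] ⧸ K) ≃+* B := RingHom.quotientKerEquivOfSurjective hφ
      have : q.comap e.toRingHom = Q.map (Ideal.Quotient.mk K) := by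
        refine Ideal.ext fun z => ?_
        obtain ⟨z, rfl⟩ := Ideal.Quotient.mk_surjective z
        rw [Ideal.mem_comap, ← Ideal.mem_comap (f := Ideal.Quotient.mk K) (K := Q.map _),
          LocCohBasic.comap_map_mk hKQ]
        rfl
      rw [← this]
      exact RingEquiv.height_comap e q
    have hQ : Q.height = 1 + q.height := by
      rw [← h1', ← hqh]
      exact height_eq_add_of_catenary_atPrime K Q hKQ (hcat Q (Q.over_def p).symm)
    obtain ⟨h, hh⟩ := exists_height q
    rcases DimFormula.polynomial_cases p Q with ⟨h1, h2⟩ | ⟨h1, h2⟩ <;> rw [hQ, hh, hh'] at h1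
    · exact ⟨h, h', 1, 0, hh, hh', by rw [← ht, h2, Nat.cast_one], by rw [hT, Nat.cast_zero],
        by norm_cast at h1; omega⟩
    · exact ⟨h, h', 0, 0, hh, hh', by rw [← ht, h2, Nat.cast_zero], by rw [hT, Nat.cast_zero],
        by norm_cast at h1; omega⟩

theorem catenary_transfer {R S B' : Type u} [CommRing R] [IsNoetherianRing R] [IsLocalRing R] [CommRing S]
    [Algebra R S] [CommRing B'] [Algebra R B'] [Algebra.FiniteType R B'] (v : B' →ₐ[R] S) (hv : Function.Injective v)
    (hcat : ∀ A' : Subalgebra R (Polynomial S), A'.FG →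
      ∀ (m' : Ideal A') [m'.IsMaximal], m'.LiesOver (maximalIdeal R) → CAlg.IsCatenary (Localization.AtPrime m'))
    (Q : Ideal (Polynomial B')) [Q.IsPrime]
    (hQ : maximalIdeal R ≤ (Q.comap (algebraMap B' (Polynomial B'))).comap (algebraMap R B')) :
    CAlg.IsCatenary (Localization.AtPrime Q) := by
  obtain ⟨m', hm', hQm⟩ := Ideal.exists_le_maximal Q Ideal.IsPrime.ne_top'
  have hRm : maximalIdeal R = m'.comap (algebraMap R (Polynomial B')) := by
    refine (maximalIdeal.isMaximal R).eq_of_le (Ideal.IsPrime.comap _).ne_top fun r hr => hQm ?_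
    rw [IsScalarTower.algebraMap_apply R B' (Polynomial B')]
    exact hQ hr
  let ψ : Polynomial B' →ₐ[R] Polynomial S := Polynomial.mapAlgHom v
  have hψ : Function.Injective ψ := by
    rw [Polynomial.coe_mapAlgHom]
    exact Polynomial.map_injective _ hv
  let e : Polynomial B' ≃ₐ[R] ψ.range := AlgEquiv.ofInjective ψ hψ
  have hFT : Algebra.FiniteType R (Polynomial B') := Algebra.FiniteType.trans (S := B') inferInstance inferInstance
  have hfg : ψ.range.FG := by
    rw [Subalgebra.fg_iff_finiteType]
    exact Algebra.FiniteType.of_surjective e.toAlgHom e.surjective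
  let M : Ideal ψ.range := m'.comap e.symm.toRingEquiv.toRingHom
  have : M.IsMaximal := Ideal.comap_isMaximal_of_surjective _ e.symm.surjective
  have hM : M.LiesOver (maximalIdeal R) := ⟨by
    rw [hRm]
    ext r
    show algebraMap R (Polynomial B') r ∈ m' ↔ e.symm (algebraMap R ψ.range r) ∈ m'
    rw [e.symm.commutes]⟩
  have hc := hcat ψ.range hfg M hM
  let e' : Localization.AtPrime M ≃+* Localization.AtPrime m' :=
    IsLocalization.ringEquivOfRingEquiv (M := M.primeCompl) (T := m'.primeCompl) _ _ e.symm.toRingEquiv (by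
      ext x
      simp only [Submonoid.mem_map, Ideal.mem_primeCompl_iff, M, Ideal.mem_comap]
      exact ⟨fun ⟨y, hy, hxy⟩ => hxy ▸ hy, fun hx => ⟨e x, by simpa using hx, e.symm_apply_apply x⟩⟩)
  have hc' : CAlg.IsCatenary (Localization.AtPrime m') :=
    CatenaryLib.isCatenary_of_surjective e'.toRingHom e'.surjective hc
  let _ := IsLocalization.localizationAlgebraOfSubmonoidLe (Localization.AtPrime m') (Localization.AtPrime Q)
    m'.primeCompl Q.primeCompl (fun x hx hx' => hx (hQm hx'))
  have := IsLocalization.localization_isScalarTower_of_submonoid_le (Localization.AtPrime m') (Localization.AtPrime Q)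
    m'.primeCompl Q.primeCompl (fun x hx hx' => hx (hQm hx'))
  have := IsLocalization.isLocalization_of_submonoid_le (Localization.AtPrime m') (Localization.AtPrime Q)
    m'.primeCompl Q.primeCompl (fun x hx hx' => hx (hQm hx'))
  exact CatenaryLib.isCatenary_of_isLocalization
    (Submonoid.map (algebraMap (Polynomial B') (Localization.AtPrime m')) Q.primeCompl) hc'

theorem dimEqAt_trans {A B C : Type u} [CommRing A] [CommRing B] [CommRing C] [Algebra A B]
    [Algebra B C] [Algebra A C] [IsScalarTower A B C] [IsDomain A] [IsDomain B] [IsDomain C]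
    [FaithfulSMul A B] [FaithfulSMul B C] (p : Ideal A) [p.IsPrime] (r : Ideal B) [r.IsPrime] (q : Ideal C) [q.IsPrime]
    [r.LiesOver p] [q.LiesOver r] [q.LiesOver p] (h1 : DimEqAt A B p r) (h2 : DimEqAt B C r q) :
    DimEqAt A C p q := by
  obtain ⟨a, b, t, T, ha, hb, ht, hT, hle⟩ := h2
  obtain ⟨b', c, t', T', hb', hc, ht', hT', hle'⟩ := h1
  rw [hb] at hb'
  obtain rfl : b = b' := by exact_mod_cast hb'
  haveI : IsScalarTower (A ⧸ p) (B ⧸ r) (C ⧸ q) := IsScalarTower.of_algebraMap_eq fun y => by
    obtain ⟨y, rfl⟩ := Ideal.Quotient.mk_surjective y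
    exact congrArg (Ideal.Quotient.mk q) (IsScalarTower.algebraMap_apply A B C y)
  refine ⟨a, c, t' + t, T' + T, ha, hc, ?_, ?_, by omega⟩
  · rw [Nat.cast_add, ← ht, ← ht', trdeg_add_eq]
  · rw [Nat.cast_add, ← hT, ← hT', trdeg_add_eq]

theorem dimEqAt_of_bijective {R B : Type u} [CommRing R] [IsDomain R] [IsNoetherianRing R] [CommRing B] [IsDomain B]
    [Algebra R B] (hinj : Function.Injective (algebraMap R B)) (hsurj : Function.Surjective (algebraMap R B))
    (p : Ideal R) [p.IsPrime] (q : Ideal B) [q.IsPrime] [q.LiesOver p] : DimEqAt R B p q := by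
  let e : R ≃+* B := RingEquiv.ofBijective _ ⟨hinj, hsurj⟩
  obtain ⟨h, hh⟩ := exists_height p
  have hq : q.height = p.height := by
    rw [← e.height_comap q]
    congr 1
    exact (Ideal.over_def q p).symm
  have : FaithfulSMul R B := (faithfulSMul_iff_algebraMap_injective _ _).2 hinj
  have : Algebra.IsAlgebraic R B := ⟨fun y => by
    obtain ⟨r, rfl⟩ := hsurj y
    exact isAlgebraic_algebraMap r⟩
  have : FaithfulSMul (R ⧸ p) (B ⧸ q) := by
    refine (faithfulSMul_iff_algebraMap_injective _ _).2 fun a b hab => ?_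
    obtain ⟨a, rfl⟩ := Ideal.Quotient.mk_surjective a
    obtain ⟨b, rfl⟩ := Ideal.Quotient.mk_surjective b
    change Ideal.Quotient.mk q (algebraMap R B a) = Ideal.Quotient.mk q (algebraMap R B b) at hab
    rw [Ideal.Quotient.eq, ← map_sub] at hab
    rw [Ideal.Quotient.eq, Ideal.over_def q p]
    exact hab
  have : Algebra.IsAlgebraic (R ⧸ p) (B ⧸ q) := ⟨fun y => by
    obtain ⟨y, rfl⟩ := Ideal.Quotient.mk_surjective y
    obtain ⟨r, rfl⟩ := hsurj y
    exact isAlgebraic_algebraMap (Ideal.Quotient.mk p r)⟩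
  exact ⟨h, h, 0, 0, hq.trans hh, hh, by rw [trdeg_eq_zero, Nat.cast_zero], by rw [trdeg_eq_zero, Nat.cast_zero], rfl⟩

theorem dimEqAt_maximal {R S : Type u} [CommRing R] [IsDomain R] [IsNoetherianRing R] [IsLocalRing R]
    [CommRing S] [IsDomain S] [Algebra R S] [FaithfulSMul R S]
    (hcat : ∀ A' : Subalgebra R (Polynomial S), A'.FG →
      ∀ (m' : Ideal A') [m'.IsMaximal], m'.LiesOver (maximalIdeal R) → CAlg.IsCatenary (Localization.AtPrime m'))
    (s : Finset S) (q : Ideal (Algebra.adjoin R (s : Set S))) [q.IsPrime] [q.LiesOver (maximalIdeal R)] :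
    DimEqAt R (Algebra.adjoin R (s : Set S)) (maximalIdeal R) q := by
  classical
  induction s using Finset.induction_on with
  | empty =>
    let B := Algebra.adjoin R ((∅ : Finset S) : Set S)
    have hsurj : Function.Surjective (algebraMap R B) := fun z => by
      have hz : (z : S) ∈ (⊥ : Subalgebra R S) := by
        rw [← Algebra.adjoin_empty R S]
        have h2 := z.2
        simp only [B, Finset.coe_empty] at h2
        exact h2
      obtain ⟨r, hr⟩ := Algebra.mem_bot.1 hz
      exact ⟨r, Subtype.ext hr⟩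
    have hinj : Function.Injective (algebraMap R B) := fun a b h =>
      FaithfulSMul.algebraMap_injective R S (congrArg Subtype.val h)
    exact dimEqAt_of_bijective hinj hsurj (maximalIdeal R) q
  | insert x s _ ih =>
    let B' := Algebra.adjoin R (s : Set S)
    let B := Algebra.adjoin R ((insert x s : Finset S) : Set S)
    have hle : B' ≤ B := Algebra.adjoin_mono (by simp)
    letI : Algebra B' B := (Subalgebra.inclusion hle).toRingHom.toAlgebra
    haveI : IsScalarTower R B' B := IsScalarTower.of_algebraMap_eq fun _ => rfl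
    haveI : FaithfulSMul B' B := (faithfulSMul_iff_algebraMap_injective _ _).mpr (Subalgebra.inclusion_injective hle)
    haveI : FaithfulSMul R B' := (faithfulSMul_iff_algebraMap_injective _ _).mpr fun a b h =>
      FaithfulSMul.algebraMap_injective R S (congrArg Subtype.val h)
    haveI : Algebra.FiniteType R B' := (Subalgebra.fg_iff_finiteType _).mp ⟨s, rfl⟩
    haveI : IsNoetherianRing B' := Algebra.FiniteType.isNoetherianRing R B'
    let xB : B := ⟨x, Algebra.subset_adjoin (by simp)⟩
    have hgen : Algebra.adjoin B' ({xB} : Set B) = ⊤ := by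
      refine top_le_iff.mp fun z _ => ?_
      suffices H : ∀ (w : S) (hw : w ∈ B), (⟨w, hw⟩ : B) ∈ Algebra.adjoin B' ({xB} : Set B) from H z.1 z.2
      intro w hw
      induction hw using Algebra.adjoin_induction with
      | mem y hy =>
        rcases Finset.mem_insert.1 hy with rfl | hys
        · exact Algebra.subset_adjoin rfl
        · exact Subalgebra.algebraMap_mem (Algebra.adjoin B' {xB}) (⟨y, Algebra.subset_adjoin hys⟩ : B')
      | algebraMap a => exact Subalgebra.algebraMap_mem (Algebra.adjoin B' {xB}) (algebraMap R B' a)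
      | add a b _ _ ha hb => exact add_mem ha hb
      | mul a b _ _ ha hb => exact mul_mem ha hb
    let q' : Ideal B' := q.under B'
    haveI : q'.LiesOver (maximalIdeal R) :=
      ⟨(q.over_def (maximalIdeal R)).trans (Ideal.under_under (A := R) (B := B') q).symm⟩
    have h1 := ih q'
    haveI : q.LiesOver q' := ⟨rfl⟩
    have h2 : DimEqAt B' B q' q := by
      refine dimEqAt_monogenic xB hgen q' q fun Q _ hQ => catenary_transfer B'.val Subtype.val_injective hcat Q ?_
      rw [hQ, ← Ideal.under_def _ q', ← Ideal.over_def q' (maximalIdeal R)]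
    exact dimEqAt_trans (maximalIdeal R) q' q h1 h2

end Groth.Agent.LeadFCat
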