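import Groth.Agent.LeadFCat.Poly

/-!
# Essentially finite type local algebras over formally catenary rings
-/

set_option autoImplicit false
universe u

open IsLocalRing

namespace Groth.Agent.LeadFCat

theorem isFormallyEquidim_of_ringEquiv {R S : Type u} [CommRing R] [CommRing S] [IsLocalRing R] [IsLocalRing S]
    (e : R ≃+* S) (h : EGA4.IsFormallyEquidim R) : EGA4.IsFormallyEquidim S := by
  let _ := e.toRingHom.toAlgebra
  obtain ⟨E, -⟩ := Hensel.exists_completion_equiv (maximalIdeal R) (maximalIdeal S)
    (fun n => by rw [Ideal.map_pow]; exact congrArg (· ^ n) (IsLocalRing.map_maximalIdeal_of_surjective e.toRingHom e.surjective))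
    (fun n => ⟨Ideal.quotientMap_injective' (fun x hx => by
        rw [Ideal.mem_comap] at hx
        obtain ⟨y, hy, hxy⟩ := (Ideal.mem_map_iff_of_surjective e.toRingHom e.surjective).1 hx
        exact e.injective hxy ▸ hy),
      Ideal.quotientMap_surjective e.surjective⟩)
  exact isEquidim_of_ringEquiv E h

theorem isFormallyEquidim_of_essFiniteType_domain {A : Type u} [CommRing A] [IsNoetherianRing A] [IsLocalRing A]
    (hA : EGA4.IsFormallyCatenary A) (D : Type u) [CommRing D] [IsDomain D] [IsLocalRing D] [Algebra A D]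
    [Algebra.EssFiniteType A D] : EGA4.IsFormallyEquidim D := by
  let p := RingHom.ker (algebraMap A D)
  have : p.IsPrime := RingHom.ker_isPrime _
  have : Nontrivial (A ⧸ p) := Ideal.Quotient.nontrivial_iff.2 (Ideal.IsPrime.ne_top inferInstance)
  have : IsLocalRing (A ⧸ p) := IsLocalRing.of_surjective' (Ideal.Quotient.mk p) Ideal.Quotient.mk_surjective
  let S := Algebra.EssFiniteType.subalgebra A D
  obtain ⟨d, f, hf⟩ := Algebra.FiniteType.iff_quotient_mvPolynomial''.1 (inferInstance : Algebra.FiniteType A S)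
  let g : MvPolynomial (Fin d) (A ⧸ p) →+* D :=
    MvPolynomial.eval₂Hom (RingHom.kerLift (algebraMap A D)) (fun i => (f (MvPolynomial.X i) : D))
  have hg : g.comp (MvPolynomial.map (Ideal.Quotient.mk p)) = (algebraMap S D).comp f.toRingHom :=
    MvPolynomial.ringHom_ext (fun a => by
      simp only [g, RingHom.comp_apply, MvPolynomial.map_C, MvPolynomial.eval₂Hom_C]
      rw [AlgHom.toRingHom_eq_coe, RingHom.coe_coe, ← MvPolynomial.algebraMap_eq, f.commutes]
      rfl) (fun i => by simp [g])
  let Q := (maximalIdeal D).comap g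
  let L := Localization.AtPrime Q
  let _ : CommRing L := inferInstanceAs (CommRing (Localization.AtPrime Q))
  have hu : ∀ y : Q.primeCompl, IsUnit (g y) := fun y => by
    by_contra hn
    exact y.2 (show g y ∈ maximalIdeal D from hn)
  let ψ : L →+* D := IsLocalization.lift hu
  have hψ : Function.Surjective ψ := by
    intro x
    obtain ⟨a, ⟨s, hs⟩, rfl⟩ := IsLocalization.exists_mk'_eq (Algebra.EssFiniteType.submonoid A D) x
    have hsu : IsUnit (algebraMap S D s) := hs
    obtain ⟨a', rfl⟩ := hf a
    obtain ⟨s', rfl⟩ := hf s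
    let a2 := MvPolynomial.map (Ideal.Quotient.mk p) a'
    let s2 := MvPolynomial.map (Ideal.Quotient.mk p) s'
    have ea : g a2 = algebraMap S D (f a') := RingHom.congr_fun hg a'
    have es : g s2 = algebraMap S D (f s') := RingHom.congr_fun hg s'
    have hs2 : s2 ∈ Q.primeCompl := fun h => (mem_maximalIdeal _).1 (show g s2 ∈ maximalIdeal D from h) (es ▸ hsu)
    refine ⟨IsLocalization.mk' L a2 ⟨s2, hs2⟩, ?_⟩
    rw [IsLocalization.lift_mk'_spec, ea, es, mul_comm, IsLocalization.mk'_spec]
  have hL : EGA4.IsFormallyEquidim L := isFormallyEquidim_poly_loc (hA p) d Q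
  have : (RingHom.ker ψ).IsPrime := RingHom.ker_isPrime ψ
  have : Nontrivial (L ⧸ RingHom.ker ψ) := Ideal.Quotient.nontrivial_iff.2 (Ideal.IsPrime.ne_top inferInstance)
  refine isFormallyEquidim_of_ringEquiv (RingHom.quotientKerEquivOfSurjective hψ)
    ((isEquidim_quot_iff_formally L hL _).1 fun P hP => ?_)
  rw [IsDomain.minimalPrimes_eq_singleton_bot, Set.mem_singleton_iff] at hP
  rw [hP]
  exact ringKrullDim_eq_of_ringEquiv (RingEquiv.quotientBot _)

theorem isFormallyEquidim_of_essFiniteType {A : Type u} [CommRing A] [IsNoetherianRing A] [IsLocalRing A]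
    (hA : EGA4.IsFormallyCatenary A) (B : Type u) [CommRing B] [IsNoetherianRing B] [IsLocalRing B] [Algebra A B]
    [Algebra.EssFiniteType A B] (hB : EGA4.IsEquidim B) : EGA4.IsFormallyEquidim B := by
  refine (isFormallyEquidim_iff_minimal B).2 ⟨hB, fun p _ _ => ?_⟩
  have : Algebra.EssFiniteType A (B ⧸ p) := Algebra.EssFiniteType.comp A B (B ⧸ p)
  exact isFormallyEquidim_of_essFiniteType_domain hA (B ⧸ p)

end Groth.Agent.LeadFCat
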