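import Groth.Agent.LeadFCat.EssFT
import Groth.Agent.Depth.CM

/-!
# Consequences for formally (strictly) catenary rings
-/

set_option autoImplicit false
universe u

open IsLocalRing

namespace Groth.Agent.LeadFCat

theorem isCohenMacaulayLocalRing_of_domain_dim_le_one {R : Type u} [CommRing R] [IsDomain R] [IsNoetherianRing R]
    [IsLocalRing R] (h : ringKrullDim R ≤ 1) : LocCoh.IsCohenMacaulayLocalRing R := by
  rw [Depth.isCohenMacaulayLocalRing_iff]
  have hd := Depth.depth_le_ringKrullDim (R := R) (M := R)
  obtain ⟨n, hn⟩ := exists_dim R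
  rcases Nat.eq_zero_or_pos n with rfl | hpos
  · rw [hn] at hd ⊢
    refine le_antisymm ?_ hd
    exact WithBot.coe_le_coe.2 bot_le
  · rw [hn] at h hd ⊢
    have hn1 : n = 1 := by
      have : n ≤ 1 := by exact_mod_cast h
      omega
    subst hn1
    refine le_antisymm ?_ hd
    have hmne : maximalIdeal R ≠ ⊥ := fun he => by
      have h1 := IsLocalRing.maximalIdeal_height_eq_ringKrullDim (R := R)
      rw [he, Ideal.height_bot, hn] at h1
      exact zero_ne_one (α := ℕ) (by exact_mod_cast h1)
    obtain ⟨b, hb, hb0⟩ := Submodule.exists_mem_ne_zero_of_ne_bot hmne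
    have hreg : IsSMulRegular R b := fun x y hxy => mul_left_cancel₀ hb0 hxy
    rw [Nat.cast_one, show (1 : WithBot ℕ∞) = ((1 : ℕ∞) : WithBot ℕ∞) from rfl, WithBot.coe_le_coe,
      LocCoh.depth, ← Depth.idealDepth_quotSMulTop_add_one R hb hreg]
    exact le_add_self

theorem isStrictlyEquidim_of_isCohenMacaulay {R : Type u} [CommRing R] [LocCoh.IsCohenMacaulayLocalRing R] :
    EGA4.IsStrictlyEquidim R := fun p hp => by
  rw [Depth.ringKrullDim_quotient_eq_of_mem_associatedPrimes Depth.isCohenMacaulayModule_self hp,
    Module.supportDim_self_eq_ringKrullDim]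

theorem isFormallyStrictlyCatenary_of_dim_le_one {A : Type u} [CommRing A] [IsNoetherianRing A] [IsLocalRing A]
    (h : ringKrullDim A ≤ 1) : EGA4.IsFormallyStrictlyCatenary A := by
  intro p _
  have : Nontrivial (A ⧸ p) := Ideal.Quotient.nontrivial_iff.2 (Ideal.IsPrime.ne_top inferInstance)
  have := isCohenMacaulayLocalRing_of_domain_dim_le_one (R := A ⧸ p)
    ((ringKrullDim_quotient_le p).trans h)
  have : LocCoh.IsCohenMacaulayLocalRing (EGA4.Cpl (A ⧸ p)) := by
    refine (FlatLocalDepth.isCohenMacaulayLocalRing_iff (A ⧸ p) (EGA4.Cpl (A ⧸ p))).2 ⟨‹_›, ?_⟩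
    rw [cpl_map_maximalIdeal]
    have : IsRegularLocalRing (EGA4.Cpl (A ⧸ p) ⧸ maximalIdeal (EGA4.Cpl (A ⧸ p))) :=
      let _ := Ideal.Quotient.field (maximalIdeal (EGA4.Cpl (A ⧸ p))); inferInstance
    exact LocCohBasic.isCohenMacaulayLocalRing_of_isRegularLocalRing
  exact isStrictlyEquidim_of_isCohenMacaulay

theorem isFormallyEquidim_atPrime {R : Type u} [CommRing R] [IsNoetherianRing R] [IsLocalRing R]
    (h : EGA4.IsFormallyEquidim R) (q : Ideal R) [q.IsPrime] : EGA4.IsFormallyEquidim (Localization.AtPrime q) := by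
  let e : MvPolynomial (Fin 0) R ≃+* R := (MvPolynomial.isEmptyAlgEquiv R (Fin 0)).toRingEquiv
  let Q := q.comap e.toRingHom
  have h1 := isFormallyEquidim_poly_loc h 0 Q
  refine isFormallyEquidim_of_ringEquiv
    (IsLocalization.ringEquivOfRingEquiv (M := Q.primeCompl) (T := q.primeCompl) (Localization.AtPrime Q) (Localization.AtPrime q) e ?_) h1
  ext x
  constructor
  · rintro ⟨y, hy, rfl⟩; exact hy
  · intro hx; exact ⟨e.symm x, fun h' => hx (by simpa [Q] using h'), e.apply_symm_apply x⟩

theorem isCatenary_iff_dim {A : Type u} [CommRing A] [IsNoetherianRing A] [IsLocalRing A] :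
    CAlg.IsCatenary A ↔ ∀ p q : PrimeSpectrum A, p < q →
      ringKrullDim (A ⧸ q.asIdeal) < ringKrullDim (A ⧸ p.asIdeal) ∧
        (p ⋖ q → ringKrullDim (A ⧸ p.asIdeal) = ringKrullDim (A ⧸ q.asIdeal) + 1) := by
  choose d hd using fun p : PrimeSpectrum A => exists_dim_quot p.asIdeal p.2.ne_top
  simp only [hd]
  constructor
  · intro hcat p q hpq
    refine ⟨?_, fun hc => by rw [← hd, ← hd]; exact dim_covBy hcat hc⟩
    obtain ⟨n, hn⟩ := SerreLift.exists_hasLen hcat hpq.le
    obtain ⟨m, hm⟩ := SerreLift.exists_hasLen hcat (show q ≤ closedPoint A from le_maximalIdeal q.2.ne_top)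
    obtain ⟨k, hk⟩ := SerreLift.exists_hasLen hcat (show p ≤ closedPoint A from le_maximalIdeal p.2.ne_top)
    have e1 := SerreLift.ringKrullDim_quotient_eq hm
    have e2 := SerreLift.ringKrullDim_quotient_eq hk
    rw [hd] at e1 e2
    have e1' : d q = m := Nat.cast_injective (R := WithBot ℕ∞) e1
    have e2' : d p = k := Nat.cast_injective (R := WithBot ℕ∞) e2
    have := hn.add hcat hm hk
    have := hn.one_le hpq
    exact_mod_cast (show d q < d p by omega)
  · intro h
    have hlt : ∀ p q : PrimeSpectrum A, p < q → d q + 1 ≤ d p ∧ (p ⋖ q → d q + 1 = d p) := fun p q hpq => by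
      obtain ⟨h1, h2⟩ := h p q hpq
      have : d q < d p := by exact_mod_cast h1
      refine ⟨this, fun hc => ?_⟩
      have := h2 hc
      exact_mod_cast this.symm
    have key : ∀ s : LTSeries (PrimeSpectrum A), ∀ (i : ℕ) (hi : i < s.length + 1),
        d (s ⟨i, hi⟩) + i ≤ d s.head ∧
        ((∀ j : Fin s.length, s (Fin.castSucc j) ⋖ s (Fin.succ j)) → d (s ⟨i, hi⟩) + i = d s.head) := by
      intro s i
      induction i with
      | zero => intro hi; exact ⟨le_rfl, fun _ => rfl⟩
      | succ i ih =>
        intro hi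
        obtain ⟨a, b⟩ := ih (by omega)
        obtain ⟨c, e⟩ := hlt (s ⟨i, by omega⟩) (s ⟨i + 1, hi⟩) (s.strictMono (by simp [Fin.lt_def]))
        refine ⟨by omega, fun hs => ?_⟩
        have := e (hs ⟨i, by omega⟩)
        have := b hs
        omega
    refine ⟨fun p q _ => ⟨d p, fun s hs _ => ?_⟩, fun s t h1 h2 hs ht => ?_⟩
    · have := (key s s.length (by omega)).1
      rw [hs] at this
      omega
    · have a := (key s s.length (by omega)).2 hs
      have b := (key t t.length (by omega)).2 ht
      rw [h1] at a
      change d s.last + s.length = _ at a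
      change d t.last + t.length = _ at b
      rw [h2] at a
      omega

theorem isCatenary_iff_maximal {R : Type u} [CommRing R] :
    CAlg.IsCatenary R ↔ ∀ (m : Ideal R) [m.IsMaximal], CAlg.IsCatenary (Localization.AtPrime m) := by
  refine ⟨fun h m _ => CatenaryLib.isCatenary_of_isLocalization m.primeCompl h,
    fun h => isCatenary_of_localizations fun q hq => ?_⟩
  obtain ⟨m, hm, hqm⟩ := Ideal.exists_le_maximal q hq.ne_top
  let _ := IsLocalization.localizationAlgebraOfSubmonoidLe (Localization.AtPrime m) (Localization.AtPrime q)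
    m.primeCompl q.primeCompl (fun x hx hx' => hx (hqm hx'))
  have := IsLocalization.localization_isScalarTower_of_submonoid_le (Localization.AtPrime m) (Localization.AtPrime q)
    m.primeCompl q.primeCompl (fun x hx hx' => hx (hqm hx'))
  have := IsLocalization.isLocalization_of_submonoid_le (Localization.AtPrime m) (Localization.AtPrime q)
    m.primeCompl q.primeCompl (fun x hx hx' => hx (hqm hx'))
  exact CatenaryLib.isCatenary_of_isLocalization
    (Submonoid.map (algebraMap R (Localization.AtPrime m)) q.primeCompl) (h m)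

theorem isUniversallyCatenary_iff_maximal {R : Type u} [CommRing R] [IsNoetherianRing R] :
    CAlg.IsUniversallyCatenary R ↔
      ∀ (m : Ideal R) [m.IsMaximal], CAlg.IsUniversallyCatenary (Localization.AtPrime m) := by
  refine ⟨fun h m _ => ⟨inferInstance, fun S _ _ hS => ?_⟩, fun h => ⟨inferInstance, fun S _ _ hS => ?_⟩⟩
  · let _ : Algebra R S := ((algebraMap (Localization.AtPrime m) S).comp (algebraMap R (Localization.AtPrime m))).toAlgebra
    have : IsScalarTower R (Localization.AtPrime m) S := IsScalarTower.of_algebraMap_eq fun _ => rfl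
    have : Algebra.EssFiniteType R (Localization.AtPrime m) := Algebra.EssFiniteType.of_isLocalization _ m.primeCompl
    have : Algebra.FiniteType (Localization.AtPrime m) S := hS
    have : Algebra.EssFiniteType R S := Algebra.EssFiniteType.comp R (Localization.AtPrime m) S
    exact CatenaryLib.isCatenary_of_essFiniteType h
  · refine isCatenary_of_localizations fun q _ => ?_
    obtain ⟨m, hm, hqm⟩ := Ideal.exists_le_maximal (q.comap (algebraMap R S)) (Ideal.IsPrime.ne_top inferInstance)
    have hu : ∀ y : m.primeCompl, IsUnit (algebraMap R (Localization.AtPrime q) y) := fun y => by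
      rw [IsScalarTower.algebraMap_apply R S (Localization.AtPrime q)]
      exact IsLocalization.map_units (Localization.AtPrime q) (⟨algebraMap R S y, fun h' => y.2 (hqm h')⟩ : q.primeCompl)
    let _ : Algebra (Localization.AtPrime m) (Localization.AtPrime q) := (IsLocalization.lift hu).toAlgebra
    have : IsScalarTower R (Localization.AtPrime m) (Localization.AtPrime q) :=
      IsScalarTower.of_algebraMap_eq fun x => (IsLocalization.lift_eq hu x).symm
    have : Algebra.FiniteType R S := hS
    have : Algebra.EssFiniteType S (Localization.AtPrime q) := Algebra.EssFiniteType.of_isLocalization _ q.primeCompl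
    have : Algebra.EssFiniteType R (Localization.AtPrime q) := Algebra.EssFiniteType.comp R S (Localization.AtPrime q)
    have : Algebra.EssFiniteType (Localization.AtPrime m) (Localization.AtPrime q) :=
      Algebra.EssFiniteType.of_comp R (Localization.AtPrime m) (Localization.AtPrime q)
    exact CatenaryLib.isCatenary_of_essFiniteType (h m)

end Groth.Agent.LeadFCat
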