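import Groth.Agent.LeadFCat.Basic

/-!
# Descent of equidimensionality and catenarity along flat local maps
-/

set_option autoImplicit false
universe u

open IsLocalRing
open scoped TensorProduct

namespace Groth.Agent.LeadFCat

variable {A : Type u} [CommRing A] {B : Type u} [CommRing B] [Algebra A B]

theorem under_minimal [Algebra.HasGoingDown A B] (P : Ideal A) [P.IsPrime] (P' : Ideal B)
    (hP' : P' ∈ (P.map (algebraMap A B)).minimalPrimes) : P'.comap (algebraMap A B) = P := by
  have := hP'.1.1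
  have hle : P ≤ P'.under A := Ideal.map_le_iff_le_comap.1 hP'.1.2
  obtain ⟨P'', hle', hp, hlo⟩ := P'.exists_ideal_le_liesOver_of_le (p := P) (q := P'.under A) hle
  have h2 : P.map (algebraMap A B) ≤ P'' := Ideal.map_le_iff_le_comap.2 hlo.over.le
  have h3 : P' = P'' := le_antisymm (hP'.2 ⟨hp, h2⟩ hle') hle'
  rw [h3]
  exact hlo.over.symm

theorem under_mem_minimal [Algebra.HasGoingDown A B] (I : Ideal A) (P' : Ideal B)
    (hP' : P' ∈ (I.map (algebraMap A B)).minimalPrimes) :
    P'.comap (algebraMap A B) ∈ I.minimalPrimes ∧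
      P' ∈ ((P'.comap (algebraMap A B)).map (algebraMap A B)).minimalPrimes := by
  have := hP'.1.1
  have hle : I ≤ P'.under A := Ideal.map_le_iff_le_comap.1 hP'.1.2
  refine ⟨⟨⟨inferInstance, hle⟩, fun q hq hqle => ?_⟩, ⟨⟨inferInstance, Ideal.map_comap_le⟩, fun R hR hRle =>
    hP'.2 ⟨hR.1, (Ideal.map_mono hle).trans hR.2⟩ hRle⟩⟩
  have := hq.1
  obtain ⟨P'', hle', hp, hlo⟩ := P'.exists_ideal_le_liesOver_of_le (p := q) (q := P'.under A) hqle
  have h2 : I.map (algebraMap A B) ≤ P'' := Ideal.map_le_iff_le_comap.2 (hq.2.trans hlo.over.le)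
  exact (Ideal.comap_mono (hP'.2 ⟨hp, h2⟩ hle')).trans hlo.over.symm.le

theorem height_minimal [Algebra.HasGoingDown A B] [IsNoetherianRing A] [IsNoetherianRing B] (P : Ideal A) [P.IsPrime]
    (P' : Ideal B) (hP' : P' ∈ (P.map (algebraMap A B)).minimalPrimes) : P'.height = P.height := by
  have := hP'.1.1
  have : P'.LiesOver P := ⟨(under_minimal P P' hP').symm⟩
  rw [Ideal.height_eq_height_add_of_liesOver_of_hasGoingDown P P']
  have hpr : (P'.map (Ideal.Quotient.mk (P.map (algebraMap A B)))).IsPrime :=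
    Ideal.map_isPrime_of_surjective Ideal.Quotient.mk_surjective (by rw [Ideal.mk_ker]; exact hP'.1.2)
  have h0 : P'.map (Ideal.Quotient.mk (P.map (algebraMap A B))) ∈ minimalPrimes (B ⧸ P.map (algebraMap A B)) := by
    rw [Ideal.minimalPrimes_eq_comap] at hP'
    obtain ⟨Q, hQ, rfl⟩ := hP'
    rwa [Ideal.map_comap_of_surjective _ Ideal.Quotient.mk_surjective]
  rw [Ideal.height_eq_zero_iff.2 h0, add_zero]

variable (A B) [IsNoetherianRing A] [IsNoetherianRing B] [IsLocalRing A] [IsLocalRing B]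
  [IsLocalHom (algebraMap A B)] [Module.Flat A B]

theorem map_ne_top {I : Ideal A} (hI : I ≠ ⊤) : I.map (algebraMap A B) ≠ ⊤ :=
  ne_top_of_le_ne_top (maximalIdeal.isMaximal B).ne_top
    ((Ideal.map_mono (le_maximalIdeal hI)).trans (FlatLocalDepth.map_maximalIdeal_le A B))

/-- The quotient map is flat. -/
theorem flat_quot (I : Ideal A) : Module.Flat (A ⧸ I) (B ⧸ I.map (algebraMap A B)) := by
  let e0 : (A ⧸ I) ⊗[A] B ≃ₗ[A] B ⧸ I.map (algebraMap A B) :=
    (TensorProduct.quotTensorEquivQuotSMul B I).trans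
      ((Submodule.quotEquivOfEq _ ((I.map (algebraMap A B)).restrictScalars A)
        (by rw [Ideal.smul_top_eq_map])).trans (Submodule.Quotient.restrictScalarsEquiv A (I.map (algebraMap A B))))
  exact Module.Flat.of_linearEquiv (e0.extendScalarsOfSurjective (S := A ⧸ I) Ideal.Quotient.mk_surjective).symm

theorem isLocalHom_quot (I : Ideal A) (hI : I ≠ ⊤) :
    IsLocalHom (algebraMap (A ⧸ I) (B ⧸ I.map (algebraMap A B))) := ⟨fun x hx => by
  obtain ⟨a, rfl⟩ := Ideal.Quotient.mk_surjective x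
  have h1 : IsUnit (Ideal.Quotient.mk (I.map (algebraMap A B)) (algebraMap A B a)) := hx
  refine (isUnit_of_map_unit (algebraMap A B) a ?_).map _
  have : IsLocalHom (Ideal.Quotient.mk (I.map (algebraMap A B))) := by
    have : Nontrivial (B ⧸ I.map (algebraMap A B)) := Ideal.Quotient.nontrivial_iff.2 (map_ne_top A B hI)
    exact IsLocalHom.of_surjective _ Ideal.Quotient.mk_surjective
  exact isUnit_of_map_unit (Ideal.Quotient.mk (I.map (algebraMap A B))) _ h1⟩

/-- `dim B/IB = dim A/I + dim` of the closed fibre. -/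
theorem dim_quot_eq_add (I : Ideal A) (hI : I ≠ ⊤) :
    ringKrullDim (B ⧸ I.map (algebraMap A B)) = ringKrullDim (A ⧸ I) +
      ringKrullDim (B ⧸ (maximalIdeal A).map (algebraMap A B)) := by
  have : Nontrivial (A ⧸ I) := Ideal.Quotient.nontrivial_iff.2 hI
  have : Nontrivial (B ⧸ I.map (algebraMap A B)) := Ideal.Quotient.nontrivial_iff.2 (map_ne_top A B hI)
  have : IsLocalRing (A ⧸ I) := IsLocalRing.of_surjective' (Ideal.Quotient.mk I) Ideal.Quotient.mk_surjective
  have : IsLocalRing (B ⧸ I.map (algebraMap A B)) :=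
    IsLocalRing.of_surjective' (Ideal.Quotient.mk _) Ideal.Quotient.mk_surjective
  have := isLocalHom_quot A B I hI
  have := flat_quot A B I
  rw [FlatLocalDepth.ringKrullDim_eq_add (A ⧸ I) (B ⧸ I.map (algebraMap A B))]
  congr 1
  refine ringKrullDim_eq_of_ringEquiv ((Ideal.quotEquivOfEq ?_).trans
    (DoubleQuot.quotQuotEquivQuotOfLE (Ideal.map_mono (le_maximalIdeal hI) : I.map (algebraMap A B) ≤ (maximalIdeal A).map (algebraMap A B))))
  rw [← IsLocalRing.map_maximalIdeal_of_surjective (Ideal.Quotient.mk I) Ideal.Quotient.mk_surjective,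
    Ideal.map_map, Ideal.map_map]
  rfl

/-- Minimal primes over `PB` have the same coheight. -/
theorem dim_minimal (heq : EGA4.IsEquidim B) (hcat : CAlg.IsCatenary B) (P : Ideal A) [P.IsPrime] :
    (∀ P' ∈ (P.map (algebraMap A B)).minimalPrimes,
      ringKrullDim (B ⧸ P') = ringKrullDim (B ⧸ P.map (algebraMap A B))) ∧
    ringKrullDim (A ⧸ P) + P.height = ringKrullDim A := by
  have hfne : (maximalIdeal A).map (algebraMap A B) ≠ ⊤ := map_ne_top A B (maximalIdeal.isMaximal A).ne_top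
  have hPne : P.map (algebraMap A B) ≠ ⊤ := map_ne_top A B (Ideal.IsPrime.ne_top ‹_›)
  obtain ⟨N, hN⟩ := exists_dim B
  obtain ⟨D, hD⟩ := exists_dim_quot _ hPne
  obtain ⟨F, hF⟩ := exists_dim_quot _ hfne
  obtain ⟨a, ha⟩ := exists_dim_quot P (Ideal.IsPrime.ne_top ‹_›)
  obtain ⟨n, hn⟩ := exists_dim A
  obtain ⟨h, hh⟩ := exists_height P
  have hall : ∀ P' ∈ (P.map (algebraMap A B)).minimalPrimes, ∃ k : ℕ,
      ringKrullDim (B ⧸ P') = (k : WithBot ℕ∞) ∧ k + h = N ∧ k ≤ D := by
    intro P' hP'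
    have := hP'.1.1
    obtain ⟨k, hk⟩ := exists_dim_quot P' this.ne_top
    refine ⟨k, hk, ?_, ?_⟩
    · have h1 := dim_add_height hcat heq P'
      rw [height_minimal P P' hP', hk, hN, hh] at h1
      exact_mod_cast h1
    · have h1 := dim_quot_mono hP'.1.2
      rw [hk, hD] at h1
      exact_mod_cast h1
  obtain ⟨Q, hQ⟩ := Ideal.nonempty_minimalPrimes hPne
  obtain ⟨k, hk, hkN, hkD⟩ := hall Q hQ
  have hDk : D = k := by
    have h1 := dim_quot_le (P.map (algebraMap A B)) (k : WithBot ℕ∞) fun P' hP' => by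
      obtain ⟨k', hk', hk'N, -⟩ := hall P' hP'
      rw [hk', show k' = k by omega]
    rw [hD] at h1
    have : D ≤ k := by exact_mod_cast h1
    omega
  refine ⟨fun P' hP' => ?_, ?_⟩
  · obtain ⟨k', hk', hk'N, -⟩ := hall P' hP'
    rw [hk', hD, show k' = D by omega]
  · have h1 := dim_quot_eq_add A B P (Ideal.IsPrime.ne_top ‹_›)
    rw [hD, ha, hF] at h1
    have h2 := FlatLocalDepth.ringKrullDim_eq_add A B
    rw [hN, hn, hF] at h2
    have e1 : D = a + F := by exact_mod_cast h1
    have e2 : N = n + F := by exact_mod_cast h2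
    rw [ha, hn, hh]
    exact_mod_cast (show a + h = n by omega)

theorem isEquidim_descent (heq : EGA4.IsEquidim B) (hcat : CAlg.IsCatenary B) : EGA4.IsEquidim A := by
  intro P hP
  have := hP.1.1
  have h := (dim_minimal A B heq hcat P).2
  rwa [Ideal.height_eq_zero_iff.2 hP, WithBot.coe_zero, add_zero] at h

/-- `B/PB` is equidimensional and catenary. -/
theorem isEquidim_map_prime (heq : EGA4.IsEquidim B) (hcat : CAlg.IsCatenary B) (P : Ideal A) [P.IsPrime] :
    EGA4.IsEquidim (B ⧸ P.map (algebraMap A B)) :=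
  (isEquidim_quot_iff _).2 (dim_minimal A B heq hcat P).1

theorem isCatenary_descent (heq : EGA4.IsEquidim B) (hcat : CAlg.IsCatenary B) : CAlg.IsCatenary A := by
  refine isCatenary_of_dim_formula fun P _ Q _ => ?_
  have : Nontrivial (B ⧸ P.map (algebraMap A B)) :=
    Ideal.Quotient.nontrivial_iff.2 (map_ne_top A B (Ideal.IsPrime.ne_top ‹_›))
  have : IsLocalRing (A ⧸ P) := IsLocalRing.of_surjective' (Ideal.Quotient.mk P) Ideal.Quotient.mk_surjective
  have : IsLocalRing (B ⧸ P.map (algebraMap A B)) :=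
    IsLocalRing.of_surjective' (Ideal.Quotient.mk _) Ideal.Quotient.mk_surjective
  have := isLocalHom_quot A B P (Ideal.IsPrime.ne_top ‹_›)
  have := flat_quot A B P
  exact (dim_minimal (A ⧸ P) (B ⧸ P.map (algebraMap A B)) (isEquidim_map_prime A B heq hcat P)
    (CatenaryLib.isCatenary_of_surjective _ Ideal.Quotient.mk_surjective hcat) Q).2

/-- With zero-dimensional closed fibre, `A/a` and `B/aB` are equidimensional together. -/
theorem isEquidim_quot_iff_of_fibre (heq : EGA4.IsEquidim B) (hcat : CAlg.IsCatenary B)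
    (h0 : ringKrullDim (B ⧸ (maximalIdeal A).map (algebraMap A B)) = 0) (a : Ideal A) :
    EGA4.IsEquidim (B ⧸ a.map (algebraMap A B)) ↔ EGA4.IsEquidim (A ⧸ a) := by
  rw [isEquidim_quot_iff, isEquidim_quot_iff]
  by_cases ha : a = ⊤
  · subst ha
    simp [Ideal.map_top, Ideal.minimalPrimes_top]
  have hdim : ∀ I : Ideal A, I ≠ ⊤ → ringKrullDim (B ⧸ I.map (algebraMap A B)) = ringKrullDim (A ⧸ I) :=
    fun I hI => by rw [dim_quot_eq_add A B I hI, h0, add_zero]
  constructor
  · intro h P hP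
    have := hP.1.1
    obtain ⟨P', hP'⟩ := Ideal.nonempty_minimalPrimes (map_ne_top A B this.ne_top : P.map (algebraMap A B) ≠ ⊤)
    have := hP'.1.1
    obtain ⟨R, hR, hRP⟩ := Ideal.exists_minimalPrimes_le
      ((Ideal.map_mono hP.1.2).trans hP'.1.2 : a.map (algebraMap A B) ≤ P')
    obtain ⟨hR1, hR2⟩ := under_mem_minimal a R hR
    have := hR.1.1
    have hRP' : R.comap (algebraMap A B) = P := le_antisymm
      ((Ideal.comap_mono hRP).trans (under_minimal P P' hP').le)
      (hP.2 hR1.1 ((Ideal.comap_mono hRP).trans (under_minimal P P' hP').le))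
    have : R = P' := le_antisymm hRP (hP'.2 ⟨hR.1.1, hRP' ▸ hR2.1.2⟩ hRP)
    subst this
    rw [← hdim P (Ideal.IsPrime.ne_top inferInstance), ← hdim a ha, ← (dim_minimal A B heq hcat P).1 R hP', h R hR]
  · intro h P' hP'
    obtain ⟨h1, h2⟩ := under_mem_minimal a P' hP'
    have := h1.1.1
    rw [(dim_minimal A B heq hcat _).1 P' h2, hdim _ (Ideal.IsPrime.ne_top inferInstance), hdim a ha, h _ h1]

end Groth.Agent.LeadFCat
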