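import Groth.Agent.LeadFCat.HullLocalCriterion
import Groth.Agent.LocCohBasic.Finiteness

/-!
# Finiteness of the first local cohomology of a domain
-/

set_option autoImplicit false
universe u

open IsLocalRing CategoryTheory LocCoh

namespace Groth.Agent.LeadFCat

/-- A power of `t` bounds all colon ideals of powers of `t` by powers of `I`. -/
def ColonBound {B : Type u} [CommRing B] (I : Ideal B) (t : B) : Prop :=
  ∃ N : ℕ, ∀ (n k : ℕ) (a : B), (∀ g ∈ I ^ k, a * g ∈ Ideal.span {t ^ n}) → t ^ N * a ∈ Ideal.span {t ^ n}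

theorem colonBound_of_boundedDenom {B C : Type u} [CommRing B] [IsDomain B] [IsNoetherianRing B] [CommRing C]
    [IsNoetherianRing C] [Algebra B C] [Module.FaithfullyFlat B C] (I : Ideal B) {t : B} (htI : t ∈ I) (ht : t ≠ 0)
    (h : BoundedDenom B (fun Q => ¬ I.map (algebraMap B C) ≤ Q) (⊤ : Ideal C)) : ColonBound I t := by
  classical
  obtain ⟨s, hs, h⟩ := h
  have key : ∀ (n k : ℕ) (a : B), (∀ g ∈ I ^ k, a * g ∈ Ideal.span {t ^ n}) → s * a ∈ Ideal.span {t ^ n} := by
    intro n k a hag
    obtain ⟨z, -, hz⟩ := h (algebraMap B C a) trivial (t ^ n) (pow_ne_zero _ ht) fun Q _ hQ => by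
      obtain ⟨g, hg, hgQ⟩ : ∃ g ∈ I, algebraMap B C g ∉ Q := by
        by_contra hcon
        push Not at hcon
        exact hQ (Ideal.map_le_iff_le_comap.2 hcon)
      obtain ⟨b, hb⟩ := Ideal.mem_span_singleton.1 (hag _ (Ideal.pow_mem_pow hg k))
      exact ⟨algebraMap B C (g ^ k), fun hm => hgQ (Ideal.IsPrime.mem_of_pow_mem ‹_› k (by rwa [← map_pow])),
        algebraMap B C b, trivial, by rw [← map_mul, ← map_mul, mul_comm, hb]⟩
    rw [← Ideal.comap_map_eq_self_of_faithfullyFlat (B := C) (Ideal.span {t ^ n}), Ideal.mem_comap, Ideal.map_span,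
      Set.image_singleton, map_mul, hz]
    exact Ideal.mul_mem_right _ _ (Ideal.mem_span_singleton_self _)
  -- turn the denominator into a power of `t`
  let W : Set B := {b | ∃ (n k : ℕ) (a : B), (∀ g ∈ I ^ k, a * g ∈ Ideal.span {t ^ n}) ∧ s * a = t ^ n * b}
  obtain ⟨F, hFW, hFspan⟩ := Submodule.fg_span_iff_fg_span_finset_subset W |>.1 (IsNoetherian.noetherian (Submodule.span B W))
  choose! nn kk aa hcond heq using fun b (hb : b ∈ F) => (hFW hb : b ∈ W)
  let N := F.sup nn
  refine ⟨N, fun n k a hag => ?_⟩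
  obtain ⟨b, hb⟩ := Ideal.mem_span_singleton.1 (key n k a hag)
  have hbW : b ∈ Submodule.span B (F : Set B) := hFspan ▸ Submodule.subset_span ⟨n, k, a, hag, hb⟩
  obtain ⟨e, he⟩ : ∃ e, t ^ N * b = s * e := by
    refine Submodule.span_induction (p := fun b _ => ∃ e, t ^ N * b = s * e) ?_ ⟨0, by simp⟩ ?_ ?_ hbW
    · intro w hw
      obtain ⟨d, hd⟩ := Nat.exists_eq_add_of_le (show nn w ≤ N from Finset.le_sup (f := nn) hw)
      refine ⟨t ^ d * aa w, ?_⟩
      rw [hd, pow_add]
      linear_combination -(t ^ d) * heq w hw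
    · rintro x y _ _ ⟨e, he⟩ ⟨e', he'⟩; exact ⟨e + e', by rw [mul_add, mul_add, he, he']⟩
    · rintro r x _ ⟨e, he⟩; exact ⟨r * e, by rw [smul_eq_mul, mul_left_comm, he, mul_left_comm]⟩
  refine Ideal.mem_span_singleton.2 ⟨e, mul_left_cancel₀ hs ?_⟩
  linear_combination (t ^ N) * hb + (t ^ n) * he

theorem height_map_maximalIdeal_le {C : Type u} [CommRing C] (Q r : Ideal C) [Q.IsPrime] [r.IsPrime] (hrQ : r ≤ Q) :
    ((maximalIdeal (Localization.AtPrime Q)).map
        (Ideal.Quotient.mk (r.map (algebraMap C (Localization.AtPrime Q))))).height ≤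
      (Q.map (Ideal.Quotient.mk r)).height := by
  let R := Localization.AtPrime Q
  let r' := r.map (algebraMap C R)
  have hdisj : Disjoint (Q.primeCompl : Set C) r := Set.disjoint_left.2 fun c hc hcr => hc (hrQ hcr)
  have : r'.IsPrime := IsLocalization.isPrime_of_isPrime_disjoint Q.primeCompl R r ‹_› hdisj
  let emb : PrimeSpectrum (R ⧸ r') → PrimeSpectrum (C ⧸ r) :=
    PrimeSpectrum.comap (Ideal.quotientMap r' (algebraMap C R) Ideal.le_comap_map)
  have hinj : StrictMono emb := by
    intro a b hab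
    have h1 : a.asIdeal.comap (Ideal.Quotient.mk r') < b.asIdeal.comap (Ideal.Quotient.mk r') :=
      lt_of_le_of_ne (Ideal.comap_mono hab.le) fun e => hab.ne (PrimeSpectrum.ext
        (Ideal.comap_injective_of_surjective _ Ideal.Quotient.mk_surjective e))
    have h2 : (a.asIdeal.comap (Ideal.Quotient.mk r')).comap (algebraMap C R) <
        (b.asIdeal.comap (Ideal.Quotient.mk r')).comap (algebraMap C R) :=
      lt_of_le_of_ne (Ideal.comap_mono h1.le) fun e => h1.ne (by
        rw [← IsLocalization.map_under Q.primeCompl R (a.asIdeal.comap (Ideal.Quotient.mk r')),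
          ← IsLocalization.map_under Q.primeCompl R (b.asIdeal.comap (Ideal.Quotient.mk r'))]
        exact congrArg (Ideal.map (algebraMap C R)) e)
    refine lt_of_le_of_ne (Ideal.comap_mono hab.le) fun e => h2.ne ?_
    have e' := congrArg (fun v : PrimeSpectrum (C ⧸ r) => v.asIdeal.comap (Ideal.Quotient.mk r)) e
    change (a.asIdeal.comap (Ideal.quotientMap r' (algebraMap C R) Ideal.le_comap_map)).comap (Ideal.Quotient.mk r) =
      (b.asIdeal.comap (Ideal.quotientMap r' (algebraMap C R) Ideal.le_comap_map)).comap (Ideal.Quotient.mk r) at e'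
    rwa [Ideal.comap_comap, Ideal.comap_comap, Ideal.quotientMap_comp_mk, ← Ideal.comap_comap,
      ← Ideal.comap_comap] at e'
  have hPr : ((maximalIdeal R).map (Ideal.Quotient.mk r')).IsPrime :=
    Ideal.map_isPrime_of_surjective Ideal.Quotient.mk_surjective (by
      rw [Ideal.mk_ker]; exact le_maximalIdeal Ideal.IsPrime.ne_top')
  have hQr : (Q.map (Ideal.Quotient.mk r)).IsPrime :=
    Ideal.map_isPrime_of_surjective Ideal.Quotient.mk_surjective (by rwa [Ideal.mk_ker])
  rw [PrimeSpectrum.height_eq_orderHeight ⟨_, hPr⟩, PrimeSpectrum.height_eq_orderHeight ⟨_, hQr⟩]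
  have he : emb ⟨_, hPr⟩ = ⟨_, hQr⟩ := by
    refine PrimeSpectrum.ext (Ideal.comap_injective_of_surjective _ Ideal.Quotient.mk_surjective ?_)
    show (((maximalIdeal R).map (Ideal.Quotient.mk r')).comap (Ideal.quotientMap r' (algebraMap C R) Ideal.le_comap_map)).comap
      (Ideal.Quotient.mk r) = (Q.map (Ideal.Quotient.mk r)).comap (Ideal.Quotient.mk r)
    rw [Ideal.comap_comap, Ideal.quotientMap_comp_mk, ← Ideal.comap_comap,
      LocCohBasic.comap_map_mk (le_maximalIdeal Ideal.IsPrime.ne_top'), LocCohBasic.comap_map_mk hrQ,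
      ← Ideal.under_def _ (maximalIdeal R), Localization.AtPrime.under_maximalIdeal]
  rw [← he]
  exact Order.height_le_height_apply_of_strictMono emb hinj _

theorem colonBound_localization {A : Type u} [CommRing A] [IsDomain A] [IsNoetherianRing A] (I : Ideal A)
    {t : A} (htI : t ∈ I) (ht : t ≠ 0)
    (h : ∀ (q : Ideal A) [q.IsPrime], I ≤ q → NoSmallAssPrimes (Localization.AtPrime q)) :
    ∀ (n : ℕ) (q : Ideal A) [q.IsPrime], I ≤ q → q.height ≤ n →
      ColonBound (I.map (algebraMap A (Localization.AtPrime q))) (algebraMap A (Localization.AtPrime q) t) := by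
  intro n
  induction n using Nat.strong_induction_on with
  | _ n ih =>
    intro P _ hIP hPn
    let B := Localization.AtPrime P
    have : IsNoetherianRing B := IsLocalization.isNoetherianRing P.primeCompl B inferInstance
    let C := EGA4.Cpl B
    have : IsNoetherianRing C := AdicNoeth.isNoetherianRing_adicCompletion _
    have hmC := cpl_map_maximalIdeal B
    have : IsLocalHom (algebraMap B C) := (local_hom_TFAE (algebraMap B C)).out 2 0 |>.1 hmC.le
    have : Module.FaithfullyFlat B C := Module.FaithfullyFlat.of_flat_of_isLocalHom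
    have hinjA : Function.Injective (algebraMap A B) :=
      IsLocalization.injective B P.primeCompl_le_nonZeroDivisors
    have htB : algebraMap A B t ≠ 0 := (map_ne_zero_iff _ hinjA).2 ht
    have hreg : ∀ x : B, x ≠ 0 → IsSMulRegular C (algebraMap B C x) := fun x hx =>
      IsSMulRegular.of_flat (R := B) (fun a b h => mul_left_cancel₀ hx h)
    refine colonBound_of_boundedDenom (C := C) _ (Ideal.mem_map_of_mem _ htI) htB
      (boundedDenom_top hreg (fun p _ _ => ?_) fun r hr Q _ hrQ hh hIQ => ?_)
    · have : IsAdicComplete (maximalIdeal C) C := by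
        rw [← cpl_map_maximalIdeal]
        exact AdicCompletion.isAdicComplete_self _ (IsNoetherian.noetherian _)
      obtain ⟨S, _, _, g, hg⟩ := LocDuality.exists_regular_surjection (R := C)
      have := GorenBasic.isGorensteinLocalRing_of_isRegularLocalRing S
      have : LocCoh.IsCohenMacaulayLocalRing S := LocDuality.isCohenMacaulayLocalRing_of_gorenstein
      have : LocCoh.IsCohenMacaulayRing S := Depth.isCohenMacaulayRing_of_local
      let e : S ⧸ p.comap g ≃+* C ⧸ p := RingEquiv.ofBijective (Ideal.quotientMap p g le_rfl)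
        ⟨Ideal.quotientMap_injective, Ideal.quotientMap_surjective hg⟩
      obtain ⟨m, hm⟩ := exists_height (p.comap g)
      exact hull_finite_of_ringEquiv e (hull_finite_of_CM_quot m S (p.comap g) hm.le)
    have hrp : r.IsPrime := hr.isPrime
    let J := Q.comap (algebraMap B C)
    by_cases hJm : J = maximalIdeal B
    · have hQ : Q = maximalIdeal C := le_antisymm (le_maximalIdeal Ideal.IsPrime.ne_top') (by
        rw [← hmC]; exact Ideal.map_le_iff_le_comap.2 hJm.ge)
      have h3 := h P hIP r hr
      rw [ringKrullDim_quot_eq_height, ← hQ, hh] at h3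
      exact absurd (WithBot.coe_le_coe.1 h3) (by norm_num)
    let P' := J.comap (algebraMap A B)
    have hIP' : I ≤ P' := fun x hx => hIQ (Ideal.mem_map_of_mem _ (Ideal.mem_map_of_mem _ hx))
    have hlt : P' < P := by
      have h1 : J.comap (algebraMap A B) ≤ (maximalIdeal B).comap (algebraMap A B) :=
        Ideal.comap_mono (le_maximalIdeal Ideal.IsPrime.ne_top')
      rw [← Ideal.under_def _ (maximalIdeal B), Localization.AtPrime.under_maximalIdeal] at h1
      refine lt_of_le_of_ne h1 fun he => hJm (le_antisymm (le_maximalIdeal Ideal.IsPrime.ne_top') ?_)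
      rw [← Localization.AtPrime.map_eq_maximalIdeal]
      exact Ideal.map_le_iff_le_comap.2 he.ge
    obtain ⟨m, hm⟩ := exists_height P'
    have hmn : m < n := by
      have := (Ideal.height_strict_mono_of_isPrime hlt).trans_le hPn
      rw [hm] at this
      exact_mod_cast this
    obtain ⟨N', hN'⟩ := ih m hmn P' hIP' hm.le
    let A' := Localization.AtPrime P'
    let R := Localization.AtPrime Q
    have : IsNoetherianRing A' := IsLocalization.isNoetherianRing P'.primeCompl A' inferInstance
    have : IsNoetherianRing R := IsLocalization.isNoetherianRing Q.primeCompl R inferInstance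
    let g : A →+* R := (algebraMap C R).comp ((algebraMap B C).comp (algebraMap A B))
    have hunit : ∀ y : P'.primeCompl, IsUnit (g y) := fun y =>
      IsLocalization.map_units R (⟨algebraMap B C (algebraMap A B y), y.2⟩ : Q.primeCompl)
    let _ : Algebra A' R := (IsLocalization.lift (M := P'.primeCompl) hunit).toAlgebra
    have hgD : algebraMap A R = g := RingHom.ext fun d => by
      show algebraMap A R d = algebraMap C R (algebraMap B C (algebraMap A B d))
      rw [← IsScalarTower.algebraMap_apply A B C, ← IsScalarTower.algebraMap_apply A C R]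
    have hgl : ∀ d, algebraMap A' R (algebraMap A A' d) = g d := fun d => IsLocalization.lift_eq hunit d
    have : IsScalarTower A A' R := IsScalarTower.of_algebraMap_eq fun d => by rw [hgl, hgD]
    have hgflat : g.Flat := by
      refine RingHom.Flat.comp (RingHom.Flat.comp ?_ ?_) ?_
      · exact RingHom.flat_algebraMap_iff.2 (IsLocalization.flat B P.primeCompl)
      · exact RingHom.flat_algebraMap_iff.2 inferInstance
      · exact RingHom.flat_algebraMap_iff.2 (IsLocalization.flat R Q.primeCompl)
    have : Module.Flat A R := RingHom.flat_algebraMap_iff.1 (hgD.symm ▸ hgflat)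
    have : Module.Flat A' R := (Module.flat_iff_of_isLocalization A' P'.primeCompl R).2 inferInstance
    let r' := r.map (algebraMap C R)
    have hdisj : Disjoint (Q.primeCompl : Set C) r := Set.disjoint_left.2 fun c hc hcr => hc (hrQ hcr)
    have : r'.IsPrime := IsLocalization.isPrime_of_isPrime_disjoint Q.primeCompl R r hrp hdisj
    have hr' : r' ∈ associatedPrimes R R := map_mem_associatedPrimes_atPrime hr Q hrQ
    have hpA : ∀ x : A', x ≠ 0 → algebraMap A' R x ∉ r' := by
      intro x hx hmem
      have hreg' : IsSMulRegular R (algebraMap A' R x) :=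
        IsSMulRegular.of_flat (R := A') (fun a b h => mul_left_cancel₀ hx h)
      have h2 : algebraMap A' R x ∈ ⋃ p ∈ associatedPrimes R R, (p : Set R) := Set.mem_biUnion hr' hmem
      rw [biUnion_associatedPrimes_eq_compl_regular] at h2
      exact h2 hreg'
    have hmax : ∀ x ∈ P', algebraMap A A' x ∈ (maximalIdeal R).comap (algebraMap A' R) := fun x hx => by
      rw [Ideal.mem_comap, hgl]
      have := Ideal.mem_map_of_mem (algebraMap C R) (show algebraMap B C (algebraMap A B x) ∈ Q from hx)
      rwa [Localization.AtPrime.map_eq_maximalIdeal] at this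
    have htA' : algebraMap A A' t ≠ 0 :=
      (map_ne_zero_iff _ (IsLocalization.injective A' P'.primeCompl_le_nonZeroDivisors)).2 ht
    refine false_of_colonBound hr' (le_maximalIdeal (Ideal.IsPrime.ne_top')) hpA (fun h2 => ?_)
      (hmax t (hIP' htI)) htA' (pow_ne_zero N' htA') fun n k a hag => hN' n k a fun g hg => hag g ?_
    · have := h2.trans (height_map_maximalIdeal_le Q r hrQ)
      rw [hh] at this
      norm_num at this
    · exact Ideal.pow_right_mono (Ideal.map_le_iff_le_comap.2 fun x hx => hmax x (hIP' hx)) k hg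

/-- The bound on the whole ring. -/
theorem colonBound_of_local {A : Type u} [CommRing A] [IsDomain A] [IsNoetherianRing A] (I : Ideal A)
    {t : A} (htI : t ∈ I) (ht : t ≠ 0)
    (h : ∀ (q : Ideal A) [q.IsPrime], I ≤ q → NoSmallAssPrimes (Localization.AtPrime q)) : ColonBound I t := by
  classical
  let T : Ideal A := Ideal.span {t}
  have hloc : ∀ q : Ideal A, ∃ N : ℕ, q ∈ associatedPrimes A (A ⧸ T) → I ≤ q → ∀ (n k : ℕ) (a : A),
      (∀ g ∈ I ^ k, a * g ∈ Ideal.span {t ^ n}) → ∃ c ∉ q, c * (t ^ N * a) ∈ Ideal.span {t ^ n} := by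
    intro q
    by_cases hq : q ∈ associatedPrimes A (A ⧸ T) ∧ I ≤ q
    swap
    · exact ⟨0, fun h1 h2 => absurd ⟨h1, h2⟩ hq⟩
    have : q.IsPrime := hq.1.isPrime
    obtain ⟨m, hm⟩ := exists_height q
    obtain ⟨N, hN⟩ := colonBound_localization I htI ht h m q hq.2 hm.le
    refine ⟨N, fun _ _ n k a hag => ?_⟩
    let φ := algebraMap A (Localization.AtPrime q)
    have hsp : (Ideal.span {t ^ n} : Ideal A).map φ = Ideal.span {φ t ^ n} := by
      rw [Ideal.map_span, Set.image_singleton, map_pow]
    have := hN n k (φ a) fun g hg => by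
      rw [← Ideal.map_pow] at hg
      rw [← hsp]
      refine (show (I ^ k).map φ ≤ (Submodule.comap (LinearMap.mulLeft (Localization.AtPrime q) (φ a)) ((Ideal.span {t ^ n} : Ideal A).map φ) :
        Ideal (Localization.AtPrime q)) from Ideal.map_le_iff_le_comap.2 fun x hx => ?_) hg
      show φ a * φ x ∈ (Ideal.span {t ^ n} : Ideal A).map φ
      rw [← map_mul]
      exact Ideal.mem_map_of_mem _ (hag x hx)
    rw [← hsp, ← map_pow, ← map_mul] at this
    obtain ⟨c, hc, hc'⟩ := (IsLocalization.algebraMap_mem_map_algebraMap_iff q.primeCompl _ _ _).1 this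
    exact ⟨c, hc, hc'⟩
  choose N hN using hloc
  let Nmax := (associatedPrimes.finite A (A ⧸ T)).toFinset.sup N
  refine ⟨Nmax, fun n k a hag => ?_⟩
  by_contra hne
  let Tn : Ideal A := Ideal.span {t ^ n}
  obtain ⟨q, hq, hle⟩ := exists_le_isAssociatedPrime_of_isNoetherianRing A (Ideal.Quotient.mk Tn (t ^ Nmax * a))
    fun h0 => hne (Ideal.Quotient.eq_zero_iff_mem.1 h0)
  obtain ⟨hqp, y, hy⟩ := isAssociatedPrime_iff.1 hq
  obtain ⟨y, rfl⟩ := Ideal.Quotient.mk_surjective y
  have hann : ∀ x c : A, c ∈ (⊥ : Submodule A (A ⧸ Tn)).colon {Ideal.Quotient.mk Tn x} ↔ c * x ∈ Tn := fun x c => by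
    rw [Submodule.mem_colon_singleton, Submodule.mem_bot, Algebra.smul_def, Ideal.Quotient.algebraMap_eq,
      ← map_mul, Ideal.Quotient.eq_zero_iff_mem]
  have hI : I ≤ q := hqp.le_of_pow_le fun g hg => hle ((hann _ g).2 (by
    rw [show g * (t ^ Nmax * a) = t ^ Nmax * (a * g) by ring]
    exact Ideal.mul_mem_left _ _ (hag g hg)))
  have hqT : q ∈ associatedPrimes A (A ⧸ T) := by
    have htq : t * y ∈ Tn := (hann y t).1 (hy ▸ hI htI)
    obtain ⟨w, hw⟩ := Ideal.mem_span_singleton.1 htq
    rcases n with _ | n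
    · exact absurd ((Ideal.eq_top_iff_one q).2 (by rw [hy, hann]; simp [Tn])) hqp.ne_top
    have hyw : y = t ^ n * w := mul_left_cancel₀ ht (by rw [hw, pow_succ]; ring)
    refine isAssociatedPrime_iff.2 ⟨hqp, Ideal.Quotient.mk T w, ?_⟩
    ext c
    rw [hy, hann, Submodule.mem_colon_singleton, Submodule.mem_bot, Algebra.smul_def, Ideal.Quotient.algebraMap_eq,
      ← map_mul, Ideal.Quotient.eq_zero_iff_mem, Ideal.mem_span_singleton, Ideal.mem_span_singleton, hyw, pow_succ,
      mul_left_comm c (t ^ n) w, mul_dvd_mul_iff_left (pow_ne_zero n ht)]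
  obtain ⟨c, hc, hc'⟩ := hN q hqT hI n k a hag
  refine hc (hle ((hann _ c).2 ?_))
  have hNle : N q ≤ Nmax := Finset.le_sup (f := N) ((Set.Finite.mem_toFinset _).2 hqT)
  rw [← Nat.sub_add_cancel hNle, pow_add, show c * (t ^ (Nmax - N q) * t ^ N q * a) =
    t ^ (Nmax - N q) * (c * (t ^ N q * a)) by ring]
  exact Ideal.mul_mem_left _ _ hc'

/-- Finiteness of `H¹_I(A)` for a domain. -/
theorem finite_H1_domain {A : Type u} [CommRing A] [IsDomain A] [IsNoetherianRing A] (I : Ideal A) (hI : I ≠ ⊥)
    (h : ∀ (q : Ideal A) [q.IsPrime], I ≤ q → NoSmallAssPrimes (Localization.AtPrime q)) :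
    Module.Finite A (LocCoh.H I 1 A) := by
  classical
  let M : ModuleCat.{u} A := ModuleCat.of A A
  have hkill : ∀ t ∈ I, ∃ N : ℕ, ∀ y : (localCohomology I 1).obj M, (t ^ N) • y = 0 := by
    intro t htI
    by_cases ht : t = 0
    · exact ⟨1, fun y => by rw [ht, pow_one, zero_smul]⟩
    obtain ⟨N, hN⟩ := colonBound_of_local I htI ht h
    refine ⟨N, fun y => ?_⟩
    obtain ⟨m, hm⟩ := LocCohBasic.exists_pow_smul_eq_zero I M y
    have hreg : IsSMulRegular M (t ^ m) := fun a b hab => mul_left_cancel₀ (pow_ne_zero m ht) hab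
    have hS := LocCohBasic.smulSeq_shortExact (M := M) hreg
    obtain ⟨z, hz⟩ := LocCohBasic.exists_of_map_f_eq_zero I hS y
      ((LocCohBasic.map_lsmul I M _ y).trans (hm _ (Ideal.pow_mem_pow htI m)))
    let X := (LocCohBasic.smulSeq M (t ^ m)).X₃
    let e : (localCohomology I 0).obj X ≃ₗ[A] DRing.torsionSub I X :=
      ((LocCohBasic.zeroIso I).app X).toLinearEquiv
    have hzero : t ^ N • z = 0 := by
      apply e.injective
      rw [map_smul, map_zero]
      apply Subtype.ext
      obtain ⟨k, hk⟩ := (e z).2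
      let L : Submodule A M := LinearMap.range (LinearMap.lsmul A M (t ^ m))
      obtain ⟨a, ha⟩ : ∃ a : A, (Submodule.Quotient.mk a : M ⧸ L) = (e z).1 := Submodule.Quotient.mk_surjective L _
      obtain ⟨b, hb⟩ := Ideal.mem_span_singleton.1 (hN m k a fun g hg => by
        have h1 : g • (Submodule.Quotient.mk a : M ⧸ L) = 0 := by rw [ha]; exact hk g hg
        rw [← Submodule.Quotient.mk_smul] at h1
        obtain ⟨b, hb⟩ := (Submodule.Quotient.mk_eq_zero L).1 h1
        exact Ideal.mem_span_singleton'.2 ⟨b, by rw [mul_comm b, mul_comm a]; exact hb⟩)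
      have h2 : t ^ N • (Submodule.Quotient.mk a : M ⧸ L) = 0 := by
        rw [← Submodule.Quotient.mk_smul]
        exact (Submodule.Quotient.mk_eq_zero L).2 ⟨b, hb.symm⟩
      rw [ha] at h2
      exact h2
    rw [← hz]
    exact (map_smul (LocCohBasic.delta I 0 hS).hom _ z).symm.trans ((congrArg _ hzero).trans (map_zero _))
  have hrad : I ≤ (Module.annihilator A ((localCohomology I 1).obj M)).radical := fun t ht => by
    obtain ⟨N, hN⟩ := hkill t ht
    exact ⟨N, Module.mem_annihilator.2 hN⟩
  obtain ⟨N, hN⟩ := Ideal.exists_pow_le_of_le_radical_of_fg hrad (IsNoetherian.noetherian I)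
  obtain ⟨t, htI, ht⟩ := Submodule.exists_mem_ne_zero_of_ne_bot hI
  refine LocCohBasic.finite_of_annihilated I 1 M N (fun i hi a ha y => ?_) 1 le_rfl
  rcases (show i = 0 ∨ i = 1 by omega) with rfl | rfl
  · let e : (localCohomology I 0).obj M ≃ₗ[A] DRing.torsionSub I M := ((LocCohBasic.zeroIso I).app M).toLinearEquiv
    have h0 : ∀ v : DRing.torsionSub I M, v = 0 := fun v => by
      obtain ⟨k, hk⟩ := v.2
      exact Subtype.ext ((mul_eq_zero.1 (hk (t ^ k) (Ideal.pow_mem_pow htI k))).resolve_left (pow_ne_zero k ht))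
    exact e.injective ((h0 _).trans (h0 _).symm)
  · exact Module.mem_annihilator.1 (hN ha) y

end Groth.Agent.LeadFCat
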