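import Groth.Agent.LeadFCat.Birational
import Groth.Agent.DimFormula.Basic
import Groth.Agent.DimFormula.Scheme
import Groth.Agent.CAlgMisc.SmallA
import Mathlib.RingTheory.Valuation.LocalSubring

/-!
# Ratliff: universally catenary local rings are formally catenary
-/

set_option autoImplicit false
set_option backward.isDefEq.respectTransparency false
set_option backward.isDefEq.respectTransparency.types false
universe u

open IsLocalRing
open scoped TensorProduct

namespace Groth.Agent.LeadFCat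

/-- colon ideals commute with flat base change -/
theorem colon_map {A B : Type u} [CommRing A] [CommRing B] [Algebra A B] [Module.Flat A B]
    {κ : Type u} [Fintype κ] [DecidableEq κ] (f : A) (c : κ → A) (s : B)
    (hs : ∀ k, s * algebraMap A B (c k) ∈ Ideal.span {algebraMap A B f}) :
    s ∈ ((Submodule.span A {fun k => Ideal.Quotient.mk (Ideal.span {f}) (c k)}).annihilator).map (algebraMap A B) := by
  rw [CAlgMisc.annihilator_map_flat, Submodule.mem_annihilator_span_singleton, TensorProduct.smul_tmul',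
    smul_eq_mul, mul_one]
  have hsum : (fun k => Ideal.Quotient.mk (Ideal.span {f}) (c k)) =
      ∑ k, c k • (Pi.single k 1 : κ → A ⧸ Ideal.span {f}) := by
    funext j
    rw [Finset.sum_apply, Finset.sum_eq_single j (fun k _ hk => by simp [Pi.single_eq_of_ne hk.symm]) (by simp)]
    simp [Algebra.smul_def]
  rw [hsum, TensorProduct.tmul_sum]
  refine Finset.sum_eq_zero fun k _ => ?_
  obtain ⟨b, hb⟩ := Ideal.mem_span_singleton.1 (hs k)
  rw [← TensorProduct.smul_tmul, Algebra.smul_def, mul_comm, hb, ← Algebra.smul_def, TensorProduct.smul_tmul]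
  have h0 : f • (Pi.single k 1 : κ → A ⧸ Ideal.span {f}) = 0 := by
    funext j
    rcases eq_or_ne j k with rfl | hj
    · simp [Algebra.smul_def, Ideal.Quotient.eq_zero_iff_mem, Ideal.mem_span_singleton_self]
    · simp [Pi.single_eq_of_ne hj]
  rw [h0, TensorProduct.tmul_zero]

theorem exists_splitting {R : Type u} [CommRing R] [IsNoetherianRing R] [IsLocalRing R] (q : Ideal R) [q.IsPrime]
    (hq : q ∈ minimalPrimes R) (hq1 : ringKrullDim (R ⧸ q) = 1) (b : R) (hb : b ∈ maximalIdeal R) :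
    ∃ (n : ℕ) (z : R) (I J : Ideal R), z ∈ J ∧ I ≤ q ∧ b ^ n - z ∈ I ∧ I ⊓ J = ⊥ ∧
      (∀ s ∈ q, ∃ k : ℕ, s ^ k ∈ I) ∧
      ∀ u ∈ maximalIdeal R ^ n, u * z ∈ Ideal.span {b ^ n} := by
  classical
  let Rq := Localization.AtPrime q
  let I := RingHom.ker (algebraMap R Rq)
  have hIq : I ≤ q := fun x hx => by
    obtain ⟨⟨s, hs⟩, h⟩ := (IsLocalization.map_eq_zero_iff q.primeCompl Rq x).1 hx
    exact ((‹q.IsPrime›).mem_or_mem (show s * x ∈ q from h ▸ q.zero_mem)).resolve_left hs
  have hpow : ∀ s ∈ q, ∃ k : ℕ, s ^ k ∈ I := fun s hs => by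
    have hmin : ∀ (P : Ideal Rq), P.IsPrime → algebraMap R Rq s ∈ P := fun P hP => by
      have hle : P.comap (algebraMap R Rq) ≤ q := by
        have h := Ideal.comap_mono (f := algebraMap R Rq) (le_maximalIdeal hP.ne_top)
        rwa [← Ideal.under_def _ (maximalIdeal Rq), Localization.AtPrime.under_maximalIdeal] at h
      exact hq.2 ⟨hP.comap _, bot_le⟩ hle hs
    obtain ⟨k, hk⟩ := nilpotent_iff_mem_prime.2 hmin
    exact ⟨k, by rw [RingHom.mem_ker, map_pow, hk]⟩
  let J := Module.annihilator R I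
  have hJq : ¬ J ≤ q := by
    intro hle
    obtain ⟨S, hS⟩ := (IsNoetherian.noetherian I : I.FG)
    have : ∀ g ∈ S, ∃ s ∈ q.primeCompl, s * g = 0 := fun g hg => by
      have hgI : g ∈ I := hS ▸ Ideal.subset_span hg
      obtain ⟨⟨s, hs⟩, h⟩ := (IsLocalization.map_eq_zero_iff q.primeCompl Rq g).1 hgI
      exact ⟨s, hs, h⟩
    choose! s hs hsg using this
    have hprod : ∏ g ∈ S, s g ∈ q.primeCompl := Submonoid.prod_mem _ hs
    refine hprod (hle (Module.mem_annihilator.2 fun x => Subtype.ext ?_))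
    show (∏ g ∈ S, s g) * (x : R) = 0
    have hx : (x : R) ∈ Ideal.span (S : Set R) := by rw [show Ideal.span (S : Set R) = I from hS]; exact x.2
    obtain ⟨c, -, hc⟩ := Submodule.mem_span_finset.1 hx
    rw [← hc, Finset.mul_sum]
    refine Finset.sum_eq_zero fun g hg => ?_
    rw [← Finset.prod_erase_mul S s hg, smul_eq_mul, mul_assoc, mul_left_comm (s g), hsg g hg, mul_zero, mul_zero]
  obtain ⟨c, hc⟩ := Ideal.exists_pow_inf_eq_pow_smul J (I : Submodule R R)
  let J' := J ^ (c + 1)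
  have hIJ : I ⊓ J' = ⊥ := by
    rw [eq_bot_iff]
    intro x hx
    have h1 : x ∈ (J ^ (c + 1) • (⊤ : Submodule R R)) ⊓ I := ⟨by rw [smul_eq_mul, Ideal.mul_top]; exact hx.2, hx.1⟩
    rw [hc (c + 1) (by omega), Nat.add_sub_cancel_left, pow_one] at h1
    have h2 : J • ((J ^ c • (⊤ : Submodule R R)) ⊓ I) ≤ ⊥ := Submodule.smul_le.2 fun r hr y hy => by
      have := Module.mem_annihilator.1 hr ⟨y, hy.2⟩
      rw [Submodule.mem_bot]
      exact congrArg Subtype.val this
    exact h2 h1
  have hJ'q : ¬ J' ≤ q := fun h => hJq (Ideal.IsPrime.le_of_pow_le h)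
  have hrad : maximalIdeal R ≤ (I ⊔ J').radical := by
    rw [Ideal.radical_eq_sInf]
    refine le_sInf fun P ⟨hle, hP⟩ => ?_
    have hqP : q ≤ P := fun s hs => by
      obtain ⟨k, hk⟩ := hpow s hs
      exact hP.mem_of_pow_mem k (hle (Ideal.mem_sup_left hk))
    by_contra hm
    have hlt : P < maximalIdeal R := lt_of_le_of_ne (le_maximalIdeal hP.ne_top) fun he => hm he.ge
    have hPq : q < P := lt_of_le_of_ne hqP fun he => hJ'q (he ▸ le_sup_right.trans hle)
    let l : LTSeries (PrimeSpectrum.zeroLocus (q : Set R)) :=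
      ⟨2, ![⟨⟨q, ‹_›⟩, fun _ h => h⟩, ⟨⟨P, hP⟩, hqP⟩, ⟨⟨maximalIdeal R, inferInstance⟩, le_maximalIdeal (Ideal.IsPrime.ne_top ‹_›)⟩],
        fun i => by fin_cases i <;> [exact hPq; exact hlt]⟩
    have h2 : ((2 : ℕ) : WithBot ℕ∞) ≤ ringKrullDim (R ⧸ q) := by
      rw [ringKrullDim_quotient]
      exact le_iSup (fun p : LTSeries (PrimeSpectrum.zeroLocus (q : Set R)) => ((p.length : ℕ∞) : WithBot ℕ∞)) l
    rw [hq1] at h2
    exact absurd (show (2 : ℕ) ≤ 1 by exact_mod_cast h2) (by omega)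
  obtain ⟨n, hn⟩ := Ideal.exists_pow_le_of_le_radical_of_fg hrad (IsNoetherian.noetherian _)
  obtain ⟨i, hi, z, hz, hbz⟩ := Submodule.mem_sup.1 (hn (Ideal.pow_mem_pow hb n))
  have hbn : b ^ n - z ∈ I := by rw [← hbz, add_sub_cancel_right]; exact hi
  refine ⟨n, z, I, J', hz, hIq, hbn, hIJ, hpow, fun u hu => ?_⟩
  obtain ⟨i', hi', j, hj, huj⟩ := Submodule.mem_sup.1 (hn hu)
  have h1 : i' * z = 0 := (Submodule.mem_bot R).1 (hIJ ▸ ⟨I.mul_mem_right _ hi', J'.mul_mem_left _ hz⟩)
  have h2 : j * (b ^ n - z) = 0 :=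
    (Submodule.mem_bot R).1 (hIJ ▸ ⟨I.mul_mem_left _ hbn, J'.mul_mem_right _ hj⟩)
  rw [Ideal.mem_span_singleton]
  exact ⟨j, by rw [← huj, add_mul, h1, zero_add, mul_comm (b ^ n)]; exact (sub_eq_zero.1 (by rw [← mul_sub]; exact h2)).symm⟩



/-- A finite type algebraic extension of a one-dimensional local domain has height at most one over `m`. -/
theorem height_map_le_one {R T : Type u} [CommRing R] [CommRing T] [IsNoetherianRing R] [IsLocalRing R]
    (f : R →+* T) (hf : f.FiniteType) (q : Ideal R) [q.IsPrime] (hq1 : ringKrullDim (R ⧸ q) = 1)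
    (Q : Ideal T) [Q.IsPrime] (hQ : Q.comap f = q) (c : R) (hc : c ∉ q)
    (halg : ∀ x : T, ∃ (k : ℕ) (y : R), f (c ^ k) * x = f y)
    (N : Ideal T) [N.IsPrime] (hQN : Q ≤ N) (hm : ∀ y ∈ maximalIdeal R, f y ∈ N) :
    (N.map (Ideal.Quotient.mk Q)).height ≤ 1 := by
  let D := R ⧸ q
  let C := T ⧸ Q
  let j : D →+* C := Ideal.quotientMap Q f hQ.ge
  have : Nontrivial D := Ideal.Quotient.nontrivial_iff.2 (Ideal.IsPrime.ne_top ‹_›)
  have : IsLocalRing D := IsLocalRing.of_surjective' (Ideal.Quotient.mk q) Ideal.Quotient.mk_surjective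
  let _ : Algebra D C := j.toAlgebra
  have hjinj : Function.Injective (algebraMap D C) := Ideal.quotientMap_injective' hQ.le
  have : FaithfulSMul D C := (faithfulSMul_iff_algebraMap_injective D C).2 hjinj
  have hft : Algebra.FiniteType D C := by
    have h1 : (j.comp (Ideal.Quotient.mk q)).FiniteType := by
      rw [show j.comp (Ideal.Quotient.mk q) = (Ideal.Quotient.mk Q).comp f from Ideal.quotientMap_comp_mk _]
      exact RingHom.FiniteType.comp (RingHom.FiniteType.of_surjective _ Ideal.Quotient.mk_surjective) hf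
    exact RingHom.FiniteType.of_comp_finiteType h1
  have hNb : (N.map (Ideal.Quotient.mk Q)).IsPrime :=
    Ideal.map_isPrime_of_surjective Ideal.Quotient.mk_surjective (by rw [Ideal.mk_ker]; exact hQN)
  have hlies : (N.map (Ideal.Quotient.mk Q)).LiesOver (maximalIdeal D) := by
    refine ⟨le_antisymm ?_ (le_maximalIdeal (Ideal.IsPrime.ne_top inferInstance))⟩
    intro x hx
    obtain ⟨x, rfl⟩ := Ideal.Quotient.mk_surjective x
    rw [← IsLocalRing.map_maximalIdeal_of_surjective (Ideal.Quotient.mk q) Ideal.Quotient.mk_surjective,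
      Ideal.mem_map_iff_of_surjective _ Ideal.Quotient.mk_surjective] at hx
    obtain ⟨x', hx', hxx⟩ := hx
    rw [← hxx]
    exact Ideal.mem_map_of_mem (Ideal.Quotient.mk Q) (hm x' hx')
  obtain ⟨h, h', t, T', e1, e2, -, e4, hle⟩ :=
    DimFormula.dimIneq (A := D) C (maximalIdeal D) (N.map (Ideal.Quotient.mk Q))
  have : Algebra.IsAlgebraic D C := ⟨fun x => by
    obtain ⟨x, rfl⟩ := Ideal.Quotient.mk_surjective x
    obtain ⟨k, y, hy⟩ := halg x
    refine ⟨Polynomial.C (Ideal.Quotient.mk q (c ^ k)) * Polynomial.X - Polynomial.C (Ideal.Quotient.mk q y), ?_, ?_⟩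
    · intro h0
      have h1 := congrArg (fun p => Polynomial.coeff p 1) h0
      simp [-map_pow, Polynomial.coeff_C] at h1
      erw [Polynomial.coeff_C_zero, Polynomial.coeff_C_ne_zero one_ne_zero, sub_zero] at h1
      exact hc ((‹q.IsPrime›).mem_of_pow_mem k (Ideal.Quotient.eq_zero_iff_mem.1 h1))
    · rw [map_sub, map_mul, Polynomial.aeval_C, Polynomial.aeval_X, Polynomial.aeval_C]
      show Ideal.Quotient.mk Q (f (c ^ k)) * Ideal.Quotient.mk Q x - Ideal.Quotient.mk Q (f y) = 0
      rw [← map_mul, hy, sub_self]⟩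
  have hT0 : T' = 0 := by
    rw [trdeg_eq_zero] at e4
    exact_mod_cast e4.symm
  have hh' : h' = 1 := by
    have h1 := IsLocalRing.maximalIdeal_height_eq_ringKrullDim (R := D)
    rw [e2, show ringKrullDim D = 1 from hq1] at h1
    exact_mod_cast h1
  rw [e1]
  exact_mod_cast (show h ≤ 1 by omega)

set_option maxHeartbeats 2000000 in
set_option synthInstance.maxHeartbeats 400000 in
/-- The contradiction in the one-dimensional component case. -/
theorem dim_le_one_aux {A : Type u} [CommRing A] [IsDomain A] [IsNoetherianRing A] [IsLocalRing A]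
    (hA : CAlg.IsUniversallyCatenary A) [IsNoetherianRing (EGA4.Cpl A)]
    (q : Ideal (EGA4.Cpl A)) [q.IsPrime] [IsLocalRing (EGA4.Cpl A ⧸ q)]
    (hq1 : ringKrullDim (EGA4.Cpl A ⧸ q) = 1)
    (b : A) (hb0 : b ≠ 0) (hbcq : algebraMap A (EGA4.Cpl A) b ∉ q) (n : ℕ) (z : EGA4.Cpl A)
    (I J : Ideal (EGA4.Cpl A)) (hzJ : z ∈ J) (hIJ : I ⊓ J = ⊥) (hpow : ∀ s ∈ q, ∃ k : ℕ, s ^ k ∈ I)
    (hzq : Ideal.Quotient.mk q z = Ideal.Quotient.mk q (algebraMap A (EGA4.Cpl A) b ^ n))
    (V : ValuationSubring (FractionRing (EGA4.Cpl A ⧸ q)))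
    (hV : LocalSubring.range (algebraMap (EGA4.Cpl A ⧸ q) (FractionRing (EGA4.Cpl A ⧸ q))) ≤ V.toLocalSubring)
    (ψS : Localization.Away (algebraMap A (EGA4.Cpl A) b) →+* FractionRing (EGA4.Cpl A ⧸ q))
    (hψS : ∀ y, ψS (algebraMap _ _ y) = algebraMap _ _ (Ideal.Quotient.mk q y))
    (B : Type u) [CommRing B] [IsDomain B] [Algebra A B] [Algebra.FiniteType A B]
    (hBinj : Function.Injective (algebraMap A B))
    (hBpow : ∀ w : B, ∃ (k : ℕ) (c : A), algebraMap A B (b ^ k) * w = algebraMap A B c)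
    (fB : B →ₐ[A] Localization.Away (algebraMap A (EGA4.Cpl A) b))
    (hBV : ∀ w, ψS (fB w) ∈ V)
    (G : Finset A)
    (hG : ∀ y ∈ G, ∃ g : B, fB g * algebraMap _ _ (algebraMap A (EGA4.Cpl A) b ^ n) =
      algebraMap _ _ (algebraMap A (EGA4.Cpl A) y))
    (hzG : z ∈ Ideal.span ((algebraMap A (EGA4.Cpl A)) '' (G : Set A))) :
    ringKrullDim A ≤ 1 := by
  let Ac := EGA4.Cpl A
  let bc := algebraMap A Ac b
  let D := Ac ⧸ q
  let L := FractionRing D
  let S := Localization.Away bc
  let toL : Ac →+* L := (algebraMap D L).comp (Ideal.Quotient.mk q)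
  have hVtoL : ∀ y, toL y ∈ V := fun y => hV.1 ⟨_, rfl⟩
  have hbL : toL bc ≠ 0 := fun h => hbcq (Ideal.Quotient.eq_zero_iff_mem.1
    (IsFractionRing.injective D L (h.trans (map_zero _).symm)))
  have : IsNoetherianRing B := Algebra.FiniteType.isNoetherianRing A B
  let iA : Ac →+* (B ⊗[A] Ac) := (Algebra.TensorProduct.includeRight : Ac →ₐ[A] (B ⊗[A] Ac)).toRingHom
  let iB : B →+* (B ⊗[A] Ac) := algebraMap B (B ⊗[A] Ac)
  have : IsScalarTower A Ac S := inferInstance
  let fA : Ac →ₐ[A] S := IsScalarTower.toAlgHom A Ac S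
  let θ : (B ⊗[A] Ac) →ₐ[A] S := Algebra.TensorProduct.productMap fB fA
  have hθA : ∀ y, θ (iA y) = algebraMap Ac S y := fun y => Algebra.TensorProduct.productMap_right_apply _ _ _
  have hθB : ∀ w : B, θ (iB w) = fB w := fun w => Algebra.TensorProduct.productMap_left_apply _ _ _
  have hT1 : ∀ t : (B ⊗[A] Ac), ∃ (k : ℕ) (y : Ac), iA (bc ^ k) * t = iA y := by
    intro t
    induction t using TensorProduct.induction_on with
    | zero => exact ⟨0, 0, by simp⟩
    | add x x' h h' =>
      obtain ⟨k, y, e⟩ := h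
      obtain ⟨k', y', e'⟩ := h'
      refine ⟨k + k', bc ^ k' * y + bc ^ k * y', ?_⟩
      rw [pow_add, map_mul, map_add, map_mul, map_mul, ← e, ← e']; ring
    | tmul w x =>
      obtain ⟨k, c, e⟩ := hBpow w
      refine ⟨k, algebraMap A Ac c * x, ?_⟩
      show ((1 : B) ⊗ₜ[A] (bc ^ k)) * (w ⊗ₜ[A] x) = (1 : B) ⊗ₜ[A] (algebraMap A Ac c * x)
      rw [Algebra.TensorProduct.tmul_mul_tmul, one_mul, ← map_pow, ← Algebra.smul_def, ← Algebra.smul_def,
        ← TensorProduct.smul_tmul, ← TensorProduct.smul_tmul, Algebra.smul_def, e, ← Algebra.algebraMap_eq_smul_one]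
  have hTreg : ∀ (k : ℕ) (t : (B ⊗[A] Ac)), iA (bc ^ k) * t = 0 → t = 0 := by
    intro k t ht
    have hinj : Function.Injective (LinearMap.mulLeft A (algebraMap A B (b ^ k))) := fun x y h =>
      mul_left_cancel₀ ((map_ne_zero_iff _ hBinj).2 (pow_ne_zero _ hb0)) h
    have h2 := Module.Flat.rTensor_preserves_injective_linearMap (M := Ac) _ hinj
    refine h2 (?_ : _ = _)
    rw [map_zero]
    have heq : ∀ s : (B ⊗[A] Ac), (LinearMap.mulLeft A (algebraMap A B (b ^ k))).rTensor Ac s = iA (bc ^ k) * s := by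
      intro s
      induction s using TensorProduct.induction_on with
      | zero => simp
      | add x y hx hy => rw [map_add, hx, hy, mul_add]
      | tmul w x =>
        show (algebraMap A B (b ^ k) * w) ⊗ₜ[A] x = ((1 : B) ⊗ₜ[A] (bc ^ k)) * (w ⊗ₜ[A] x)
        rw [Algebra.TensorProduct.tmul_mul_tmul, one_mul, ← map_pow, ← Algebra.smul_def, ← Algebra.smul_def,
          TensorProduct.smul_tmul]
    rw [heq, ht]
  have hSinj : Function.Injective (algebraMap Ac S) := by
    refine IsLocalization.injective (M := Submonoid.powers bc) S ?_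
    rintro _ ⟨k, rfl⟩
    rw [mem_nonZeroDivisors_iff_right]
    intro y hy
    have hmul : Function.Injective (LinearMap.mulLeft A (b ^ k)) := fun x y h => mul_left_cancel₀ (pow_ne_zero _ hb0) h
    have h2 := Module.Flat.lTensor_preserves_injective_linearMap (M := Ac) _ hmul
    let e := TensorProduct.rid A Ac
    refine (LinearEquiv.map_eq_zero_iff e.symm).1 (h2 ?_)
    rw [map_zero]
    show (LinearMap.mulLeft A (b ^ k)).lTensor Ac (y ⊗ₜ[A] (1 : A)) = 0
    rw [LinearMap.lTensor_tmul, LinearMap.mulLeft_apply, mul_one, ← mul_one (b ^ k), ← smul_eq_mul,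
      ← TensorProduct.smul_tmul, Algebra.smul_def, map_pow, mul_comm]
    rw [show y * bc ^ k = 0 from hy, TensorProduct.zero_tmul]
  have hθinj : ∀ t, θ t = 0 → t = 0 := fun t ht => by
    obtain ⟨k, y, e⟩ := hT1 t
    refine hTreg k t ?_
    rw [e]
    have : algebraMap Ac S y = 0 := by rw [← hθA, ← e, map_mul, ht, mul_zero]
    rw [hSinj (this.trans (map_zero _).symm), map_zero]
  have he1 : ∀ w ∈ Ideal.span ((algebraMap A Ac) '' (G : Set A)),
      ∃ e : (B ⊗[A] Ac), θ e * algebraMap Ac S (bc ^ n) = algebraMap Ac S w := by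
    intro w hw
    induction hw using Submodule.span_induction with
    | mem x hx =>
      obtain ⟨y, hy, rfl⟩ := hx
      obtain ⟨g, hg⟩ := hG y hy
      refine ⟨iB g, ?_⟩
      rw [hθB]
      exact hg
    | zero => exact ⟨0, by simp⟩
    | add x x' _ _ h h' =>
      obtain ⟨e, he⟩ := h
      obtain ⟨e', he'⟩ := h'
      exact ⟨e + e', by rw [map_add, add_mul, he, he', map_add]⟩
    | smul r x _ h =>
      obtain ⟨e, he⟩ := h
      exact ⟨iA r * e, by rw [map_mul, hθA, mul_assoc, he, smul_eq_mul, map_mul]⟩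
  obtain ⟨e, he⟩ := he1 z hzG
  let φ : (B ⊗[A] Ac) →+* L := ψS.comp θ.toRingHom
  have hφA : ∀ y, φ (iA y) = toL y := fun y => (congrArg ψS (hθA y)).trans (hψS y)
  have hφV : ∀ t, φ t ∈ V := by
    have hgen : ∀ w : B, φ (iB w) ∈ V := fun w => by
      rw [show φ (iB w) = ψS (fB w) from congrArg ψS (hθB w)]
      exact hBV w
    intro t
    induction t using TensorProduct.induction_on with
    | zero => rw [map_zero]; exact zero_mem _
    | add x y hx hy => rw [map_add]; exact add_mem hx hy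
    | tmul w x =>
      have : (w ⊗ₜ[A] x : (B ⊗[A] Ac)) = iB w * iA x := by
        show (w ⊗ₜ[A] x : (B ⊗[A] Ac)) = (w ⊗ₜ[A] (1 : Ac)) * ((1 : B) ⊗ₜ[A] x)
        rw [Algebra.TensorProduct.tmul_mul_tmul, mul_one, one_mul]
      rw [this, map_mul, hφA]
      exact mul_mem (hgen w) (hVtoL x)
  have hφe : φ e = 1 := by
    have h1 := congrArg ψS he
    rw [map_mul, hψS, hψS, show Ideal.Quotient.mk q z = Ideal.Quotient.mk q (bc ^ n) from
      hzq] at h1
    have hne : toL (bc ^ n) ≠ 0 := by rw [map_pow]; exact pow_ne_zero _ hbL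
    exact mul_right_cancel₀ hne (h1.trans (one_mul _).symm)
  let φV : (B ⊗[A] Ac) →+* V := φ.codRestrict V.toSubring hφV
  let N0 : Ideal (B ⊗[A] Ac) := (maximalIdeal V).comap φV
  have hN0A : ∀ y ∈ maximalIdeal Ac, iA y ∈ N0 := fun y hy => by
    show φV (iA y) ∈ maximalIdeal V
    rw [mem_maximalIdeal]
    intro hu
    have hyD : Ideal.Quotient.mk q y ∈ maximalIdeal D := by
      rw [← IsLocalRing.map_maximalIdeal_of_surjective (Ideal.Quotient.mk q) Ideal.Quotient.mk_surjective]
      exact Ideal.mem_map_of_mem _ hy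
    have hval : ((φV (iA y)) : L) = algebraMap D L (Ideal.Quotient.mk q y) := hφA y
    obtain ⟨hle, hloc⟩ := id hV
    have hu' : IsUnit (Subring.inclusion hle ⟨algebraMap D L (Ideal.Quotient.mk q y), ⟨_, rfl⟩⟩) := by
      convert hu using 1
      exact Subtype.ext hval.symm
    have hu2 := hloc.map_nonunit _ hu'
    obtain ⟨⟨_, ⟨d, rfl⟩⟩, hd⟩ := hu2.exists_right_inv
    refine (mem_maximalIdeal _).1 hyD (IsUnit.of_mul_eq_one (b := d) (IsFractionRing.injective D L ?_))
    rw [map_mul, map_one]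
    exact congrArg Subtype.val hd
  have hN0p : N0.IsPrime := Ideal.IsPrime.comap φV
  obtain ⟨N, hNmax, hN0N⟩ := Ideal.exists_le_maximal N0 hN0p.ne_top
  have hQN : RingHom.ker φ ≤ N := fun x hx => hN0N (show φV x ∈ maximalIdeal V from by
    rw [show φV x = 0 from Subtype.ext hx]; exact zero_mem _)
  have heN : e ∉ N := fun h => by
    have h1 : e - 1 ∈ N := hQN (by rw [RingHom.mem_ker, map_sub, hφe, map_one, sub_self])
    exact hNmax.ne_top ((Ideal.eq_top_iff_one _).2 (by simpa using Ideal.sub_mem N h h1))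
  -- Noetherianity
  let cT : (B ⊗[A] Ac) ≃+* Ac ⊗[A] B := (Algebra.TensorProduct.comm A B Ac).toRingEquiv
  have : IsNoetherianRing (Ac ⊗[A] B) := Algebra.FiniteType.isNoetherianRing Ac _
  have hTN : IsNoetherianRing (B ⊗[A] Ac) := isNoetherianRing_of_ringEquiv _ cT.symm
  -- every prime inside `N` contains the kernel
  have hker : ∀ P : Ideal (B ⊗[A] Ac), P.IsPrime → P ≤ N → RingHom.ker φ ≤ P := by
    intro P hP hPN x hx
    obtain ⟨k, y, hy⟩ := hT1 x
    have hyq : y ∈ q := by
      have : toL y = 0 := by rw [← hφA, ← hy, map_mul, show φ x = 0 from hx, mul_zero]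
      exact Ideal.Quotient.eq_zero_iff_mem.1 (IsFractionRing.injective D L (this.trans (map_zero _).symm))
    obtain ⟨m, hm⟩ := hpow y hyq
    have h0 : y ^ m * z = 0 :=
      (Submodule.mem_bot Ac).1 (hIJ ▸ ⟨I.mul_mem_right _ hm, J.mul_mem_left _ hzJ⟩)
    have h1 : iA (bc ^ n) * ((iA (bc ^ k) * x) ^ m * e) = 0 := by
      refine hθinj _ ?_
      rw [hy, map_mul, map_mul, map_pow θ, hθA, hθA, mul_comm, mul_assoc, he, ← map_pow, ← map_mul, h0, map_zero]
    have h2 : iA (bc ^ n * (bc ^ k) ^ m) * (x ^ m * e) = 0 := by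
      rw [← h1]; simp only [map_mul, map_pow, mul_pow]; ring
    rw [← pow_mul, ← pow_add] at h2
    have h3 : x ^ m * e ∈ P := by rw [hTreg _ _ h2]; exact zero_mem _
    exact hP.mem_of_pow_mem m ((hP.mem_or_mem h3).resolve_right fun h => heN (hPN h))
  -- upper bound
  have hup : N.height ≤ 1 := by
    let Q0 := RingHom.ker φ
    have hQ0 : Q0.IsPrime := RingHom.ker_isPrime φ
    let C := (B ⊗[A] Ac) ⧸ Q0
    have hNb : (N.map (Ideal.Quotient.mk Q0)).IsPrime :=
      Ideal.map_isPrime_of_surjective Ideal.Quotient.mk_surjective (by rw [Ideal.mk_ker]; exact hQN)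
    obtain ⟨l, hl, hlen⟩ := N.exists_ltSeries_length_eq_height
    refine (DimFormula.height_le_height_map l hl hlen
      (hker _ l.head.2 (by have := l.head_le_last; rw [hl] at this; exact this))).trans ?_
    let _ : Algebra Ac (B ⊗[A] Ac) := iA.toAlgebra
    let eT : (Ac ⊗[A] B) ≃ₐ[Ac] (B ⊗[A] Ac) := AlgEquiv.ofRingEquiv (f := cT.symm) fun y => by
      show cT.symm (algebraMap Ac (Ac ⊗[A] B) y) = iA y
      rfl
    have hft : Algebra.FiniteType Ac (B ⊗[A] Ac) :=
      Algebra.FiniteType.equiv (inferInstance : Algebra.FiniteType Ac (Ac ⊗[A] B)) eT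
    refine height_map_le_one iA (RingHom.finiteType_algebraMap.2 hft) q hq1 Q0 ?_ bc hbcq hT1 N hQN
      (fun y hy => hN0N (hN0A y hy))
    ext y
    rw [Ideal.mem_comap, RingHom.mem_ker, hφA]
    show algebraMap D L (Ideal.Quotient.mk q y) = 0 ↔ _
    rw [map_eq_zero_iff _ (IsFractionRing.injective D L), Ideal.Quotient.eq_zero_iff_mem]
  -- lower bound
  let NB : Ideal B := N.comap iB
  have hNBp : NB.IsPrime := Ideal.IsPrime.comap iB
  have hsur : Function.Surjective ((Ideal.Quotient.mk N).comp iB) := by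
    intro x
    obtain ⟨x, rfl⟩ := Ideal.Quotient.mk_surjective x
    induction x using TensorProduct.induction_on with
    | zero => exact ⟨0, by simp only [map_zero]⟩
    | add u v hu hv =>
      obtain ⟨u', hu⟩ := hu
      obtain ⟨v', hv⟩ := hv
      exact ⟨u' + v', by rw [map_add, hu, hv, map_add]⟩
    | tmul w x =>
      obtain ⟨a, ha⟩ := RegLocus.exists_approx A 1 x
      rw [pow_one, cpl_map_maximalIdeal] at ha
      refine ⟨w * algebraMap A B a, ?_⟩
      refine (Ideal.Quotient.eq.2 ?_).symm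
      have e : (w ⊗ₜ[A] x) - iB (w * algebraMap A B a) = iB w * iA (x - algebraMap A Ac a) := by
        show (w ⊗ₜ[A] x) - ((w * algebraMap A B a) ⊗ₜ[A] (1 : Ac)) =
          (w ⊗ₜ[A] (1 : Ac)) * ((1 : B) ⊗ₜ[A] (x - algebraMap A Ac a))
        rw [Algebra.TensorProduct.tmul_mul_tmul, mul_one, one_mul, TensorProduct.tmul_sub,
          Algebra.algebraMap_eq_smul_one, Algebra.algebraMap_eq_smul_one, mul_smul_comm, mul_one,
          TensorProduct.smul_tmul]
      rw [e]
      exact Ideal.mul_mem_left N _ (hN0N (hN0A _ ha))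
  have hNBmax : NB.IsMaximal := by
    have h1 : RingHom.ker ((Ideal.Quotient.mk N).comp iB) = NB := by
      rw [← RingHom.comap_ker, Ideal.mk_ker]
    let _ := Ideal.Quotient.field N
    exact h1 ▸ RingHom.ker_isMaximal_of_surjective _ hsur
  have hNA : ∀ y ∈ maximalIdeal Ac, iA y ∈ N := fun y hy => hN0N (hN0A y hy)
  have hNBA : NB.comap (algebraMap A B) = maximalIdeal A := by
    refine ((IsLocalRing.maximalIdeal.isMaximal A).eq_of_le (Ideal.IsPrime.ne_top inferInstance) fun a ha => ?_).symm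
    show iB (algebraMap A B a) ∈ N
    have : iB (algebraMap A B a) = iA (algebraMap A Ac a) := by
      show (algebraMap A B a) ⊗ₜ[A] (1 : Ac) = (1 : B) ⊗ₜ[A] algebraMap A Ac a
      rw [Algebra.algebraMap_eq_smul_one, Algebra.algebraMap_eq_smul_one, TensorProduct.smul_tmul]
    rw [this]
    exact hNA _ (by rw [← cpl_map_maximalIdeal]; exact Ideal.mem_map_of_mem _ ha)
  have hbir : ∀ w : B, ∃ a : A, a ≠ 0 ∧ ∃ c : A, algebraMap A B a * w = algebraMap A B c := fun w => by
    obtain ⟨k, c, hc⟩ := hBpow w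
    exact ⟨b ^ k, pow_ne_zero _ hb0, c, hc⟩
  have hlow := height_of_birational hA B hBinj hbir NB hNBA
  have : N.LiesOver NB := ⟨rfl⟩
  have h1 : NB.height ≤ N.height := by
    rw [Ideal.height_eq_height_add_of_liesOver_of_hasGoingDown NB N]
    exact le_self_add
  rw [← hlow]
  exact WithBot.coe_le_coe.2 (h1.trans hup)


set_option maxHeartbeats 1000000 in
/-- A universally catenary local domain of dimension `≥ 2` has no one-dimensional component in its completion. -/
theorem dim_le_one_of_component {A : Type u} [CommRing A] [IsDomain A] [IsNoetherianRing A] [IsLocalRing A]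
    (hA : CAlg.IsUniversallyCatenary A) (q : Ideal (EGA4.Cpl A)) [q.IsPrime]
    (hq : q ∈ minimalPrimes (EGA4.Cpl A)) (hq1 : ringKrullDim (EGA4.Cpl A ⧸ q) = 1) :
    ringKrullDim A ≤ 1 := by
  have hN := AdicNoeth.isNoetherianRing_adicCompletion (maximalIdeal A)
  let Ac := EGA4.Cpl A
  have hq0 : q.comap (algebraMap A Ac) = ⊥ := by
    have h1 := (under_mem_minimal (⊥ : Ideal A) q (by rw [Ideal.map_bot]; exact hq)).1
    rw [minimalPrimes_bot', IsDomain.minimalPrimes_eq_singleton_bot] at h1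
    exact h1
  by_cases hm0 : maximalIdeal A = ⊥
  · rw [← IsLocalRing.maximalIdeal_height_eq_ringKrullDim, hm0, Ideal.height_bot]
    exact WithBot.coe_le_coe.2 bot_le
  obtain ⟨b, hb, hb0⟩ := Submodule.exists_mem_ne_zero_of_ne_bot hm0
  let bc := algebraMap A Ac b
  have hbcm : bc ∈ maximalIdeal Ac := by
    rw [← cpl_map_maximalIdeal]; exact Ideal.mem_map_of_mem _ hb
  have hbcq : bc ∉ q := fun h => hb0 (by
    have : b ∈ q.comap (algebraMap A Ac) := h
    rwa [hq0, Submodule.mem_bot] at this)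
  obtain ⟨n, z, I, J, hzJ, hIq, hbz, hIJ, hpow, hcol⟩ := exists_splitting q hq hq1 bc hbcm
  have hzq : Ideal.Quotient.mk q z = Ideal.Quotient.mk q (bc ^ n) :=
    (Ideal.Quotient.eq.2 (hIq hbz)).symm
  -- the field `L` and a valuation ring
  let D := Ac ⧸ q
  have : IsLocalRing D := IsLocalRing.of_surjective' (Ideal.Quotient.mk q) Ideal.Quotient.mk_surjective
  let L := FractionRing D
  let toL : Ac →+* L := (algebraMap D L).comp (Ideal.Quotient.mk q)
  have hbL : toL bc ≠ 0 := fun h => hbcq (Ideal.Quotient.eq_zero_iff_mem.1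
    (IsFractionRing.injective D L (h.trans (map_zero _).symm)))
  obtain ⟨V, hV⟩ := LocalSubring.exists_le_valuationSubring (LocalSubring.range (algebraMap D L))
  have hDV : ∀ d : D, algebraMap D L d ∈ V := fun d => hV.1 ⟨d, rfl⟩
  -- the two rings of fractions
  let Ab := Localization.Away b
  have hbAb : IsUnit (algebraMap A Ab b) := IsLocalization.Away.algebraMap_isUnit b
  let S := Localization.Away bc
  let ψ : Ab →+* L := IsLocalization.Away.lift (g := toL.comp (algebraMap A Ac)) b (Ne.isUnit hbL)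
  let ψS : S →+* L := IsLocalization.Away.lift (g := toL) bc (Ne.isUnit hbL)
  let γ : Ab →+* S := IsLocalization.Away.lift (g := (algebraMap Ac S).comp (algebraMap A Ac)) b
    (IsLocalization.Away.algebraMap_isUnit bc)
  have hψγ : ∀ w, ψS (γ w) = ψ w := fun w => by
    refine RingHom.congr_fun (IsLocalization.ringHom_ext (Submonoid.powers b) (RingHom.ext fun a => ?_) : ψS.comp γ = ψ) w
    simp [ψS, γ, ψ]
  have hψA : ∀ a, ψ (algebraMap A Ab a) = toL (algebraMap A Ac a) := fun a => by simp [ψ]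
  have hψS : ∀ y, ψS (algebraMap Ac S y) = toL y := fun y => by simp [ψS]
  have hγA : ∀ a, γ (algebraMap A Ab a) = algebraMap Ac S (algebraMap A Ac a) := fun a => by simp [γ]
  have hVtoL : ∀ y, toL y ∈ V := fun y => hDV _
  -- the colon ideal and the subalgebra
  classical
  obtain ⟨U, hU⟩ := (IsNoetherian.noetherian (maximalIdeal A ^ n) : (maximalIdeal A ^ n).FG)
  let ℐ : Ideal A := (Submodule.span A {fun k : U => Ideal.Quotient.mk (Ideal.span {b ^ n}) (k : A)}).annihilator
  have hℐ : ∀ y ∈ ℐ, ∀ u ∈ maximalIdeal A ^ n, u * y ∈ Ideal.span {b ^ n} := by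
    intro y hy u hu
    rw [Submodule.mem_annihilator_span_singleton] at hy
    rw [← hU] at hu
    induction hu using Submodule.span_induction with
    | mem x hx =>
      have h1 := congrFun hy ⟨x, hx⟩
      rw [Pi.smul_apply, Pi.zero_apply, Algebra.smul_def, Ideal.Quotient.algebraMap_eq, ← map_mul,
        Ideal.Quotient.eq_zero_iff_mem] at h1
      rwa [mul_comm]
    | zero => rw [zero_mul]; exact zero_mem _
    | add x x' _ _ h h' => rw [add_mul]; exact add_mem h h'
    | smul r x _ h => rw [smul_eq_mul, mul_assoc]; exact Ideal.mul_mem_left _ _ h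
  have hzℐ : z ∈ ℐ.map (algebraMap A Ac) := by
    refine colon_map (b ^ n) (fun k : U => (k : A)) z fun k => ?_
    rw [mul_comm, map_pow]
    refine hcol _ ?_
    rw [← cpl_map_maximalIdeal, ← Ideal.map_pow]
    exact Ideal.mem_map_of_mem _ (hU ▸ Ideal.subset_span k.2)
  let val : A → L := fun y => toL (algebraMap A Ac y) / toL bc ^ n
  let ℐ' : Ideal A :=
    { carrier := {y | y ∈ ℐ ∧ val y ∈ V}
      zero_mem' := ⟨zero_mem _, by simp [val, zero_mem]⟩
      add_mem' := fun {x y} hx hy => ⟨add_mem hx.1 hy.1, by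
        simp only [val, map_add, add_div]; exact add_mem hx.2 hy.2⟩
      smul_mem' := fun r y hy => ⟨ℐ.mul_mem_left r hy.1, by
        simp only [val, smul_eq_mul, map_mul, mul_div_assoc]; exact mul_mem (hVtoL _) hy.2⟩ }
  have hzℐ' : z ∈ ℐ'.map (algebraMap A Ac) := by
    have hmul : (maximalIdeal A ^ n * ℐ).map (algebraMap A Ac) ≤ ℐ'.map (algebraMap A Ac) := by
      refine Ideal.map_mono (Ideal.mul_le.2 fun u hu y hy => ⟨ℐ.mul_mem_left u hy, ?_⟩)
      obtain ⟨a, ha⟩ := Ideal.mem_span_singleton.1 (hℐ y hy u hu)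
      simp only [val, ha, map_mul, map_pow]
      rw [mul_div_cancel_left₀ _ (pow_ne_zero _ hbL)]
      exact hVtoL _
    have hmain : ∀ w ∈ ℐ.map (algebraMap A Ac), ∃ y ∈ ℐ,
        w - algebraMap A Ac y ∈ (maximalIdeal A ^ n * ℐ).map (algebraMap A Ac) := by
      intro w hw
      rw [Ideal.map] at hw
      induction hw using Submodule.span_induction with
      | mem x hx => obtain ⟨y, hy, rfl⟩ := hx; exact ⟨y, hy, by rw [sub_self]; exact zero_mem _⟩
      | zero => exact ⟨0, zero_mem _, by rw [map_zero, sub_zero]; exact zero_mem _⟩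
      | add x x' _ _ h h' =>
        obtain ⟨y, hy, e⟩ := h
        obtain ⟨y', hy', e'⟩ := h'
        exact ⟨y + y', add_mem hy hy', by rw [map_add, add_sub_add_comm]; exact add_mem e e'⟩
      | smul r x _ h =>
        obtain ⟨y, hy, e⟩ := h
        obtain ⟨a, ha⟩ := RegLocus.exists_approx A n r
        refine ⟨a * y, ℐ.mul_mem_left a hy, ?_⟩
        rw [smul_eq_mul, map_mul, show r * x - algebraMap A Ac a * algebraMap A Ac y =
          r * (x - algebraMap A Ac y) + (r - algebraMap A Ac a) * algebraMap A Ac y by ring]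
        refine add_mem (Ideal.mul_mem_left _ _ e) ?_
        rw [Ideal.map_mul, Ideal.map_pow]
        exact Ideal.mul_mem_mul ha (Ideal.mem_map_of_mem _ hy)
    obtain ⟨y, hy, e⟩ := hmain z hzℐ
    have hy' : y ∈ ℐ' := by
      refine ⟨hy, ?_⟩
      have hsub : (maximalIdeal A ^ n * ℐ).map (algebraMap A Ac) ≤ Ideal.span {bc ^ n} := by
        rw [show Ideal.span {bc ^ n} = (Ideal.span {b ^ n}).map (algebraMap A Ac) by
          rw [Ideal.map_span, Set.image_singleton, map_pow]]
        exact Ideal.map_mono (Ideal.mul_le.2 fun u hu w hw => hℐ w hw u hu)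
      obtain ⟨d, hd⟩ := Ideal.mem_span_singleton.1 (hsub e)
      have h1 : toL (algebraMap A Ac y) = toL bc ^ n - toL bc ^ n * toL d := by
        rw [show algebraMap A Ac y = z - bc ^ n * d by rw [← hd]; ring, map_sub, map_mul,
          show toL z = toL (bc ^ n) from congrArg (algebraMap D L) hzq, map_pow]
      show val y ∈ V
      simp only [val]
      rw [h1, ← mul_one_sub, mul_div_cancel_left₀ _ (pow_ne_zero _ hbL)]
      exact sub_mem (one_mem _) (hVtoL d)
    have : z = algebraMap A Ac y + (z - algebraMap A Ac y) := by ring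
    rw [this]
    exact add_mem (Ideal.mem_map_of_mem _ hy') (hmul e)
  obtain ⟨G, hG⟩ := (IsNoetherian.noetherian ℐ' : ℐ'.FG)
  let bn : Submonoid.powers b := ⟨b ^ n, ⟨n, rfl⟩⟩
  let gen : A → Ab := fun y => IsLocalization.mk' Ab y bn
  let B : Subalgebra A Ab := Algebra.adjoin A (↑(G.image gen) : Set Ab)
  have hBft : Algebra.FiniteType A B := (Subalgebra.fg_iff_finiteType _).1 ⟨G.image gen, rfl⟩
  have : IsDomain Ab := IsLocalization.isDomain_localization (powers_le_nonZeroDivisors_of_noZeroDivisors hb0)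
  have hBinj : Function.Injective (algebraMap A B) := fun x y h =>
    IsLocalization.injective Ab (powers_le_nonZeroDivisors_of_noZeroDivisors hb0) (congrArg Subtype.val h)
  have hBpow : ∀ w : B, ∃ (k : ℕ) (c : A), algebraMap A B (b ^ k) * w = algebraMap A B c := fun w => by
    obtain ⟨⟨c, ⟨_, k, rfl⟩⟩, hc⟩ := IsLocalization.surj (Submonoid.powers b) (w : Ab)
    exact ⟨k, c, Subtype.ext (by rw [mul_comm]; exact hc)⟩
  let fB : B →ₐ[A] S := { γ.comp B.val.toRingHom with
    commutes' := fun a => (hγA a).trans (IsScalarTower.algebraMap_apply A Ac S a).symm }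
  refine dim_le_one_aux hA q hq1 b hb0 hbcq n z I J hzJ hIJ hpow hzq V hV ψS hψS B hBinj hBpow fB ?_ G ?_ ?_
  · rintro ⟨w, hw⟩
    show ψS (γ w) ∈ V
    rw [hψγ]
    induction hw using Algebra.adjoin_induction with
    | mem x hx =>
      obtain ⟨y, hy, rfl⟩ := Finset.mem_image.1 hx
      have hy' : y ∈ ℐ' := hG ▸ Ideal.subset_span hy
      have : ψ (gen y) = val y := by
        simp only [val]
        rw [eq_div_iff (pow_ne_zero _ hbL), ← map_pow toL, show bc ^ n = algebraMap A Ac (b ^ n) from (map_pow _ _ _).symm,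
          ← hψA, ← map_mul, IsLocalization.mk'_spec, hψA]
      show ψ (gen y) ∈ V
      rw [this]; exact hy'.2
    | algebraMap a => show ψ (algebraMap A Ab a) ∈ V; rw [hψA]; exact hVtoL _
    | add x y _ _ hx hy => show ψ (x + y) ∈ V; rw [map_add]; exact add_mem hx hy
    | mul x y _ _ hx hy => show ψ (x * y) ∈ V; rw [map_mul]; exact mul_mem hx hy
  · intro y hy
    refine ⟨⟨gen y, Algebra.subset_adjoin (Finset.mem_image_of_mem _ hy)⟩, ?_⟩
    show γ (gen y) * _ = _
    rw [← map_pow, ← hγA, ← map_mul, ← hγA]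
    exact congrArg γ (IsLocalization.mk'_spec Ab y bn)
  · rwa [← hG, Ideal.map_span] at hzℐ'


/-- A universally catenary local domain is formally equidimensional. -/
theorem isFormallyEquidim_domain : ∀ (d : ℕ) (A : Type u) [CommRing A] [IsDomain A] [IsNoetherianRing A]
    [IsLocalRing A], CAlg.IsUniversallyCatenary A → ringKrullDim A = (d : WithBot ℕ∞) → EGA4.IsFormallyEquidim A := by
  intro d
  induction d using Nat.strong_induction_on with
  | _ d ih =>
  intro A _ _ _ _ hA hd q hq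
  have hN := AdicNoeth.isNoetherianRing_adicCompletion (maximalIdeal A)
  let Ac := EGA4.Cpl A
  have hqp := hq.1.1
  have hdAc : ringKrullDim Ac = (d : WithBot ℕ∞) := (CAlgCompl.ringKrullDim_adicCompletion A).trans hd
  obtain ⟨e, he⟩ := exists_dim_quot q hqp.ne_top
  change ringKrullDim (Ac ⧸ q) = ringKrullDim Ac
  rw [he, hdAc]
  have hed : e ≤ d := by
    have h1 := ringKrullDim_quotient_le (R := Ac) q
    rw [he, hdAc] at h1
    exact_mod_cast h1
  by_contra hne
  have hlt : e < d := lt_of_le_of_ne hed fun h => hne (by rw [h])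
  obtain rfl | rfl | he2 : e = 0 ∨ e = 1 ∨ 2 ≤ e := by omega
  · -- `q` is the maximal ideal
    have hqm : q = maximalIdeal Ac := by
      by_contra hqm
      have hlt' : q < maximalIdeal Ac := lt_of_le_of_ne (le_maximalIdeal hqp.ne_top) hqm
      let l : LTSeries (PrimeSpectrum.zeroLocus (q : Set Ac)) :=
        ⟨1, ![⟨⟨q, hqp⟩, fun _ h => h⟩, ⟨⟨maximalIdeal Ac, inferInstance⟩, le_maximalIdeal hqp.ne_top⟩],
          fun i => by fin_cases i; exact hlt'⟩
      have h2 : ((1 : ℕ) : WithBot ℕ∞) ≤ ringKrullDim (Ac ⧸ q) := by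
        rw [ringKrullDim_quotient]
        exact le_iSup (fun p : LTSeries (PrimeSpectrum.zeroLocus (q : Set Ac)) => ((p.length : ℕ∞) : WithBot ℕ∞)) l
      rw [he] at h2
      exact absurd (show (1 : ℕ) ≤ 0 by exact_mod_cast h2) (by omega)
    have h1 := IsLocalRing.maximalIdeal_height_eq_ringKrullDim (R := Ac)
    rw [← hqm, Ideal.height_eq_zero_iff.2 hq, hdAc] at h1
    have : (0 : ℕ) = d := by exact_mod_cast h1
    omega
  · -- one-dimensional component
    have : IsLocalRing (Ac ⧸ q) := by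
      have : Nontrivial (Ac ⧸ q) := Ideal.Quotient.nontrivial_iff.2 hqp.ne_top
      exact IsLocalRing.of_surjective' (Ideal.Quotient.mk q) Ideal.Quotient.mk_surjective
    have h1 := dim_le_one_of_component hA q hq (by rw [he]; rfl)
    rw [hd] at h1
    have : d ≤ 1 := by exact_mod_cast h1
    omega
  · -- hyperplane section
    classical
    have hfin : {Q : Ideal Ac | ∃ q'' ∈ minimalPrimes Ac, q'' ≠ q ∧ Q ∈ (q ⊔ q'').minimalPrimes}.Finite := by
      refine ((minimalPrimes.finite_of_isNoetherianRing Ac).biUnion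
        fun q'' _ => (q ⊔ q'').finite_minimalPrimes_of_isNoetherianRing Ac).subset ?_
      rintro Q ⟨q'', hq'', -, hQ⟩
      exact Set.mem_biUnion hq'' hQ
    have hbadp : ∀ Q ∈ hfin.toFinset, Q.IsPrime := fun Q hQ => by
      obtain ⟨q'', -, -, hQ'⟩ := hfin.mem_toFinset.1 hQ
      exact hQ'.1.1
    let avoid : Finset (Ideal A) :=
      insert ⊥ ((hfin.toFinset.image (Ideal.comap (algebraMap A Ac))).filter (· ≠ maximalIdeal A))
    have hm0 : maximalIdeal A ≠ ⊥ := fun h0 => by
      have h1 := IsLocalRing.maximalIdeal_height_eq_ringKrullDim (R := A)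
      rw [h0, Ideal.height_bot, hd] at h1
      have : (0 : ℕ) = d := by exact_mod_cast h1
      omega
    obtain ⟨f, hfm, hfav⟩ : ∃ f ∈ maximalIdeal A, ∀ P ∈ avoid, f ∉ P := by
      have hav : ¬ ((maximalIdeal A : Set A) ⊆ ⋃ P ∈ (avoid : Set (Ideal A)), (P : Set A)) := by
        intro h
        have hp : ∀ P ∈ avoid, P.IsPrime := fun P hP => by
          rcases Finset.mem_insert.1 hP with rfl | hP
          · exact Ideal.isPrime_bot
          · obtain ⟨Q, hQ, rfl⟩ := Finset.mem_image.1 (Finset.mem_filter.1 hP).1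
            exact (hbadp Q hQ).comap _
        obtain ⟨P, hP, hle⟩ := (Ideal.subset_union_prime ⊥ ⊥ fun P hP _ _ => hp P hP).1 h
        have heq : maximalIdeal A = P :=
          (maximalIdeal.isMaximal A).eq_of_le (hp P hP).ne_top hle
        rcases Finset.mem_insert.1 hP with rfl | hP
        · exact hm0 heq
        · exact (Finset.mem_filter.1 hP).2 heq.symm
      obtain ⟨f, hf, hf'⟩ := Set.not_subset.1 hav
      exact ⟨f, hf, fun P hP hfP => hf' (Set.mem_biUnion hP hfP)⟩
    have hf0 : f ≠ 0 := fun h => hfav ⊥ (Finset.mem_insert_self _ _) (by simp [h])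
    let fc := algebraMap A Ac f
    have hfc : fc ∈ maximalIdeal Ac := by
      rw [← cpl_map_maximalIdeal]; exact Ideal.mem_map_of_mem _ hfm
    have hmq : ∀ q'' ∈ minimalPrimes Ac, fc ∉ q'' := fun q'' hq'' h => hf0 (by
      have h1 := (under_mem_minimal (⊥ : Ideal A) q'' (by rw [Ideal.map_bot]; exact hq'')).1
      rw [minimalPrimes_bot', IsDomain.minimalPrimes_eq_singleton_bot] at h1
      have : f ∈ q''.comap (algebraMap A Ac) := h
      rwa [h1, Submodule.mem_bot] at this)
    obtain ⟨Q, hQ, -⟩ := Ideal.exists_minimalPrimes_le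
      (sup_le (le_maximalIdeal hqp.ne_top) ((Ideal.span_singleton_le_iff_mem _).2 hfc) :
        q ⊔ Ideal.span {fc} ≤ maximalIdeal Ac)
    have hQp := hQ.1.1
    have hqQ : q ≤ Q := le_sup_left.trans hQ.1.2
    have hfQ : fc ∈ Q := (le_sup_right.trans hQ.1.2) (Ideal.mem_span_singleton_self _)
    have : Nontrivial (Ac ⧸ q) := Ideal.Quotient.nontrivial_iff.2 hqp.ne_top
    have : IsLocalRing (Ac ⧸ q) := IsLocalRing.of_surjective' (Ideal.Quotient.mk q) Ideal.Quotient.mk_surjective
    have hcatq : CAlg.IsCatenary (Ac ⧸ q) :=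
      CatenaryLib.isCatenary_of_surjective _ Ideal.Quotient.mk_surjective (cpl_isCatenary A)
    have hQb : (Q.map (Ideal.Quotient.mk q)).IsPrime :=
      Ideal.map_isPrime_of_surjective Ideal.Quotient.mk_surjective (by rw [Ideal.mk_ker]; exact hqQ)
    have hQh : (Q.map (Ideal.Quotient.mk q)).height ≤ 1 := by
      refine Ideal.height_le_one_of_isPrincipal_of_mem_minimalPrimes (Ideal.span {Ideal.Quotient.mk q fc}) _
        ⟨⟨hQb, (Ideal.span_singleton_le_iff_mem _).2 (Ideal.mem_map_of_mem _ hfQ)⟩, fun R hR hle => ?_⟩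
      have := hR.1
      refine (Ideal.map_mono (hQ.2 ⟨hR.1.comap (Ideal.Quotient.mk q), sup_le ?_ ?_⟩ ?_)).trans Ideal.map_comap_le
      · exact fun x hx => by rw [Ideal.mem_comap, Ideal.Quotient.eq_zero_iff_mem.2 hx]; exact R.zero_mem
      · rw [Ideal.span_singleton_le_iff_mem, Ideal.mem_comap]
        exact hR.2 (Ideal.mem_span_singleton_self _)
      · exact (Ideal.comap_mono hle).trans (LocCohBasic.comap_map_mk hqQ).le
    have hdim := dim_add_height hcatq (fun p hp => by
      rw [IsDomain.minimalPrimes_eq_singleton_bot, Set.mem_singleton_iff] at hp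
      rw [hp]; exact ringKrullDim_eq_of_ringEquiv (RingEquiv.quotientBot _)) (Q.map (Ideal.Quotient.mk q))
    rw [ringKrullDim_eq_of_ringEquiv (DoubleQuot.quotQuotEquivQuotOfLE hqQ), he] at hdim
    obtain ⟨a, ha⟩ := exists_dim_quot Q hQp.ne_top
    obtain ⟨c, hc⟩ := exists_height (Q.map (Ideal.Quotient.mk q))
    rw [ha, hc] at hdim
    rw [hc] at hQh
    have e1 : a + c = e := by exact_mod_cast hdim
    have hc1 : c ≤ 1 := by exact_mod_cast hQh
    have hc0 : c ≠ 0 := fun h0 => hmq q hq (by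
      have h1 : Q.map (Ideal.Quotient.mk q) = ⊥ := Ideal.height_eq_zero_iff_eq_bot.1 (by rw [hc, h0]; rfl)
      have : Ideal.Quotient.mk q fc ∈ (⊥ : Ideal (Ac ⧸ q)) := h1 ▸ Ideal.mem_map_of_mem _ hfQ
      exact Ideal.Quotient.eq_zero_iff_mem.1 this)
    -- a minimal prime over `f`
    obtain ⟨Q', hQ', hQ'Q⟩ := Ideal.exists_minimalPrimes_le
      (show (Ideal.span {f}).map (algebraMap A Ac) ≤ Q by
        rw [Ideal.map_span, Set.image_singleton]; exact (Ideal.span_singleton_le_iff_mem _).2 hfQ)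
    have hQ'p := hQ'.1.1
    obtain ⟨hP, hQ'P⟩ := under_mem_minimal (Ideal.span {f}) Q' hQ'
    let P := Q'.comap (algebraMap A Ac)
    have hPp : P.IsPrime := hP.1.1
    have hP1 : P.height = 1 := by
      refine le_antisymm (Ideal.height_le_one_of_isPrincipal_of_mem_minimalPrimes _ P hP) ?_
      rw [Order.one_le_iff_ne_zero, Ne, Ideal.height_eq_zero_iff, IsDomain.minimalPrimes_eq_singleton_bot,
        Set.mem_singleton_iff]
      intro h0
      have h1 : f ∈ P := hP.1.2 (Ideal.mem_span_singleton_self f)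
      rw [h0, Submodule.mem_bot] at h1
      exact hf0 h1
    have hAcat : CAlg.IsCatenary A :=
      CatenaryLib.isCatenary_of_essFiniteType (B := A) hA
    have hAP := dim_add_height hAcat (fun p hp => by
      rw [IsDomain.minimalPrimes_eq_singleton_bot, Set.mem_singleton_iff] at hp
      rw [hp]; exact ringKrullDim_eq_of_ringEquiv (RingEquiv.quotientBot A)) P
    obtain ⟨a', ha'⟩ := exists_dim_quot P hPp.ne_top
    rw [hP1, ha', hd] at hAP
    have e2 : a' + 1 = d := by exact_mod_cast hAP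
    have : Nontrivial (A ⧸ P) := Ideal.Quotient.nontrivial_iff.2 hPp.ne_top
    have : IsLocalRing (A ⧸ P) := IsLocalRing.of_surjective' (Ideal.Quotient.mk P) Ideal.Quotient.mk_surjective
    have hFE := ih a' (by omega) (A ⧸ P)
      (LeadExc.isUniversallyCatenary_of_surjective _ Ideal.Quotient.mk_surjective hA) ha'
    have hQ'dim := (isEquidim_quot_iff _).1 ((isFormallyEquidim_quot_iff A P).1 hFE) Q' hQ'P
    rw [dim_quot_eq_add A Ac P hPp.ne_top, cpl_fibre_dim, add_zero, ha'] at hQ'dim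
    obtain ⟨q'', hq'', hq''Q'⟩ := Ideal.exists_minimalPrimes_le (bot_le : (⊥ : Ideal Ac) ≤ Q')
    have hfQ' : fc ∈ Q' := hQ'.1.2 (Ideal.mem_map_of_mem _ (Ideal.mem_span_singleton_self f))
    have hq''ne : q'' ≠ q := fun h => by
      subst h
      have : Q = Q' := le_antisymm
        (hQ.2 ⟨hQ'p, sup_le hq''Q' ((Ideal.span_singleton_le_iff_mem _).2 hfQ')⟩ hQ'Q) hQ'Q
      subst this
      rw [ha] at hQ'dim
      have : a = a' := by exact_mod_cast hQ'dim
      omega
    obtain ⟨Q2, hQ2, hQ2Q⟩ := Ideal.exists_minimalPrimes_le (sup_le hqQ (hq''Q'.trans hQ'Q) : q ⊔ q'' ≤ Q)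
    have hQ2p := hQ2.1.1
    have hqQ2 : q < Q2 := lt_of_le_of_ne (le_sup_left.trans hQ2.1.2) fun h =>
      hq''ne ((le_antisymm (hq.2 ⟨hq''.1.1, bot_le⟩ (h ▸ le_sup_right.trans hQ2.1.2)) (h ▸ le_sup_right.trans hQ2.1.2)).symm)
    have hQ2eq : Q2 = Q := by
      by_contra hne2
      have hlt2 : Q2 < Q := lt_of_le_of_ne hQ2Q hne2
      have hq2p : (Q2.map (Ideal.Quotient.mk q)).IsPrime :=
        Ideal.map_isPrime_of_surjective Ideal.Quotient.mk_surjective (by rw [Ideal.mk_ker]; exact hqQ2.le)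
      have h1 : Q2.map (Ideal.Quotient.mk q) < Q.map (Ideal.Quotient.mk q) :=
        lt_of_le_of_ne (Ideal.map_mono hQ2Q) fun h => hne2 (by
          rw [← LocCohBasic.comap_map_mk hqQ2.le, h, LocCohBasic.comap_map_mk hqQ])
      have h2 := Ideal.height_strict_mono_of_isPrime_of_isPrime h1
      rw [hc] at h2
      have h3 : Q2.map (Ideal.Quotient.mk q) ≠ ⊥ := fun h => hqQ2.ne' (by
        rw [← LocCohBasic.comap_map_mk hqQ2.le, h, ← RingHom.ker_eq_comap_bot, Ideal.mk_ker])
      obtain ⟨c2, hc2⟩ := exists_height (Q2.map (Ideal.Quotient.mk q))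
      rw [hc2] at h2
      have : c2 < c := by exact_mod_cast h2
      have : c2 = 0 := by omega
      exact h3 (Ideal.height_eq_zero_iff_eq_bot.1 (by rw [hc2, this]; rfl))
    subst hQ2eq
    by_cases hQm : Q2.comap (algebraMap A Ac) = maximalIdeal A
    · have hQmax : Q2 = maximalIdeal Ac := le_antisymm (le_maximalIdeal hQp.ne_top) (by
        rw [← cpl_map_maximalIdeal, Ideal.map_le_iff_le_comap, hQm])
      rw [hQmax] at ha
      let _ := Ideal.Quotient.field (maximalIdeal Ac)
      rw [ringKrullDim_eq_zero_of_field] at ha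
      have : (0 : ℕ) = a := by exact_mod_cast ha
      omega
    · refine hfav _ (Finset.mem_insert_of_mem (Finset.mem_filter.2 ⟨Finset.mem_image.2 ⟨Q2, ?_, rfl⟩, hQm⟩)) hfQ
      exact hfin.mem_toFinset.2 ⟨q'', hq'', hq''ne, hQ2⟩

/-- Ratliff's theorem. -/
theorem isFormallyCatenary_of_isUniversallyCatenary {A : Type u} [CommRing A] [IsNoetherianRing A] [IsLocalRing A]
    (hA : CAlg.IsUniversallyCatenary A) : EGA4.IsFormallyCatenary A := by
  intro p _
  have : Nontrivial (A ⧸ p) := Ideal.Quotient.nontrivial_iff.2 (Ideal.IsPrime.ne_top inferInstance)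
  have : IsLocalRing (A ⧸ p) := IsLocalRing.of_surjective' (Ideal.Quotient.mk p) Ideal.Quotient.mk_surjective
  obtain ⟨d, hd⟩ := exists_dim (A ⧸ p)
  exact isFormallyEquidim_domain d _
    (LeadExc.isUniversallyCatenary_of_surjective _ Ideal.Quotient.mk_surjective hA) hd

theorem isEquidim_iff_cpl {A : Type u} [CommRing A] [IsNoetherianRing A] [IsLocalRing A]
    (hA : CAlg.IsUniversallyCatenary A) : EGA4.IsEquidim A ↔ EGA4.IsEquidim (EGA4.Cpl A) :=
  ⟨fun h => (isFormallyEquidim_iff_minimal A).2 ⟨h, fun p _ _ => isFormallyCatenary_of_isUniversallyCatenary hA p⟩,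
    fun h => isEquidim_of_isFormallyEquidim A h⟩

end Groth.Agent.LeadFCat
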