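import Groth.Agent.LeadFCat.Hull
import Groth.Agent.LocDuality.CompleteGor
import Groth.Agent.LocDuality.ReflexiveLocal
import Groth.Agent.LocDuality.CanonBasic
import Groth.Agent.GrassLib.Cone

/-!
# A strictly equidimensional completion makes `A^(1)` finite
-/

set_option autoImplicit false
universe u

open IsLocalRing

namespace Groth.Agent.LeadFCat

/-- The denominators of an element of the fraction field. -/
def denom (A : Type u) [CommRing A] [IsDomain A] (x : FractionRing A) : Ideal A where
  carrier := {c | ∃ a : A, algebraMap A (FractionRing A) a = algebraMap A (FractionRing A) c * x}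
  zero_mem' := ⟨0, by simp⟩
  add_mem' {c c'} h h' := by
    obtain ⟨a, ha⟩ := h
    obtain ⟨b, hb⟩ := h'
    exact ⟨a + b, by rw [map_add, ha, hb, map_add, add_mul]⟩
  smul_mem' r c h := by
    obtain ⟨a, ha⟩ := h
    exact ⟨r * a, by rw [smul_eq_mul, map_mul, ha, map_mul, mul_assoc]⟩

theorem dim_quot_denom {A : Type u} [CommRing A] [IsDomain A] [IsNoetherianRing A] [IsLocalRing A] {d : ℕ}
    (hd : ringKrullDim A = d) {x : FractionRing A} (hx : x ∈ hull A) (hne : denom A x ≠ ⊤) :
    ∃ k : ℕ, ringKrullDim (A ⧸ denom A x) = k ∧ k + 2 ≤ d := by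
  obtain ⟨k, hk⟩ := exists_dim_quot (denom A x) hne
  refine ⟨k, hk, ?_⟩
  by_contra hlt
  obtain ⟨P, hP, hPk⟩ : ∃ P ∈ (denom A x).minimalPrimes, ¬ ringKrullDim (A ⧸ P) + 2 ≤ (d : WithBot ℕ∞) := by
    by_contra h
    push Not at h
    have : ∀ P ∈ (denom A x).minimalPrimes, ringKrullDim (A ⧸ P) + 2 ≤ (d : WithBot ℕ∞) := h
    rcases Nat.lt_or_ge d 2 with h2 | h2
    · obtain ⟨P, hP⟩ := Ideal.nonempty_minimalPrimes hne
      obtain ⟨c, hc⟩ := exists_dim_quot P hP.1.1.ne_top
      have := this P hP
      rw [hc] at this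
      have : c + 2 ≤ d := by exact_mod_cast this
      omega
    · have hle : ringKrullDim (A ⧸ denom A x) ≤ ((d - 2 : ℕ) : WithBot ℕ∞) := dim_quot_le _ _ fun P hP => by
        obtain ⟨c, hc⟩ := exists_dim_quot P hP.1.1.ne_top
        have := this P hP
        rw [hc] at this ⊢
        have : c + 2 ≤ d := by exact_mod_cast this
        exact_mod_cast (show c ≤ d - 2 by omega)
      rw [hk] at hle
      have : k ≤ d - 2 := by exact_mod_cast hle
      omega
  have := hP.1.1
  obtain ⟨h, hh⟩ := exists_height P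
  obtain ⟨c, hc⟩ := exists_dim_quot P (‹P.IsPrime›).ne_top
  have e := LocDuality.height_add_ringKrullDim_quotient_le P
  rw [hh, hc, hd] at e
  rw [hc] at hPk
  norm_cast at e hPk
  obtain h1 | h1 : h = 0 ∨ h = 1 := by omega
  · obtain ⟨a, s, hs, hx'⟩ := IsFractionRing.div_surjective (A := A) x
    have hP0 : P = ⊥ := by
      subst h1
      have h0 : P.height = 0 := hh
      rw [Ideal.height_eq_zero_iff, IsDomain.minimalPrimes_eq_singleton_bot] at h0
      exact h0
    have hsP : s ∈ P := hP.1.2 ⟨a, by
      rw [← hx', mul_div_cancel₀ _ (IsLocalization.to_map_ne_zero_of_mem_nonZeroDivisors _ le_rfl hs)]⟩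
    rw [hP0, Ideal.mem_bot] at hsP
    exact nonZeroDivisors.ne_zero hs hsP
  · subst h1
    obtain ⟨s, hsP, a, ha⟩ := hx P (by rw [hh]; rfl)
    exact hsP (hP.1.2 ⟨a, ha⟩)

theorem exists_lift_avoiding {G : Type u} [CommRing G] (I : Ideal G) (g : G) (F : Finset (Ideal G))
    (hF : ∀ P ∈ F, P.IsPrime) (hanti : ∀ P ∈ F, ∀ Q ∈ F, P ≤ Q → P = Q)
    (h : ∀ P ∈ F, I ≤ P → g ∉ P) : ∃ i ∈ I, ∀ P ∈ F, g + i ∉ P := by
  classical
  let F1 := F.filter fun P => g ∈ P
  let F2 := F.filter fun P => g ∉ P
  let N : Ideal G := I ⊓ F2.inf id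
  have hN : ∀ P ∈ F1, ¬ N ≤ P := by
    intro P hP hle
    rw [Finset.mem_filter] at hP
    have hpr := hF P hP.1
    rcases hpr.inf_le.1 hle with h1 | h1
    · exact h P hP.1 h1 hP.2
    · obtain ⟨Q, hQ, hQP⟩ := (Ideal.IsPrime.inf_le' hpr).1 h1
      rw [Finset.mem_filter] at hQ
      exact hQ.2 (hanti Q hQ.1 P hP.1 hQP ▸ hP.2)
  obtain ⟨i, hiN, hi⟩ : ∃ i ∈ N, ∀ P ∈ F1, i ∉ P := by
    by_contra hcon
    push Not at hcon
    obtain ⟨P, hP, hle⟩ := (Ideal.subset_union_prime (s := F1) (f := id) ⊥ ⊥
      (fun P hP _ _ => hF P (Finset.mem_of_mem_filter _ hP))).1 (show (N : Set G) ⊆ ⋃ P ∈ (F1 : Set (Ideal G)), (P : Set G) from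
        fun i hi => by
          obtain ⟨P, hP, hiP⟩ := hcon i hi
          exact Set.mem_biUnion hP hiP)
    exact hN P hP hle
  refine ⟨i, hiN.1, fun P hP hmem => ?_⟩
  by_cases hg : g ∈ P
  · exact hi P (Finset.mem_filter.2 ⟨hP, hg⟩) (by simpa using P.sub_mem hmem hg)
  · have hiP : i ∈ P := (Finset.inf_le (Finset.mem_filter.2 ⟨hP, hg⟩) : F2.inf id ≤ P) hiN.2
    exact hg (by simpa using P.sub_mem hmem hiP)

/-- If the completion of a local domain is strictly equidimensional, `A^(1)` is finite. -/
theorem hull_finite_of_strictly {A : Type u} [CommRing A] [IsDomain A] [IsNoetherianRing A] [IsLocalRing A]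
    (h : EGA4.IsStrictlyEquidim (EGA4.Cpl A)) : EGA4.HeightOneHullFinite A := by
  classical
  rw [heightOneHullFinite_iff]
  let C := EGA4.Cpl A
  have : IsNoetherianRing C := AdicNoeth.isNoetherianRing_adicCompletion _
  have : IsLocalHom (algebraMap A C) := (local_hom_TFAE (algebraMap A C)).out 2 0 |>.1 (cpl_map_maximalIdeal A).le
  have hff : Module.FaithfullyFlat A C := Module.FaithfullyFlat.of_flat_of_isLocalHom
  obtain ⟨d, hd⟩ := exists_dim A
  have hdC : ringKrullDim C = d := (CAlgCompl.ringKrullDim_adicCompletion (A := A)).trans hd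
  have : IsAdicComplete (maximalIdeal C) C := by
    rw [← cpl_map_maximalIdeal]
    exact AdicCompletion.isAdicComplete_self _ (IsNoetherian.noetherian _)
  obtain ⟨G, _, _, π, hπ, hG⟩ := LocDuality.exists_gorenstein_cover (R := C) d hdC
  have : LocCoh.IsCohenMacaulayLocalRing G := LocDuality.isCohenMacaulayLocalRing_of_gorenstein
  let _ : Algebra G C := π.toAlgebra
  have hsurj : Function.Surjective (algebraMap G C) := hπ
  have : Module.Finite G C := Module.Finite.of_surjective (Algebra.linearMap G C) hsurj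
  have hcoh : ∀ (Q : Ideal C), ringKrullDim (G ⧸ Q.comap (algebraMap G C)) = ringKrullDim (C ⧸ Q) := fun Q =>
    ringKrullDim_eq_of_ringEquiv (RingEquiv.ofBijective (Ideal.quotientMap Q (algebraMap G C) le_rfl)
        ⟨Ideal.quotientMap_injective, Ideal.quotientMap_surjective hsurj⟩)
  -- functionals detect the elements
  have hinj : ∀ c : C, (∀ k : C →ₗ[G] G, k c = 0) → c = 0 := by
    intro c hc
    by_contra hne
    obtain ⟨q, hq, hle⟩ := exists_le_isAssociatedPrime_of_isNoetherianRing C c hne
    have := hq.isPrime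
    have hh : (q.comap (algebraMap G C)).height = 0 := by
      have e := LocDuality.height_add_ringKrullDim_quotient_le (q.comap (algebraMap G C))
      obtain ⟨a, ha⟩ := exists_height (q.comap (algebraMap G C))
      rw [hcoh q, h q hq, hdC, hG, ha] at e
      rw [ha]
      norm_cast at e
      exact_mod_cast (show a = 0 by omega)
    obtain ⟨t, ht, htc⟩ := LocDuality.exists_smul_eq_zero_of_forall_dual (q.comap (algebraMap G C)) C hh hc
    refine ht (hle (Submodule.mem_colon_singleton.2 ?_))
    rw [Submodule.mem_bot, smul_eq_mul, ← Algebra.smul_def, htc]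
  have hregC : ∀ s : A, s ≠ 0 → ∀ q ∈ associatedPrimes C C, algebraMap A C s ∉ q := by
    intro s hs q hq hmem
    have hreg : IsSMulRegular C s := IsSMulRegular.of_flat (R := A) (fun a b hab => mul_left_cancel₀ hs hab)
    have hr : IsSMulRegular C (algebraMap A C s) := fun a b hab => hreg (by simpa [Algebra.smul_def] using hab)
    have h2 : algebraMap A C s ∈ ⋃ p ∈ associatedPrimes C C, (p : Set C) := Set.mem_biUnion hq hmem
    rw [biUnion_associatedPrimes_eq_compl_regular] at h2
    exact h2 hr
  -- division of functionals by denominators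
  let ev : C → ((C →ₗ[G] G) →ₗ[G] G) := fun c => LinearMap.applyₗ c
  have key : ∀ x ∈ hull A, ∃ (s a : A) (sg : G) (y : (C →ₗ[G] G) →ₗ[G] G), s ≠ 0 ∧
      algebraMap A (FractionRing A) a = algebraMap A (FractionRing A) s * x ∧
      algebraMap G C sg = algebraMap A C s ∧ sg • y = ev (algebraMap A C a) := by
    intro x hx
    obtain ⟨a, s, hs, hx'⟩ := IsFractionRing.div_surjective (A := A) x
    have hs0 : s ≠ 0 := nonZeroDivisors.ne_zero hs
    have hax : algebraMap A (FractionRing A) a = algebraMap A (FractionRing A) s * x := by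
      rw [← hx', mul_div_cancel₀ _ (IsLocalization.to_map_ne_zero_of_mem_nonZeroDivisors _ le_rfl hs)]
    obtain ⟨g, hg⟩ := hsurj (algebraMap A C s)
    obtain ⟨i, hi, havoid⟩ := exists_lift_avoiding (RingHom.ker (algebraMap G C)) g
      (minimalPrimes.finite_of_isNoetherianRing G).toFinset
      (fun P hP => ((Set.Finite.mem_toFinset _).1 hP).1.1)
      (fun P hP Q hQ hle => le_antisymm hle
        (((Set.Finite.mem_toFinset _).1 hQ).2 ⟨((Set.Finite.mem_toFinset _).1 hP).1.1, bot_le⟩ hle))
      (fun P hP hker hgP => by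
        have hPm := (Set.Finite.mem_toFinset _).1 hP
        have := hPm.1.1
        have hass : P ∈ associatedPrimes G G :=
          Module.associatedPrimes.minimalPrimes_annihilator_subset_associatedPrimes G G (by
            rwa [Module.annihilator_eq_bot.2 inferInstance])
        have hPC : (P.map (algebraMap G C)).IsPrime := Ideal.map_isPrime_of_surjective hsurj hker
        have hcm : (P.map (algebraMap G C)).comap (algebraMap G C) = P := by
          rw [Ideal.comap_map_of_surjective _ hsurj, sup_eq_left, ← RingHom.ker_eq_comap_bot]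
          exact hker
        have hPd : ringKrullDim (C ⧸ P.map (algebraMap G C)) = ringKrullDim C := by
          rw [← hcoh, hcm, Depth.ringKrullDim_quotient_eq_of_mem_associatedPrimes Depth.isCohenMacaulayModule_self hass,
            Module.supportDim_self_eq_ringKrullDim, hG, hdC]
        obtain ⟨Q, hQ, hQP⟩ := Ideal.exists_minimalPrimes_le (bot_le : (⊥ : Ideal C) ≤ P.map (algebraMap G C))
        have := hQ.1.1
        have hQa : Q ∈ associatedPrimes C C :=
          Module.associatedPrimes.minimalPrimes_annihilator_subset_associatedPrimes C C (by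
            rwa [Module.annihilator_eq_bot.2 inferInstance])
        refine hregC s hs0 Q hQa ?_
        rw [LocDuality.eq_of_dim_quotient_eq hdC hQP (hPd.trans hdC).ge, ← hg]
        exact Ideal.mem_map_of_mem _ hgP)
    let sg := g + i
    have hsg : algebraMap G C sg = algebraMap A C s := by
      rw [map_add, RingHom.mem_ker.1 hi, add_zero, hg]
    have hreg : IsSMulRegular G sg := by
      by_contra hn
      have h2 : sg ∈ {r : G | IsSMulRegular G r}ᶜ := hn
      rw [← biUnion_associatedPrimes_eq_compl_regular] at h2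
      obtain ⟨q, hq, hmem⟩ := Set.mem_iUnion₂.1 h2
      have hqp : q.IsPrime := IsAssociatedPrime.isPrime hq
      obtain ⟨P, hP, hPq⟩ := Ideal.exists_minimalPrimes_le (bot_le : (⊥ : Ideal G) ≤ q)
      have := Depth.eq_of_le_of_mem_associatedPrimes Depth.isCohenMacaulayModule_self hq
        (q := ⟨P, hP.1.1⟩) (by rw [Module.support_eq_zeroLocus, Module.annihilator_eq_bot.2 inferInstance]; simp) hPq
      exact havoid P ((Set.Finite.mem_toFinset _).2 hP) ((show P = q from this) ▸ hmem)
    have hmem : ∀ k : C →ₗ[G] G, k (algebraMap A C a) ∈ Ideal.span {sg} := by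
      by_cases hu : sg ∈ maximalIdeal G
      swap
      · intro k
        rw [Ideal.span_singleton_eq_top.2 (by simpa using hu)]
        trivial
      intro k
      obtain ⟨hCM, hdim⟩ := GrassLib.isCohenMacaulayLocalRing_quotient_span sg hu hreg
      let J' := ((denom A x).map (algebraMap A C)).comap (algebraMap G C)
      have hJ : ∀ c ∈ J', c * k (algebraMap A C a) ∈ Ideal.span {sg} := by
        intro c hc
        obtain ⟨z, hz⟩ : ∃ z : C, algebraMap G C c * algebraMap A C a = algebraMap A C s * z := by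
          have hc' : algebraMap G C c ∈ (denom A x).map (algebraMap A C) := hc
          refine Submodule.span_induction (p := fun w _ => ∃ z : C, w * algebraMap A C a = algebraMap A C s * z)
            ?_ ⟨0, by simp⟩ ?_ ?_ hc'
          · rintro _ ⟨e, ⟨b, hb⟩, rfl⟩
            refine ⟨algebraMap A C b, ?_⟩
            rw [← map_mul, ← map_mul]
            congr 1
            refine IsFractionRing.injective A (FractionRing A) ?_
            rw [map_mul, map_mul, hax, hb]; ring
          · rintro u v _ _ ⟨z, hz⟩ ⟨z', hz'⟩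
            exact ⟨z + z', by rw [add_mul, hz, hz']; ring⟩
          · rintro r u _ ⟨z, hz⟩
            exact ⟨r * z, by rw [smul_eq_mul, mul_assoc, hz]; ring⟩
        rw [← smul_eq_mul, ← map_smul, Algebra.smul_def, hz, ← hsg, ← Algebra.smul_def, map_smul, smul_eq_mul]
        exact Ideal.mul_mem_right _ _ (Ideal.mem_span_singleton_self sg)
      by_contra hk
      have hnt : Ideal.Quotient.mk (Ideal.span {sg}) (k (algebraMap A C a)) ≠ 0 := fun h0 =>
        hk (Ideal.Quotient.eq_zero_iff_mem.1 h0)
      obtain ⟨q, hq, hle⟩ := exists_le_isAssociatedPrime_of_isNoetherianRing (G ⧸ Ideal.span {sg}) _ hnt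
      have := hq.isPrime
      have hqd : ringKrullDim ((G ⧸ Ideal.span {sg}) ⧸ q) = ringKrullDim (G ⧸ Ideal.span {sg}) := by
        rw [Depth.ringKrullDim_quotient_eq_of_mem_associatedPrimes Depth.isCohenMacaulayModule_self hq,
          Module.supportDim_self_eq_ringKrullDim]
      have hJq : J' ≤ q.comap (Ideal.Quotient.mk (Ideal.span {sg})) := fun c hc => hle (Submodule.mem_colon_singleton.2 (by
        rw [Submodule.mem_bot, smul_eq_mul, ← map_mul]
        exact Ideal.Quotient.eq_zero_iff_mem.2 (hJ c hc)))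
      have h1 : ringKrullDim ((G ⧸ Ideal.span {sg}) ⧸ q) ≤ ringKrullDim (G ⧸ J') :=
        ringKrullDim_le_of_surjective (Ideal.Quotient.lift J'
          ((Ideal.Quotient.mk q).comp (Ideal.Quotient.mk (Ideal.span {sg}))) (fun c hc => Ideal.Quotient.eq_zero_iff_mem.2 (hJq hc)))
          (Ideal.Quotient.lift_surjective_of_surjective _ _ (Ideal.Quotient.mk_surjective.comp Ideal.Quotient.mk_surjective))
      rw [hqd, hcoh] at h1
      have hne : denom A x ≠ ⊤ := fun htop => by
        have : ringKrullDim (C ⧸ (denom A x).map (algebraMap A C)) = ⊥ := by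
          have : Subsingleton (C ⧸ (denom A x).map (algebraMap A C)) :=
            Ideal.Quotient.subsingleton_iff.2 (by rw [htop, Ideal.map_top])
          exact ringKrullDim_eq_bot_of_subsingleton
        rw [this, le_bot_iff] at h1
        exact not_nontrivial_dim h1
      obtain ⟨m, hm, hmd⟩ := dim_quot_denom hd hx hne
      rw [dim_quot_eq_add A C _ hne, cpl_fibre_dim, add_zero, hm] at h1
      obtain ⟨e, he⟩ := exists_dim (G ⧸ Ideal.span {sg})
      rw [he] at h1 hdim
      rw [hG] at hdim
      norm_cast at h1 hdim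
      omega
    choose y hy using fun k => Ideal.mem_span_singleton'.1 (hmem k)
    have hy' : ∀ k, sg * y k = k (algebraMap A C a) := fun k => by rw [mul_comm]; exact hy k
    refine ⟨s, a, sg, ⟨⟨y, fun k k' => hreg ?_⟩, fun r k => hreg ?_⟩, hs0, hax, hsg, ?_⟩
    · show sg * y (k + k') = sg * (y k + y k')
      rw [mul_add, hy', hy', hy', LinearMap.add_apply]
    · show sg * y (r • k) = sg * (r * y k)
      rw [mul_left_comm, hy', hy', LinearMap.smul_apply, smul_eq_mul]
    · exact LinearMap.ext fun k => hy' k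
  choose! s a sg y hs0 hax hsg hy using key
  -- finiteness
  let D := (C →ₗ[G] G) →ₗ[G] G
  have : IsNoetherian G D := by
    have : Module.Finite G (C →ₗ[G] G) := inferInstance
    infer_instance
  let N : Finset (hull A) → Submodule G D := fun S => Submodule.span G ((fun x : hull A => y x) '' (S : Set (hull A)))
  obtain ⟨_, ⟨S, rfl⟩, hmax⟩ := (set_has_maximal_iff_noetherian.2 ‹IsNoetherian G D›) (Set.range N) ⟨N ∅, ⟨∅, rfl⟩⟩
  have hall : ∀ x : hull A, y x ∈ N S := by
    intro x
    have hle : N S ≤ N (insert x S) := Submodule.span_mono (Set.image_mono (by simp))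
    have : N S = N (insert x S) := hle.eq_or_lt.resolve_right (hmax _ ⟨_, rfl⟩)
    rw [this]
    exact Submodule.subset_span ⟨x, by simp, rfl⟩
  refine ⟨⟨S, eq_top_iff.2 fun x _ => ?_⟩⟩
  obtain ⟨g, hg'⟩ := (Submodule.mem_span_image_finset_iff_exists_fun' G).1 (hall x)
  have hg : y x = ∑ w ∈ S, g w • y w := hg'.symm
  -- a common denominator
  let m : A := s x * ∏ w ∈ S, s w
  let b : hull A → A := fun w => a w * (s x * ∏ v ∈ S.erase w, s v)
  have hb : ∀ w ∈ S, algebraMap A (FractionRing A) (b w) = algebraMap A (FractionRing A) m * w := by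
    intro w hw
    simp only [b, m, map_mul, hax _ w.2]
    rw [← Finset.mul_prod_erase S (fun v : hull A => s v) hw, map_mul]
    ring
  have hbx : algebraMap A (FractionRing A) (a x * ∏ w ∈ S, s w) = algebraMap A (FractionRing A) m * x := by
    simp only [m, map_mul, hax _ x.2]; ring
  have hmC : algebraMap A C (a x * ∏ w ∈ S, s w) ∈ (Ideal.span ((S.image b : Finset A) : Set A)).map (algebraMap A C) := by
    let mg : G := sg x * ∏ w ∈ S, sg w
    have e1 : mg • y x = ev (algebraMap A C (a x * ∏ w ∈ S, s w)) := by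
      refine LinearMap.ext fun k => ?_
      rw [LinearMap.smul_apply, smul_eq_mul, show mg * y x k = (∏ w ∈ S, sg w) * (sg x • y x) k by
        simp only [mg, LinearMap.smul_apply, smul_eq_mul]; ring, hy _ x.2]
      show (∏ w ∈ S, sg w) * k _ = k _
      have hp : algebraMap G C (∏ w ∈ S, sg w) = algebraMap A C (∏ w ∈ S, s w) := by
        rw [map_prod, map_prod]
        exact Finset.prod_congr rfl fun w _ => hsg _ w.2
      rw [← smul_eq_mul, ← map_smul, Algebra.smul_def, hp, ← map_mul, mul_comm]
    have e2 : ∀ w ∈ S, mg • y w = ev (algebraMap A C (b w)) := by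
      intro w hw
      refine LinearMap.ext fun k => ?_
      rw [LinearMap.smul_apply, smul_eq_mul, show mg = (sg x * ∏ v ∈ S.erase w, sg v) * sg w by
        simp only [mg]; rw [← Finset.mul_prod_erase S (fun v : hull A => sg v) hw]; ring]
      rw [mul_assoc, show sg w * y w k = (sg w • y w) k from rfl, hy _ w.2]
      show _ * k _ = k _
      rw [← smul_eq_mul, ← map_smul, Algebra.smul_def]
      simp only [b, map_mul, map_prod, hsg _ x.2]
      rw [mul_comm (algebraMap A C (a w))]
      congr 3
      exact Finset.prod_congr rfl fun v _ => hsg _ v.2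
    have e3 : ev (algebraMap A C (a x * ∏ w ∈ S, s w)) = ev (∑ w ∈ S, algebraMap G C (g w) * algebraMap A C (b w)) := by
      rw [← e1, hg, Finset.smul_sum]
      simp only [ev, map_sum]
      refine Finset.sum_congr rfl fun w hw => ?_
      rw [smul_comm, e2 w hw, ← Algebra.smul_def, map_smul]
    have e4 : algebraMap A C (a x * ∏ w ∈ S, s w) = ∑ w ∈ S, algebraMap G C (g w) * algebraMap A C (b w) :=
      sub_eq_zero.1 (hinj _ fun k => by rw [map_sub, sub_eq_zero]; exact LinearMap.congr_fun e3 k)
    rw [e4]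
    exact Ideal.sum_mem _ fun w hw => Ideal.mul_mem_left _ _
      (Ideal.mem_map_of_mem _ (Ideal.subset_span (Finset.mem_image_of_mem b hw)))
  have hmA : a x * ∏ w ∈ S, s w ∈ Ideal.span ((S.image b : Finset A) : Set A) := by
    rw [← Ideal.comap_map_eq_self_of_faithfullyFlat (B := C) (Ideal.span ((S.image b : Finset A) : Set A))]
    exact hmC
  rw [Finset.coe_image, Ideal.span, Submodule.mem_span_image_finset_iff_exists_fun'] at hmA
  obtain ⟨f, hf'⟩ := hmA
  have hf := hf'.symm
  have hm0 : algebraMap A (FractionRing A) m ≠ 0 :=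
    IsLocalization.to_map_ne_zero_of_mem_nonZeroDivisors _ le_rfl (mem_nonZeroDivisors_of_ne_zero
      (mul_ne_zero (hs0 _ x.2) (Finset.prod_ne_zero_iff.2 fun w _ => hs0 _ w.2)))
  have : x = ∑ w ∈ S, f w • w := by
    refine Subtype.ext (mul_left_cancel₀ hm0 ?_)
    rw [← hbx, hf, map_sum, AddSubmonoidClass.coe_finset_sum, Finset.mul_sum]
    refine Finset.sum_congr rfl fun w hw => ?_
    rw [smul_eq_mul, map_mul, hb w hw, SetLike.val_smul, Algebra.smul_def]
    ring
  rw [this]
  exact Submodule.sum_mem _ fun w hw => Submodule.smul_mem _ _ (Submodule.subset_span hw)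

end Groth.Agent.LeadFCat
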