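import Groth.Agent.LeadFCat.H1Domain
import Groth.Agent.LeadFCat.StrictConv
import Groth.Agent.LocCohBasic.BaseChange
import Groth.Agent.SymGr.NagataJac
import Groth.Agent.S1763

/-!
# Finiteness of the first local cohomology of a module
-/

set_option autoImplicit false
universe u

open IsLocalRing CategoryTheory LocCoh

namespace Groth.Agent.LeadFCat

theorem finite_H1_of_local {A : Type u} [CommRing A] [IsNoetherianRing A] (I : Ideal A) (M : Type u) [AddCommGroup M]
    [Module A M] [Module.Finite A M]
    (h : ∀ (p : Ideal A) [p.IsPrime], p ∈ associatedPrimes A M → ¬ I ≤ p → ∀ (Q : Ideal (A ⧸ p)) [Q.IsPrime],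
      I.map (Ideal.Quotient.mk p) ≤ Q → NoSmallAssPrimes (Localization.AtPrime Q)) :
    Module.Finite A (LocCoh.H I 1 M) := by
  refine (Groth.Agent.S1763.result A I M).2 fun p hp hIp => ?_
  have : p.IsPrime := hp.isPrime
  have hI' : I.map (Ideal.Quotient.mk p) ≠ ⊥ := fun h0 => hIp fun x hx => by
    have := Ideal.mem_map_of_mem (Ideal.Quotient.mk p) hx
    rwa [h0, Ideal.mem_bot, Ideal.Quotient.eq_zero_iff_mem] at this
  have hfin : Module.Finite (A ⧸ p) ((localCohomology (I.map (algebraMap A (A ⧸ p))) 1).obj (ModuleCat.of (A ⧸ p) (A ⧸ p))) :=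
    finite_H1_domain (I.map (Ideal.Quotient.mk p)) hI' fun Q _ hQ => h p hp hIp Q hQ
  obtain ⟨e⟩ := LocCohBasic.nonempty_independence (R := A) (R' := A ⧸ p) I 1
  let iso := e.app (ModuleCat.of (A ⧸ p) (A ⧸ p))
  let V := (localCohomology (I.map (algebraMap A (A ⧸ p))) 1).obj (ModuleCat.of (A ⧸ p) (A ⧸ p))
  have hV : Module.Finite A ((ModuleCat.restrictScalars (algebraMap A (A ⧸ p))).obj V : ModuleCat.{u} A) := by
    let : Module A V := Module.compHom V (algebraMap A (A ⧸ p))
    have : IsScalarTower A (A ⧸ p) V := IsScalarTower.of_algebraMap_smul (R := A) (A := A ⧸ p) (M := V) fun _ _ => rfl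
    exact Module.Finite.trans (R := A) (A ⧸ p) V
  let X := (ModuleCat.restrictScalars.{u} (algebraMap A (A ⧸ p))).obj (ModuleCat.of (A ⧸ p) (A ⧸ p))
  let eX : X ≃ₗ[A] (A ⧸ p) :=
    { toFun := fun x => x
      invFun := fun x => x
      left_inv := fun _ => rfl
      right_inv := fun _ => rfl
      map_add' := fun _ _ => rfl
      map_smul' := fun a x => by
        exact (Algebra.smul_def a (show A ⧸ p from x)).symm }
  have hX : Module.Finite A ((localCohomology I 1).obj X) := @Module.Finite.equiv A _ _ _ _ _ _ _ hV iso.toLinearEquiv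
  exact Module.Finite.equiv ((localCohomology I 1).mapIso eX.toModuleIso).toLinearEquiv

/-- The condition on the completion of `A_q / p A_q`, moved to `(A / p)_{q / p}`. -/
theorem noSmallAssPrimes_of_completion {A : Type u} [CommRing A] [IsNoetherianRing A] (p : Ideal A) [p.IsPrime]
    (q : Ideal A) [q.IsPrime] (hpq : p ≤ q) [(q.map (Ideal.Quotient.mk p)).IsPrime]
    (h : ∀ P ∈ associatedPrimes (AdicCompletion ((maximalIdeal (Localization.AtPrime q)).map
          (Ideal.Quotient.mk (p.map (algebraMap A (Localization.AtPrime q)))))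
          (Localization.AtPrime q ⧸ p.map (algebraMap A (Localization.AtPrime q))))
        (AdicCompletion ((maximalIdeal (Localization.AtPrime q)).map
          (Ideal.Quotient.mk (p.map (algebraMap A (Localization.AtPrime q)))))
          (Localization.AtPrime q ⧸ p.map (algebraMap A (Localization.AtPrime q)))),
      (2 : WithBot ℕ∞) ≤ ringKrullDim (AdicCompletion ((maximalIdeal (Localization.AtPrime q)).map
          (Ideal.Quotient.mk (p.map (algebraMap A (Localization.AtPrime q)))))
          (Localization.AtPrime q ⧸ p.map (algebraMap A (Localization.AtPrime q))) ⧸ P)) :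
    NoSmallAssPrimes (Localization.AtPrime (q.map (Ideal.Quotient.mk p))) := by
  obtain ⟨e⟩ := SymGr.nonempty_localization_quotient_equiv p q hpq
  let R := Localization.AtPrime q ⧸ p.map (algebraMap A (Localization.AtPrime q))
  let S := Localization.AtPrime (q.map (Ideal.Quotient.mk p))
  have : IsLocalRing R := e.symm.isLocalRing
  have hm : (maximalIdeal (Localization.AtPrime q)).map
      (Ideal.Quotient.mk (p.map (algebraMap A (Localization.AtPrime q)))) = maximalIdeal R :=
    IsLocalRing.map_maximalIdeal_of_surjective _ Ideal.Quotient.mk_surjective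
  have : IsNoetherianRing (Localization.AtPrime q) := IsLocalization.isNoetherianRing q.primeCompl _ inferInstance
  let _ := e.toRingHom.toAlgebra
  obtain ⟨E, -⟩ := Hensel.exists_completion_equiv (R := R) (S := S)
    ((maximalIdeal (Localization.AtPrime q)).map (Ideal.Quotient.mk (p.map (algebraMap A (Localization.AtPrime q)))))
    (maximalIdeal S)
    (fun n => by
      rw [Ideal.map_pow, hm]
      exact congrArg (· ^ n) (IsLocalRing.map_maximalIdeal_of_surjective e.toRingHom e.surjective))
    (fun n => ⟨Ideal.quotientMap_injective' (fun x hx => by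
        rw [Ideal.mem_comap] at hx
        obtain ⟨y, hy, hxy⟩ := (Ideal.mem_map_iff_of_surjective e.toRingHom e.surjective).1 hx
        exact e.injective hxy ▸ hy),
      Ideal.quotientMap_surjective e.surjective⟩)
  have : IsNoetherianRing S := IsLocalization.isNoetherianRing (q.map (Ideal.Quotient.mk p)).primeCompl _ inferInstance
  have : IsNoetherianRing (EGA4.Cpl S) := AdicNoeth.isNoetherianRing_adicCompletion _
  have := isNoetherianRing_of_surjective _ _ E.symm.toRingHom E.symm.surjective
  intro r hr
  refine (h _ (assPrimes_comap_ringEquiv E hr)).trans (le_of_eq ?_)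
  exact ringKrullDim_eq_of_ringEquiv (Ideal.quotientEquiv (r.comap E.toRingHom) r E
    (Ideal.map_comap_of_surjective E.toRingHom E.surjective r).symm)

end Groth.Agent.LeadFCat
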