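import Groth.Agent.LeadFCat.H1Unmixed
import Groth.Agent.CAlgN2.Nagata
import Groth.Agent.CAlgNagata.Closed

/-!
# Nagata universally catenary rings
-/

set_option autoImplicit false
universe u

open IsLocalRing

namespace Groth.Agent.LeadFCat

theorem mem_minimalPrimes_of_isReduced {E : Type u} [CommRing E] [IsNoetherianRing E] [IsReduced E] {r : Ideal E}
    (hr : r ∈ associatedPrimes E E) : r ∈ minimalPrimes E := by
  have hrp : r.IsPrime := hr.isPrime
  obtain ⟨-, x, hx⟩ := isAssociatedPrime_iff.1 hr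
  by_contra hcon
  have hx0 : x ∈ sInf (minimalPrimes E) := Submodule.mem_sInf.2 fun q hq => by
    have := hq.1.1
    obtain ⟨c, hc, hcq⟩ : ∃ c ∈ r, c ∉ q := by
      by_contra h'
      push Not at h'
      exact hcon (le_antisymm h' (hq.2 ⟨hrp, bot_le⟩ h') ▸ hq)
    rw [hx, Submodule.mem_colon_singleton, Submodule.mem_bot, smul_eq_mul] at hc
    exact (this.mem_or_mem (hc ▸ q.zero_mem)).resolve_left hcq
  rw [minimalPrimes, Ideal.sInf_minimalPrimes, show (⊥ : Ideal E).radical = ⊥ from
    (Ideal.radical_eq_iff.2 (by rwa [Ideal.isRadical_bot_iff]))] at hx0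
  refine hrp.ne_top ((Ideal.eq_top_iff_one r).2 ?_)
  rw [hx, Submodule.mem_colon_singleton, Submodule.mem_bot, (Submodule.mem_bot E).1 hx0, smul_zero]

theorem strictly_of_nagata {R : Type u} [CommRing R] [IsNoetherianRing R] [IsLocalRing R]
    (hR : CAlg.IsUniversallyCatenary R) (hN : CAlg.IsNagata R) : EGA4.IsFormallyStrictlyCatenary R := by
  intro p _
  have : Nontrivial (R ⧸ p) := Ideal.Quotient.nontrivial_iff.2 (Ideal.IsPrime.ne_top inferInstance)
  have : IsNoetherianRing (EGA4.Cpl (R ⧸ p)) := AdicNoeth.isNoetherianRing_adicCompletion _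
  have : IsReduced (EGA4.Cpl (R ⧸ p)) := CAlgN2.isReduced_completion_of_nagata
    (CAlgNagata.isNagata_of_surjective _ Ideal.Quotient.mk_surjective hN)
  exact fun r hr => isFormallyCatenary_of_isUniversallyCatenary hR p r (mem_minimalPrimes_of_isReduced hr)

end Groth.Agent.LeadFCat
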