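import Groth.Agent.LeadFCat.H1Module
import Groth.Agent.LeadFCat.Extras
import Groth.Agent.CAlgSerre.Basic
import Groth.Agent.RegLocus.SemilocalCpl
import Groth.Agent.RegLocus.GeomRedTrans

/-!
# Formal fibres with `(S₁)` and associated primes of completions
-/

set_option autoImplicit false
universe u

open IsLocalRing
open scoped TensorProduct

namespace Groth.Agent.LeadFCat

theorem isUniversallyCatenary_atPrime {R : Type u} [CommRing R] [IsNoetherianRing R]
    (h : CAlg.IsUniversallyCatenary R) (m : Ideal R) [m.IsPrime] :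
    CAlg.IsUniversallyCatenary (Localization.AtPrime m) := by
  have : IsNoetherianRing (Localization.AtPrime m) := IsLocalization.isNoetherianRing m.primeCompl _ inferInstance
  refine ⟨inferInstance, fun S _ _ hS => ?_⟩
  let _ : Algebra R S := ((algebraMap (Localization.AtPrime m) S).comp (algebraMap R (Localization.AtPrime m))).toAlgebra
  have : IsScalarTower R (Localization.AtPrime m) S := IsScalarTower.of_algebraMap_eq fun _ => rfl
  have : Algebra.EssFiniteType R (Localization.AtPrime m) := Algebra.EssFiniteType.of_isLocalization _ m.primeCompl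
  have : Algebra.FiniteType (Localization.AtPrime m) S := hS
  have : Algebra.EssFiniteType R S := Algebra.EssFiniteType.comp R (Localization.AtPrime m) S
  exact CatenaryLib.isCatenary_of_essFiniteType h

/-- With `(S₁)` on the fibre over `p`, an associated prime of `C/pC` lying over `p` is minimal over `pC`. -/
theorem minimal_of_assPrime_of_fibre {R C : Type u} [CommRing R] [CommRing C] [IsNoetherianRing C] [Algebra R C]
    (p : Ideal R) [p.IsPrime] (hS : LocCoh.HasSk 1 (p.Fiber C) (p.Fiber C))
    (r : Ideal C) [r.IsPrime] (hrp : r.comap (algebraMap R C) = p) (hle : p.map (algebraMap R C) ≤ r)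
    (hass : r.map (Ideal.Quotient.mk (p.map (algebraMap R C))) ∈
      associatedPrimes (C ⧸ p.map (algebraMap R C)) (C ⧸ p.map (algebraMap R C)))
    {r0 : Ideal C} [r0.IsPrime] (h0 : p.map (algebraMap R C) ≤ r0) (h0r : r0 ≤ r) : r0 = r := by
  have := RegLocus.isNoetherianRing_fiber R C p
  let F := p.Fiber C
  let iso := PrimeSpectrum.primesOverOrderIsoFiber R C p
  let x : p.primesOver C := ⟨r, inferInstance, ⟨hrp.symm⟩⟩
  have hr0p : r0.comap (algebraMap R C) = p :=
    le_antisymm ((Ideal.comap_mono h0r).trans hrp.le) (Ideal.map_le_iff_le_comap.1 h0)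
  let x0 : p.primesOver C := ⟨r0, inferInstance, ⟨hr0p.symm⟩⟩
  have hxeq : (iso x).asIdeal.comap Algebra.TensorProduct.includeRight = r := by
    rw [← PrimeSpectrum.coe_primesOverOrderIsoFiber_symm_apply]
    exact congrArg Subtype.val (iso.symm_apply_apply x)
  suffices H : ∀ (q : Ideal F) [q.IsPrime],
      q.comap (Algebra.TensorProduct.includeRight : C →ₐ[R] F) = r → q ∈ associatedPrimes F F by
    have hqa := H (iso x).asIdeal hxeq
    have hmin := (CAlgSerre.hasSk_one_iff (R := F) (M := F)).1 hS _ hqa
    rw [Module.annihilator_eq_bot.2 inferInstance] at hmin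
    have h1 : iso x0 ≤ iso x := iso.monotone h0r
    have h2 : iso x ≤ iso x0 := hmin.2 ⟨(iso x0).2, bot_le⟩ h1
    exact congrArg Subtype.val (iso.injective (le_antisymm h1 h2))
  intro q _ hq
  subst hq
  let r := q.comap (Algebra.TensorProduct.includeRight : C →ₐ[R] F)
  let pC := p.map (algebraMap R C)
  have : (r.map (Ideal.Quotient.mk pC)).IsPrime :=
    Ideal.map_isPrime_of_surjective Ideal.Quotient.mk_surjective (by rwa [Ideal.mk_ker])
  obtain ⟨e1⟩ := SymGr.nonempty_localization_quotient_equiv pC r hle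
  let e2 : Localization.AtPrime q ≃+* Localization.AtPrime r ⧸ pC.map (algebraMap C (Localization.AtPrime r)) :=
    (Ideal.Fiber.algEquivAux₂ p q).toRingEquiv
  let T := Localization.AtPrime (r.map (Ideal.Quotient.mk pC))
  let e : Localization.AtPrime q ≃+* T := e2.trans e1
  have hT := map_mem_associatedPrimes_atPrime hass (r.map (Ideal.Quotient.mk pC)) le_rfl
  rw [Localization.AtPrime.map_eq_maximalIdeal] at hT
  have : IsNoetherianRing T := IsLocalization.isNoetherianRing (r.map (Ideal.Quotient.mk pC)).primeCompl T inferInstance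
  have : IsNoetherianRing (Localization.AtPrime q) := IsLocalization.isNoetherianRing q.primeCompl _ inferInstance
  have hq' := assPrimes_comap_ringEquiv (R := Localization.AtPrime q) (S := T) e hT
  have he : (maximalIdeal T).comap e.toRingHom = maximalIdeal (Localization.AtPrime q) := by
    ext y
    simp [IsLocalRing.mem_maximalIdeal, mem_nonunits_iff]
  rw [he] at hq'
  have := Module.associatedPrimes.preimage_comap_associatedPrimes_eq_associatedPrimes_of_isLocalizedModule
    (S := q.primeCompl) (f := Algebra.linearMap F (Localization.AtPrime q)) (R := F) (M := F)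
    (R' := Localization.AtPrime q) (M' := Localization.AtPrime q)
  rw [← this] at hq'
  rw [Set.mem_preimage] at hq'
  rwa [← Ideal.under_def _ (maximalIdeal (Localization.AtPrime q)), Localization.AtPrime.under_maximalIdeal] at hq'

/-- Universally catenary with `(S₁)` formal fibres: completions of prime quotients are strictly equidimensional. -/
theorem strictly_of_S1_fibres {R : Type u} [CommRing R] [IsNoetherianRing R] [IsLocalRing R]
    (hR : CAlg.IsUniversallyCatenary R) (hF : EGA4.HasSnFormalFibres 1 R) :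
    EGA4.IsFormallyStrictlyCatenary R := by
  intro p _
  let B := R ⧸ p
  let C := EGA4.Cpl R
  let E := EGA4.Cpl B
  have : IsNoetherianRing C := AdicNoeth.isNoetherianRing_adicCompletion _
  have : IsNoetherianRing E := AdicNoeth.isNoetherianRing_adicCompletion _
  show EGA4.IsStrictlyEquidim E
  have hEq : EGA4.IsEquidim E := isFormallyCatenary_of_isUniversallyCatenary hR p
  intro r hr
  have hrp : r.IsPrime := hr.isPrime
  refine hEq r ?_
  obtain ⟨e0⟩ := RegLocus.cplQuotient_equiv R p
  let pC := p.map (algebraMap R C)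
  let e1 : (C ⧸ pC) ≃+* B ⊗[R] C := (Algebra.TensorProduct.quotIdealMapEquivQuotTensor C p).toRingEquiv
  let e : (C ⧸ pC) ≃+* E := e1.trans e0.toRingEquiv
  have he : ∀ x : R, e (Ideal.Quotient.mk pC (algebraMap R C x)) = algebraMap B E (Ideal.Quotient.mk p x) := fun x => by
    show e0 (e1 (Ideal.Quotient.mk pC (algebraMap R C x))) = _
    have : e1 (Ideal.Quotient.mk pC (algebraMap R C x)) = algebraMap B (B ⊗[R] C) (Ideal.Quotient.mk p x) := by
      show (Algebra.TensorProduct.quotIdealMapEquivQuotTensor C p) (Ideal.Quotient.mk pC (algebraMap R C x)) = _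
      erw [Algebra.TensorProduct.quotIdealMapEquivQuotTensor_mk]
      rw [Algebra.TensorProduct.algebraMap_apply, Algebra.algebraMap_eq_smul_one, ← TensorProduct.smul_tmul]
      rw [Algebra.smul_def, mul_one]
      rfl
    rw [this, e0.commutes]
  let r1 := r.comap e.toRingHom
  let r' := r1.comap (Ideal.Quotient.mk pC)
  have hle : pC ≤ r' := fun x hx => by
    show Ideal.Quotient.mk pC x ∈ r1
    rw [Ideal.Quotient.eq_zero_iff_mem.2 hx]; exact zero_mem _
  have hr'p : r'.comap (algebraMap R C) = p := by
    refine le_antisymm (fun x hx => ?_) (Ideal.map_le_iff_le_comap.1 hle)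
    by_contra hxp
    have hne : Ideal.Quotient.mk p x ≠ 0 := fun h => hxp (Ideal.Quotient.eq_zero_iff_mem.1 h)
    have hreg : IsSMulRegular E (algebraMap B E (Ideal.Quotient.mk p x)) :=
      IsSMulRegular.of_flat (R := B) (fun a b h => mul_left_cancel₀ hne h)
    have hmem : algebraMap B E (Ideal.Quotient.mk p x) ∈ r := he x ▸ hx
    have h2 : algebraMap B E (Ideal.Quotient.mk p x) ∈ ⋃ q ∈ associatedPrimes E E, (q : Set E) := Set.mem_biUnion hr hmem
    rw [biUnion_associatedPrimes_eq_compl_regular] at h2
    exact h2 hreg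
  refine ⟨⟨hrp, bot_le⟩, fun s hs hsr => ?_⟩
  have : s.IsPrime := hs.1
  let s' := (s.comap e.toRingHom).comap (Ideal.Quotient.mk pC)
  have hs' : pC ≤ s' := fun x hx => by
    show Ideal.Quotient.mk pC x ∈ s.comap e.toRingHom
    rw [Ideal.Quotient.eq_zero_iff_mem.2 hx]; exact zero_mem _
  have h := minimal_of_assPrime_of_fibre p (hF p) r' hr'p hle (by
    rw [Ideal.map_comap_of_surjective _ Ideal.Quotient.mk_surjective]
    exact assPrimes_comap_ringEquiv e hr) hs' (Ideal.comap_mono (Ideal.comap_mono hsr))
  exact (Ideal.comap_injective_of_surjective _ e.surjective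
    (Ideal.comap_injective_of_surjective _ Ideal.Quotient.mk_surjective h)).ge

/-- `H¹_I(M)` when the local rings along `I` are formally strictly catenary. -/
theorem finite_H1_of_strictly {A : Type u} [CommRing A] [IsNoetherianRing A] (I : Ideal A)
    (hstr : ∀ q : PrimeSpectrum A, I ≤ q.asIdeal → EGA4.IsFormallyStrictlyCatenary (Localization.AtPrime q.asIdeal))
    (M : Type u) [AddCommGroup M] [Module A M] [Module.Finite A M]
    (h : ∀ (p q : PrimeSpectrum A) (hpq : p ≤ q), p.asIdeal ∈ associatedPrimes A M → ¬ I ≤ p.asIdeal → I ≤ q.asIdeal →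
      (2 : ℕ∞) ≤ Order.height (⟨q, hpq⟩ : Set.Ici p)) :
    Module.Finite A (LocCoh.H I 1 M) := by
  refine finite_H1_of_local I M fun p _ hp hIp Q _ hQ => ?_
  have key : ∀ (q : Ideal A) [q.IsPrime] (Q : Ideal (A ⧸ p)) [Q.IsPrime], p ≤ q → I ≤ q →
      Q = q.map (Ideal.Quotient.mk p) → NoSmallAssPrimes (Localization.AtPrime Q) := by
    intro q _ Q _ hpq hIq e
    subst e
    refine noSmallAssPrimes_of_completion p q hpq ?_
    let Aq := Localization.AtPrime q
    have : IsNoetherianRing Aq := IsLocalization.isNoetherianRing q.primeCompl _ inferInstance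
    let p' := p.map (algebraMap A Aq)
    have hdisj : Disjoint (q.primeCompl : Set A) p := Set.disjoint_left.2 fun c hc hcr => hc (hpq hcr)
    have : p'.IsPrime := IsLocalization.isPrime_of_isPrime_disjoint q.primeCompl Aq p ‹_› hdisj
    have hstrict := hstr ⟨q, inferInstance⟩ hIq p'
    have : Nontrivial (Aq ⧸ p') := Ideal.Quotient.nontrivial_iff.2 (Ideal.IsPrime.ne_top inferInstance)
    have hm : (maximalIdeal Aq).map (Ideal.Quotient.mk p') = maximalIdeal (Aq ⧸ p') :=
      IsLocalRing.map_maximalIdeal_of_surjective _ Ideal.Quotient.mk_surjective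
    have hdim : (2 : WithBot ℕ∞) ≤ ringKrullDim (Aq ⧸ p') := by
      obtain ⟨e⟩ := SymGr.nonempty_localization_quotient_equiv p q hpq
      rw [ringKrullDim_eq_of_ringEquiv e, IsLocalization.AtPrime.ringKrullDim_eq_height (q.map (Ideal.Quotient.mk p))]
      refine WithBot.coe_le_coe.2 ((h ⟨p, inferInstance⟩ ⟨q, inferInstance⟩ hpq hp hIp hIq).trans ?_)
      rw [PrimeSpectrum.height_eq_orderHeight ⟨q.map (Ideal.Quotient.mk p), inferInstance⟩]
      let g : Set.Ici (⟨p, inferInstance⟩ : PrimeSpectrum A) → PrimeSpectrum (A ⧸ p) := fun x =>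
        ⟨x.1.asIdeal.map (Ideal.Quotient.mk p),
          Ideal.map_isPrime_of_surjective Ideal.Quotient.mk_surjective (by rw [Ideal.mk_ker]; exact x.2)⟩
      have hg : StrictMono g := fun a b hab => lt_of_le_of_ne (Ideal.map_mono hab.le) fun e => hab.ne
        (Subtype.ext (PrimeSpectrum.ext (by
          have e' := congrArg (fun v : PrimeSpectrum (A ⧸ p) => v.asIdeal.comap (Ideal.Quotient.mk p)) e
          simpa only [g, LocCohBasic.comap_map_mk a.2, LocCohBasic.comap_map_mk b.2] using e')))
      exact Order.height_le_height_apply_of_strictMono g hg ⟨_, hpq⟩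
    have key2 : ∀ (J : Ideal (Aq ⧸ p')), J = maximalIdeal (Aq ⧸ p') →
        ∀ P ∈ associatedPrimes (AdicCompletion J (Aq ⧸ p')) (AdicCompletion J (Aq ⧸ p')),
          (2 : WithBot ℕ∞) ≤ ringKrullDim (AdicCompletion J (Aq ⧸ p') ⧸ P) := by
      intro J e P hP
      subst e
      rw [hstrict P hP]
      exact hdim.trans (CAlgCompl.ringKrullDim_adicCompletion (A := Aq ⧸ p')).ge
    exact key2 _ hm
  have hle : p ≤ Q.comap (Ideal.Quotient.mk p) := fun x hx => by
    show Ideal.Quotient.mk p x ∈ Q
    rw [Ideal.Quotient.eq_zero_iff_mem.2 hx]; exact zero_mem _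
  exact key _ Q hle (Ideal.map_le_iff_le_comap.1 hQ) (Ideal.map_comap_of_surjective _ Ideal.Quotient.mk_surjective Q).symm

/-- `H¹_I(M)` for universally catenary rings with `(S₁)` formal fibres along `I`. -/
theorem finite_H1_of_S1 {A : Type u} [CommRing A] [IsNoetherianRing A] (hA : CAlg.IsUniversallyCatenary A) (I : Ideal A)
    (hF : ∀ q : PrimeSpectrum A, I ≤ q.asIdeal → EGA4.HasSnFormalFibres 1 (Localization.AtPrime q.asIdeal))
    (M : Type u) [AddCommGroup M] [Module A M] [Module.Finite A M]
    (h : ∀ (p q : PrimeSpectrum A) (hpq : p ≤ q), p.asIdeal ∈ associatedPrimes A M → ¬ I ≤ p.asIdeal → I ≤ q.asIdeal →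
      (2 : ℕ∞) ≤ Order.height (⟨q, hpq⟩ : Set.Ici p)) :
    Module.Finite A (LocCoh.H I 1 M) :=
  finite_H1_of_strictly I (fun q hq => strictly_of_S1_fibres (isUniversallyCatenary_atPrime hA q.asIdeal) (hF q hq)) M h

end Groth.Agent.LeadFCat
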