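import Groth.Agent.LeadFCat.Cpl
import Groth.Agent.FlatEquidim.Chart
import Groth.Agent.RegLocus.CplDescendHom
import Groth.Agent.RegLocus.CompleteG
import Mathlib.RingTheory.TensorProduct.MvPolynomial
import Mathlib.RingTheory.MvPolynomial.Tower

/-!
# Formally equidimensional rings and polynomial rings over them
-/

set_option autoImplicit false
universe u

open IsLocalRing
open scoped TensorProduct

attribute [local instance] MvPolynomial.algebraMvPolynomial

namespace Groth.Agent.LeadFCat

theorem dim_loc_quot {R : Type u} [CommRing R] (Q : Ideal R) [Q.IsPrime] (I : Ideal R) (hI : I ≤ Q) :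
    ringKrullDim (Localization.AtPrime Q ⧸ I.map (algebraMap R (Localization.AtPrime Q))) =
      ((Q.map (Ideal.Quotient.mk I)).height : WithBot ℕ∞) := by
  have : (Q.map (Ideal.Quotient.mk I)).IsPrime :=
    Ideal.map_isPrime_of_surjective Ideal.Quotient.mk_surjective (by rwa [Ideal.mk_ker])
  have : IsScalarTower R (R ⧸ I) (Localization.AtPrime Q ⧸ I.map (algebraMap R (Localization.AtPrime Q))) :=
    IsScalarTower.of_algebraMap_eq fun _ => rfl
  have := RegLocus.isLocalization_quotient R (Localization.AtPrime Q) Q I hI _ rfl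
  exact IsLocalization.AtPrime.ringKrullDim_eq_height (Q.map (Ideal.Quotient.mk I)) _

/-- Localizations of an equidimensional catenary local ring are equidimensional. -/
theorem isEquidim_atPrime {R : Type u} [CommRing R] [IsNoetherianRing R] [IsLocalRing R]
    (hcat : CAlg.IsCatenary R) (heq : EGA4.IsEquidim R) (q : Ideal R) [q.IsPrime] :
    EGA4.IsEquidim (Localization.AtPrime q) := by
  intro P hP
  have hPp := hP.1.1
  let r := P.comap (algebraMap R (Localization.AtPrime q))
  have hrq : r ≤ q := by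
    have h := Ideal.comap_mono (f := algebraMap R (Localization.AtPrime q)) (le_maximalIdeal hPp.ne_top)
    rwa [← Ideal.under_def _ (maximalIdeal (Localization.AtPrime q)), Localization.AtPrime.under_maximalIdeal] at h
  have hr0 : r ∈ minimalPrimes R := by
    rw [← Ideal.height_eq_zero_iff, IsLocalization.height_under q.primeCompl P, Ideal.height_eq_zero_iff]
    exact hP
  have e1 : P = r.map (algebraMap R (Localization.AtPrime q)) :=
    (IsLocalization.map_under q.primeCompl (Localization.AtPrime q) P).symm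
  rw [e1, dim_loc_quot q r hrq, IsLocalization.AtPrime.ringKrullDim_eq_height q]
  have : (q.map (Ideal.Quotient.mk r)).IsPrime :=
    Ideal.map_isPrime_of_surjective Ideal.Quotient.mk_surjective (by rwa [Ideal.mk_ker])
  have : Nontrivial (R ⧸ r) := Ideal.Quotient.nontrivial_iff.2 (Ideal.IsPrime.ne_top inferInstance)
  have : IsLocalRing (R ⧸ r) := IsLocalRing.of_surjective' (Ideal.Quotient.mk r) Ideal.Quotient.mk_surjective
  have h1 := dim_add_height (CatenaryLib.isCatenary_of_surjective (Ideal.Quotient.mk r) Ideal.Quotient.mk_surjective hcat)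
    (show EGA4.IsEquidim (R ⧸ r) from fun p hp => by
      rw [IsDomain.minimalPrimes_eq_singleton_bot, Set.mem_singleton_iff] at hp
      rw [hp]; exact ringKrullDim_eq_of_ringEquiv (RingEquiv.quotientBot _))
    (q.map (Ideal.Quotient.mk r))
  have h2 := dim_add_height hcat heq q
  rw [ringKrullDim_eq_of_ringEquiv (DoubleQuot.quotQuotEquivQuotOfLE hrq), heq r hr0] at h1
  obtain ⟨a, ha⟩ := exists_dim_quot q (Ideal.IsPrime.ne_top ‹_›)
  obtain ⟨n, hn⟩ := exists_dim R
  obtain ⟨c, hc⟩ := exists_height q
  obtain ⟨c', hc'⟩ := exists_height (q.map (Ideal.Quotient.mk r))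
  rw [ha, hn, hc'] at h1
  rw [ha, hn, hc] at h2
  have e1 : a + c' = n := by exact_mod_cast h1
  have e2 : a + c = n := by exact_mod_cast h2
  rw [hc, hc', show c' = c by omega]

/-- Localizations of polynomial rings over an equidimensional universally catenary local ring. -/
theorem isEquidim_poly {R : Type u} [CommRing R] [IsNoetherianRing R] [IsLocalRing R]
    (hcat : CAlg.IsCatenary R) (heq : EGA4.IsEquidim R) (d : ℕ) (Q : Ideal (MvPolynomial (Fin d) R)) [Q.IsPrime] :
    EGA4.IsEquidim (Localization.AtPrime Q) := by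
  let C := MvPolynomial (Fin d) R
  let q := Q.comap (algebraMap R C)
  have : Q.LiesOver q := ⟨rfl⟩
  let _ := Localization.AtPrime.algebraOfLiesOver q Q
  intro P hP
  have hPp := hP.1.1
  let P0 := P.comap (algebraMap C (Localization.AtPrime Q))
  have hP0 : P0 ∈ minimalPrimes C := by
    rw [← Ideal.height_eq_zero_iff, IsLocalization.height_under Q.primeCompl P, Ideal.height_eq_zero_iff]
    exact hP
  have hP0' : P0 ∈ ((⊥ : Ideal R).map (algebraMap R C)).minimalPrimes := by rw [Ideal.map_bot]; exact hP0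
  obtain ⟨h1, h2⟩ := under_mem_minimal (⊥ : Ideal R) P0 hP0'
  let r := P0.comap (algebraMap R C)
  have hr : r ∈ minimalPrimes R := h1
  have hrC : (r.map (algebraMap R C)).IsPrime := FlatEquidim.isPrime_map_C (d := d) r
  have hP0r : P0 = r.map (algebraMap R C) :=
    le_antisymm (h2.2 ⟨hrC, le_rfl⟩ h2.1.2) h2.1.2
  let Rq := Localization.AtPrime q
  have hPr : P = (r.map (algebraMap R Rq)).map (algebraMap Rq (Localization.AtPrime Q)) := by
    rw [Ideal.map_map, ← IsScalarTower.algebraMap_eq, IsScalarTower.algebraMap_eq R C (Localization.AtPrime Q),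
      ← Ideal.map_map, ← hP0r]
    exact (IsLocalization.map_under Q.primeCompl (Localization.AtPrime Q) P).symm
  have hrq : r ≤ q := Ideal.comap_mono (by
    have h := Ideal.comap_mono (f := algebraMap C (Localization.AtPrime Q)) (le_maximalIdeal hPp.ne_top)
    rwa [← Ideal.under_def _ (maximalIdeal (Localization.AtPrime Q)), Localization.AtPrime.under_maximalIdeal] at h)
  have hrne : r.map (algebraMap R Rq) ≠ ⊤ := ne_top_of_le_ne_top (maximalIdeal.isMaximal Rq).ne_top
    ((Ideal.map_mono hrq).trans (Localization.AtPrime.map_eq_maximalIdeal (I := q)).le)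
  rw [hPr, dim_quot_eq_add Rq (Localization.AtPrime Q) _ hrne, FlatLocalDepth.ringKrullDim_eq_add Rq (Localization.AtPrime Q)]
  congr 1
  refine isEquidim_atPrime hcat heq q _ ?_
  have hrp : (r.map (algebraMap R Rq)).IsPrime :=
    IsLocalization.isPrime_of_isPrime_disjoint q.primeCompl Rq r inferInstance
      (Set.disjoint_left.2 fun x hx hx' => hx (hrq hx'))
  rw [← Ideal.height_eq_zero_iff, ← IsLocalization.height_under q.primeCompl (r.map (algebraMap R Rq)),
    show (r.map (algebraMap R Rq)).under R = r from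
      IsLocalization.under_map_of_isPrime_disjoint q.primeCompl Rq inferInstance
        (Set.disjoint_left.2 fun x hx hx' => hx (hrq hx')), Ideal.height_eq_zero_iff]
  exact hr

theorem faithfullyFlat_poly (R S : Type u) [CommRing R] [CommRing S] [Algebra R S] [Module.FaithfullyFlat R S] (d : ℕ) :
    Module.FaithfullyFlat (MvPolynomial (Fin d) R) (MvPolynomial (Fin d) S) := by
  have : Algebra.IsPushout R S (MvPolynomial (Fin d) R) (MvPolynomial (Fin d) S) := inferInstance
  let e := (Algebra.IsPushout.equiv R (MvPolynomial (Fin d) R) S (MvPolynomial (Fin d) S)).toLinearEquiv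
  exact Module.FaithfullyFlat.of_linearEquiv _ _ e.symm

/-- The completion route: a flat local map to an equidimensional catenary quotient of a Cohen–Macaulay ring. -/
theorem exists_flat_poly {R : Type u} [CommRing R] [IsNoetherianRing R] [IsLocalRing R]
    (h : EGA4.IsFormallyEquidim R) (d : ℕ) (Q : Ideal (MvPolynomial (Fin d) R)) [Q.IsPrime] :
    ∃ (L' : Type u) (_ : CommRing L') (_ : IsLocalRing L') (_ : IsNoetherianRing L') (_ : Algebra (Localization.AtPrime Q) L')
      (_ : Module.Flat (Localization.AtPrime Q) L') (_ : IsLocalHom (algebraMap (Localization.AtPrime Q) L')),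
      EGA4.IsEquidim L' ∧ CAlg.IsCatenary L' ∧ EGA4.IsFormallyCatenary L' := by
  have := AdicNoeth.isNoetherianRing_adicCompletion (maximalIdeal R)
  have := CAlgN2.faithfullyFlat_completion R
  have := faithfullyFlat_poly R (EGA4.Cpl R) d
  obtain ⟨⟨Q', hQ'⟩, hQQ'⟩ :=
    PrimeSpectrum.comap_surjective_of_faithfullyFlat (A := MvPolynomial (Fin d) R) (B := MvPolynomial (Fin d) (EGA4.Cpl R)) ⟨Q, ‹_›⟩
  have : Q'.LiesOver Q := ⟨(congrArg PrimeSpectrum.asIdeal hQQ').symm⟩
  let _ := Localization.AtPrime.algebraOfLiesOver Q Q'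
  refine ⟨Localization.AtPrime Q', inferInstance, inferInstance, inferInstance, inferInstance, inferInstance,
    inferInstance, ?_, ?_, ?_⟩
  · exact isEquidim_poly (cpl_isCatenary R) h d Q'
  · exact CatenaryLib.isCatenary_of_isLocalization Q'.primeCompl
      ((cpl_isUniversallyCatenary R).2 (MvPolynomial (Fin d) (EGA4.Cpl R)) inferInstance)
  · obtain ⟨S, _, hS, g, hg⟩ := (by
      have : IsAdicComplete (maximalIdeal (EGA4.Cpl R)) (EGA4.Cpl R) := by
        rw [← cpl_map_maximalIdeal]
        exact AdicCompletion.isAdicComplete_self _ (IsNoetherian.noetherian _)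
      exact LocDuality.exists_regular_surjection (R := EGA4.Cpl R))
    let g' : MvPolynomial (Fin d) S →+* MvPolynomial (Fin d) (EGA4.Cpl R) := MvPolynomial.map g
    have hg' : Function.Surjective g' := MvPolynomial.map_surjective g hg
    have : LocCoh.IsCohenMacaulayRing (MvPolynomial (Fin d) S) :=
      LeadExc.isCohenMacaulayRing_mvPolynomial
        (have := LocCohBasic.isCohenMacaulayLocalRing_of_isRegularLocalRing (R := S); Depth.isCohenMacaulayRing_of_local) d
    have := this.isCohenMacaulayLocalRing_localization (Q'.comap g')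
    let ψ : Localization.AtPrime (Q'.comap g') →+* Localization.AtPrime Q' := Localization.localRingHom _ _ g' rfl
    have hψ : Function.Surjective ψ := by
      intro y
      obtain ⟨a, ⟨s, hs⟩, rfl⟩ := IsLocalization.exists_mk'_eq Q'.primeCompl y
      obtain ⟨a, rfl⟩ := hg' a
      obtain ⟨s, rfl⟩ := hg' s
      refine ⟨IsLocalization.mk' _ a (⟨s, hs⟩ : (Q'.comap g').primeCompl), ?_⟩
      exact Localization.localRingHom_mk' _ _ _ _ _ _
    let _ := ψ.toAlgebra
    exact isFormallyCatenary_quot_of_isCohenMacaulay (R := Localization.AtPrime (Q'.comap g')) hψ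

theorem isCatenary_poly_loc {R : Type u} [CommRing R] [IsNoetherianRing R] [IsLocalRing R]
    (h : EGA4.IsFormallyEquidim R) (d : ℕ) (Q : Ideal (MvPolynomial (Fin d) R)) [Q.IsPrime] :
    CAlg.IsCatenary (Localization.AtPrime Q) := by
  obtain ⟨L', _, _, _, _, _, _, h1, h2, -⟩ := exists_flat_poly h d Q
  exact isCatenary_descent (Localization.AtPrime Q) L' h1 h2

theorem isFormallyEquidim_poly_loc {R : Type u} [CommRing R] [IsNoetherianRing R] [IsLocalRing R]
    (h : EGA4.IsFormallyEquidim R) (d : ℕ) (Q : Ideal (MvPolynomial (Fin d) R)) [Q.IsPrime] :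
    EGA4.IsFormallyEquidim (Localization.AtPrime Q) := by
  obtain ⟨L', _, _, _, _, _, _, h1, h2, h3⟩ := exists_flat_poly h d Q
  have hL' : EGA4.IsFormallyEquidim L' := (isFormallyEquidim_iff_minimal L').2 ⟨h1, fun p _ _ => h3 p⟩
  obtain ⟨_, _, hff⟩ := RegLocus.exists_cpl_faithfullyFlat (Localization.AtPrime Q) L'
  have := AdicNoeth.isNoetherianRing_adicCompletion (maximalIdeal (Localization.AtPrime Q))
  have := AdicNoeth.isNoetherianRing_adicCompletion (maximalIdeal L')
  have : IsLocalHom (algebraMap (EGA4.Cpl (Localization.AtPrime Q)) (EGA4.Cpl L')) := by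
    refine ⟨fun x hx => ?_⟩
    by_contra hn
    obtain ⟨P, hP⟩ := PrimeSpectrum.comap_surjective_of_faithfullyFlat (B := EGA4.Cpl L') (closedPoint (EGA4.Cpl (Localization.AtPrime Q)))
    have hxP : algebraMap (EGA4.Cpl (Localization.AtPrime Q)) (EGA4.Cpl L') x ∈ P.asIdeal :=
      (congrArg PrimeSpectrum.asIdeal hP).ge ((mem_maximalIdeal x).2 hn)
    exact P.2.ne_top (Ideal.eq_top_of_isUnit_mem _ hxP hx)
  exact isEquidim_descent (EGA4.Cpl (Localization.AtPrime Q)) (EGA4.Cpl L') hL' (cpl_isCatenary L')

/-- Catenarity is local. -/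
theorem isCatenary_of_localizations {R : Type u} [CommRing R]
    (h : ∀ (q : Ideal R) [q.IsPrime], CAlg.IsCatenary (Localization.AtPrime q)) : CAlg.IsCatenary R := by
  have lift : ∀ (s : LTSeries (PrimeSpectrum R)) (q : PrimeSpectrum R), s.last = q →
      ∃ s' : LTSeries (PrimeSpectrum (Localization.AtPrime q.asIdeal)), s'.length = s.length ∧
        PrimeSpectrum.comap (algebraMap R (Localization.AtPrime q.asIdeal)) s'.head = s.head ∧
        PrimeSpectrum.comap (algebraMap R (Localization.AtPrime q.asIdeal)) s'.last = s.last ∧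
        ((∀ i : Fin s.length, s (Fin.castSucc i) ⋖ s (Fin.succ i)) →
          ∀ i : Fin s'.length, s' (Fin.castSucc i) ⋖ s' (Fin.succ i)) := by
    intro s q hq
    let f := PrimeSpectrum.comap (algebraMap R (Localization.AtPrime q.asIdeal))
    have hf : ∀ a b, f a ≤ f b ↔ a ≤ b := fun a b => ⟨fun h => by
      have h' : a.asIdeal.comap (algebraMap R (Localization.AtPrime q.asIdeal)) ≤ b.asIdeal.comap (algebraMap R (Localization.AtPrime q.asIdeal)) := h
      show a.asIdeal ≤ b.asIdeal
      rw [← IsLocalization.map_under q.asIdeal.primeCompl _ a.asIdeal, ← IsLocalization.map_under q.asIdeal.primeCompl _ b.asIdeal]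
      exact Ideal.map_mono h', fun h => Ideal.comap_mono h⟩
    have hlt : ∀ a b, f a < f b ↔ a < b := fun a b => by rw [lt_iff_le_not_ge, lt_iff_le_not_ge, hf, hf]
    have hlift : ∀ i, ∃ x, f x = s i := fun i => by
      have h1 : s i ≤ q := hq ▸ s.monotone (Fin.le_last i)
      have : s i ∈ {p : PrimeSpectrum R | Disjoint (q.asIdeal.primeCompl : Set R) p.asIdeal} :=
        Set.disjoint_left.2 fun x hx hx' => hx (h1 hx')
      rwa [← PrimeSpectrum.localization_comap_range (Localization.AtPrime q.asIdeal) q.asIdeal.primeCompl] at this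
    choose g hg using hlift
    refine ⟨⟨s.length, g, fun i => ?_⟩, rfl, hg 0, hg (Fin.last _), fun hsat i => ?_⟩
    · exact (hlt _ _).mp (by rw [hg, hg]; exact s.step i)
    · have h1 := hsat i
      rw [← hg, ← hg] at h1
      exact ⟨(hlt _ _).mp h1.1, fun c ha hb => h1.2 ((hlt _ _).mpr ha) ((hlt _ _).mpr hb)⟩
  have hinj : ∀ q : PrimeSpectrum R, Function.Injective (PrimeSpectrum.comap (algebraMap R (Localization.AtPrime q.asIdeal))) :=
    fun q => PrimeSpectrum.localization_comap_injective _ q.asIdeal.primeCompl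
  refine ⟨fun p q _ => ?_, fun s t hh hl hs ht => ?_⟩
  · by_cases hex : ∃ s : LTSeries (PrimeSpectrum R), s.head = p ∧ s.last = q
    · obtain ⟨s₀, h0, h0'⟩ := hex
      obtain ⟨t₀, -, ht₀, ht₀', -⟩ := lift s₀ q h0'
      obtain ⟨n, hn⟩ := (h q.asIdeal).1 t₀.head t₀.last t₀.head_le_last
      refine ⟨n, fun s hs hs' => ?_⟩
      obtain ⟨t, htl, hth, htl', -⟩ := lift s q hs'
      rw [← htl]
      exact hn t (hinj q (by rw [hth, ht₀, hs, h0])) (hinj q (by rw [htl', ht₀', hs', h0']))
    · exact ⟨0, fun s hs hs' => absurd ⟨s, hs, hs'⟩ hex⟩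
  · obtain ⟨s', h1, h2, h3, h4⟩ := lift s s.last rfl
    obtain ⟨t', k1, k2, k3, k4⟩ := lift t s.last hl.symm
    rw [← h1, ← k1]
    exact (h s.last.asIdeal).2 s' t' (hinj s.last (by rw [h2, k2, hh])) (hinj s.last (by rw [h3, k3, hl])) (h4 hs) (k4 ht)

theorem isCatenary_poly {A : Type u} [CommRing A] [IsNoetherianRing A] [IsLocalRing A]
    (hA : EGA4.IsFormallyCatenary A) (d : ℕ) : CAlg.IsCatenary (MvPolynomial (Fin d) A) := by
  rw [CatenaryLib.isCatenary_iff_quotient_minimalPrimes]
  intro P hP
  have := hP.1.1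
  let p := P.comap (algebraMap A (MvPolynomial (Fin d) A))
  have : Nontrivial (A ⧸ p) := Ideal.Quotient.nontrivial_iff.2 (Ideal.IsPrime.ne_top inferInstance)
  have : IsLocalRing (A ⧸ p) := IsLocalRing.of_surjective' (Ideal.Quotient.mk p) Ideal.Quotient.mk_surjective
  let f : MvPolynomial (Fin d) A →+* MvPolynomial (Fin d) A ⧸ P := Ideal.Quotient.mk P
  let g : MvPolynomial (Fin d) (A ⧸ p) →+* MvPolynomial (Fin d) A ⧸ P :=
    MvPolynomial.eval₂Hom (Ideal.quotientMap P (algebraMap A _) le_rfl) (fun i => f (MvPolynomial.X i))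
  have hg : g.comp (MvPolynomial.map (Ideal.Quotient.mk p)) = f :=
    MvPolynomial.ringHom_ext (fun a => by simp [g, f]) (fun i => by simp [g, f])
  have hgs : Function.Surjective g := fun y => by
    obtain ⟨z, rfl⟩ := Ideal.Quotient.mk_surjective y
    exact ⟨_, RingHom.congr_fun hg z⟩
  exact CatenaryLib.isCatenary_of_surjective g hgs
    (isCatenary_of_localizations fun Q _ => isCatenary_poly_loc (hA p) d Q)

theorem isUniversallyCatenary_of_isFormallyCatenary {A : Type u} [CommRing A] [IsNoetherianRing A] [IsLocalRing A]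
    (hA : EGA4.IsFormallyCatenary A) : CAlg.IsUniversallyCatenary A := by
  refine ⟨inferInstance, fun S _ _ hS => ?_⟩
  obtain ⟨n, f, hf⟩ := Algebra.FiniteType.iff_quotient_mvPolynomial''.1 hS
  exact CatenaryLib.isCatenary_of_surjective f.toRingHom hf (isCatenary_poly hA n)

end Groth.Agent.LeadFCat
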