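import Groth.Agent.GRingHens.Main
import Groth.Agent.RegLocus.GeomMisc
import Groth.Agent.S9411
import Groth.Agent.S4754
import Groth.Agent.S2811
import Groth.Agent.UnitComp.Basic
import Groth.Agent.LeadFCat.Poly

/-!
# Henselizations of rings with geometrically normal formal fibres
-/

set_option autoImplicit false
set_option linter.style.haveILetI false
universe u

open IsLocalRing
open scoped TensorProduct

namespace Groth.Agent.LeadFCat

theorem geomNormal_fibre_of_indEtale {A B : Type u} [CommRing A] [CommRing B] [Algebra A B] [IsNoetherianRing B]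
    (hB : ∀ s : Finset B, ∃ (E : Type u) (_ : CommRing E) (_ : Algebra A E) (φ : E →ₐ[A] B),
      Algebra.Etale A E ∧ ∀ x ∈ s, x ∈ φ.range)
    (C : Type u) [CommRing C] [Algebra A C] [Algebra B C] [IsScalarTower A B C]
    (hAC : ∀ (p : Ideal A) [p.IsPrime], EGA4.IsGeomNormal p.ResidueField (p.Fiber C)) (P : Ideal B) [P.IsPrime] :
    EGA4.IsGeomNormal P.ResidueField (P.Fiber C) := by
  let p := P.comap (algebraMap A B)
  have : P.LiesOver p := ⟨rfl⟩
  let _ := Localization.AtPrime.algebraOfLiesOver p P
  let k := p.ResidueField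
  let K := P.ResidueField
  have : IsScalarTower A k K := inferInstance
  have := GRingHens.isSeparable_residueField hB p P
  let X := p.Fiber C
  let W := P.Fiber C
  let φ : X →ₐ[k] W := Algebra.TensorProduct.lift (Algebra.ofId k W)
    ((Algebra.TensorProduct.includeRight : C →ₐ[B] W).restrictScalars A) fun _ _ => Commute.all _ _
  letI : Algebra X W := φ.toRingHom.toAlgebra
  have : IsScalarTower k X W := IsScalarTower.of_algebraMap_eq fun c => (φ.commutes c).symm
  have hφ : ∀ (c : k) (z : C), algebraMap X W (c ⊗ₜ z) = algebraMap k K c ⊗ₜ z := fun c z => by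
    show (algebraMap k K c ⊗ₜ[B] (1 : C)) * ((1 : K) ⊗ₜ z) = _
    rw [Algebra.TensorProduct.tmul_mul_tmul, mul_one, one_mul]
  have hloc := GRingHens.isLocalization_fibre hB C p P hφ
  have hWk : EGA4.IsGeomNormal k W := RegLocus.geomNormal_localization k X
    (P.primeCompl.map ((Algebra.TensorProduct.includeRight : C →ₐ[A] X).toRingHom.comp (algebraMap B C))) W (hAC p)
  exact (Groth.Agent.S9411.result k K W).1 hWk

theorem isUniversallyCatenary_henselization {A S : Type u} [CommRing A] [IsLocalRing A] [IsNoetherianRing A]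
    [CommRing S] [IsLocalRing S] [Algebra A S] [IsLocalHom (algebraMap A S)] [Hensel.IsHenselization A S]
    (hA : EGA4.HasGeomNormalFormalFibres A) : CAlg.IsUniversallyCatenary S := by
  have : IsNoetherianRing S := Hensel.henselization_isNoetherianRing (R := A)
  obtain ⟨e0⟩ := Hensel.exists_algEquiv_hens (R := A) (S := S)
  obtain ⟨ec⟩ := Hensel.henselization_cpl_equiv (R := A) (S := S)
  let C := EGA4.Cpl S
  have hfib : ∀ (p : Ideal A) [p.IsPrime], EGA4.IsGeomNormal p.ResidueField (p.Fiber C) := by
    intro p _ k' _ _ hk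
    let et : p.Fiber (EGA4.Cpl A) ≃ₐ[p.ResidueField] p.Fiber C := Algebra.TensorProduct.congr AlgEquiv.refl ec
    exact RegLocus.isNormalRing_of_equiv
      (Algebra.TensorProduct.congr (AlgEquiv.refl (R := p.ResidueField) (A₁ := k')) et).toRingEquiv (hA p k' hk)
  have hSn : EGA4.HasGeomNormalFormalFibres S := fun P _ =>
    geomNormal_fibre_of_indEtale (fun s => Hensel.exists_etale_range_of_algEquiv e0 s) C hfib P
  have hhens : HenselianLocalRing S := (inferInstance : Hensel.IsHenselization A S).henselian
  refine isUniversallyCatenary_of_isFormallyCatenary fun P _ => ?_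
  have : Nontrivial (S ⧸ P) := Ideal.Quotient.nontrivial_iff.2 (Ideal.IsPrime.ne_top inferInstance)
  have := IsLocalRing.of_surjective' (Ideal.Quotient.mk P) Ideal.Quotient.mk_surjective
  have : HenselianLocalRing (S ⧸ P) := Hensel.henselianLocalRing_of_isIntegral (R := S) (S ⧸ P)
  have := Groth.Agent.S2811.result (S ⧸ P) (Groth.Agent.S4754.result S hSn P)
  intro q hq
  rw [IsDomain.minimalPrimes_eq_singleton_bot, Set.mem_singleton_iff] at hq
  subst hq
  exact ringKrullDim_eq_of_ringEquiv (RingEquiv.quotientBot _)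

end Groth.Agent.LeadFCat
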