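import Groth.Agent.LeadFCat.DimEq
import Groth.Agent.CAlgMisc.SmallA

/-!
# The intersection of the localizations at height-one primes
-/

set_option autoImplicit false
universe u

namespace Groth.Agent.LeadFCat

/-- `A^(1)` as a subalgebra of the fraction field. -/
def hull (A : Type u) [CommRing A] [IsDomain A] : Subalgebra A (FractionRing A) where
  carrier := EGA4.heightOneHull A
  mul_mem' {x y} hx hy p _ hp := by
    obtain ⟨s, hs, a, ha⟩ := hx p hp
    obtain ⟨t, ht, b, hb⟩ := hy p hp
    exact ⟨s * t, Ideal.IsPrime.mul_notMem inferInstance hs ht, a * b, by rw [map_mul, ha, hb, map_mul]; ring⟩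
  add_mem' {x y} hx hy p _ hp := by
    obtain ⟨s, hs, a, ha⟩ := hx p hp
    obtain ⟨t, ht, b, hb⟩ := hy p hp
    exact ⟨s * t, Ideal.IsPrime.mul_notMem inferInstance hs ht, a * t + b * s, by
      rw [map_add, map_mul, map_mul, ha, hb, map_mul]; ring⟩
  algebraMap_mem' r p _ _ := ⟨1, fun h => (inferInstance : p.IsPrime).ne_top ((Ideal.eq_top_iff_one p).2 h), r, by
    rw [map_one, one_mul]⟩

theorem heightOneHullFinite_iff {A : Type u} [CommRing A] [IsDomain A] :
    EGA4.HeightOneHullFinite A ↔ Module.Finite A (hull A) := by
  constructor
  · rintro ⟨B, hB, h⟩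
    rwa [show hull A = B from SetLike.coe_injective hB.symm]
  · exact fun h => ⟨hull A, rfl, h⟩

/-- In a universally catenary domain with finite normalization, `A^(1)` consists of integral elements. -/
theorem hull_le_integralClosure {A : Type u} [CommRing A] [IsDomain A]
    (hA : CAlg.IsUniversallyCatenary A) (hint : Module.Finite A (integralClosure A (FractionRing A))) :
    hull A ≤ integralClosure A (FractionRing A) := by
  intro x hx
  have := hA.1
  let K := FractionRing A
  let B := integralClosure A K
  have : Module.Finite A B := hint
  have : IsNoetherianRing B := IsNoetherianRing.of_finite A B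
  have : IsFractionRing B K := integralClosure.isFractionRing_of_finite_extension (A := A) K K
  have : IsIntegrallyClosed B := integralClosure.isIntegrallyClosedOfFiniteExtension K
  have : FaithfulSMul A B := (faithfulSMul_iff_algebraMap_injective _ _).2 fun a b h =>
    IsFractionRing.injective A K (congrArg Subtype.val h)
  let e : FractionRing B ≃ₐ[B] K := FractionRing.algEquiv B K
  obtain ⟨z, hz⟩ := CAlgMisc.mem_range_of_height_one (e.symm x) fun q _ hq => by
    obtain ⟨s, hs, a, ha⟩ := hx (q.under A) (by rwa [← height_eq_under_of_finite hA q])
    refine ⟨IsLocalization.mk' (Localization.AtPrime q) (algebraMap A B a) (⟨algebraMap A B s, hs⟩ : q.primeCompl), ?_⟩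
    have h1 : algebraMap B (FractionRing B) (algebraMap A B s) ≠ 0 := by
      rw [Ne, map_eq_zero_iff _ (IsFractionRing.injective B (FractionRing B)),
        map_eq_zero_iff _ (FaithfulSMul.algebraMap_injective A B)]
      exact fun h => hs (h ▸ zero_mem _)
    refine mul_left_cancel₀ h1 ?_
    rw [IsScalarTower.algebraMap_apply B (Localization.AtPrime q) (FractionRing B), ← map_mul,
      IsLocalization.mk'_spec'_mk, ← IsScalarTower.algebraMap_apply B (Localization.AtPrime q) (FractionRing B), ← IsScalarTower.algebraMap_apply B (Localization.AtPrime q) (FractionRing B)]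
    apply e.injective
    rw [map_mul, e.commutes, e.commutes, AlgEquiv.apply_symm_apply]
    exact ha
  have : (z : K) = x := by
    rw [← e.apply_symm_apply x, ← hz, e.commutes]
    rfl
  exact this ▸ z.2

theorem hull_finite {A : Type u} [CommRing A] [IsDomain A] (hA : CAlg.IsUniversallyCatenary A)
    (hint : Module.Finite A (integralClosure A (FractionRing A))) : EGA4.HeightOneHullFinite A := by
  have := hA.1
  rw [heightOneHullFinite_iff]
  have : Module.Finite A (integralClosure A (FractionRing A)) := hint
  have : IsNoetherian A (integralClosure A (FractionRing A)) := isNoetherian_of_isNoetherianRing_of_finite A _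
  have h := hull_le_integralClosure hA hint
  exact Module.Finite.of_injective (Subalgebra.inclusion h).toLinearMap (Subalgebra.inclusion_injective h)

end Groth.Agent.LeadFCat
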