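import Groth.Agent.LeadFCat.StrictTensor
import Groth.Agent.LeadFCat.StrictCM

/-!
# Strict formal catenarity is stable under algebras essentially of finite type
-/

set_option autoImplicit false
universe u

open IsLocalRing
open scoped TensorProduct

namespace Groth.Agent.LeadFCat

/-- A quotient of a Cohen–Macaulay local ring is strictly formally catenary. -/
theorem isFormallyStrictlyCatenary_of_surjective_CM {G E : Type u} [CommRing G] [CommRing E] [IsLocalRing E]
    [IsNoetherianRing E] [LocCoh.IsCohenMacaulayLocalRing G] (ψ : G →+* E) (hψ : Function.Surjective ψ) :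
    EGA4.IsFormallyStrictlyCatenary E := by
  intro P _
  have hG := isFormallyStrictlyCatenary_of_CM_module (A := G) G Depth.isCohenMacaulayModule_self (by
    rw [Module.support_eq_zeroLocus, Module.annihilator_eq_bot.2 inferInstance]; simp)
  let P' := P.comap ψ
  have hker : RingHom.ker ((Ideal.Quotient.mk P).comp ψ) = P' := by rw [← RingHom.comap_ker, Ideal.mk_ker]
  let e : (G ⧸ P') ≃+* E ⧸ P := (Ideal.quotEquivOfEq hker.symm).trans
    (RingHom.quotientKerEquivOfSurjective (Ideal.Quotient.mk_surjective.comp hψ))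
  exact cpl_strictly_of_ringEquiv e (hG P')

/-- Strict equidimensionality passes to the completion of a strictly formally catenary ring. -/
theorem isStrictlyEquidim_cpl {E : Type u} [CommRing E] [IsNoetherianRing E] [IsLocalRing E]
    (hE : EGA4.IsFormallyStrictlyCatenary E) (h : EGA4.IsStrictlyEquidim E) :
    EGA4.IsStrictlyEquidim (EGA4.Cpl E) := by
  have : IsNoetherianRing (EGA4.Cpl E) := AdicNoeth.isNoetherianRing_adicCompletion _
  intro q hq
  rw [CAlgCompl.ringKrullDim_adicCompletion (A := E)]
  have hq' : q ∈ associatedPrimes (EGA4.Cpl E) (EGA4.Cpl E ⊗[E] E) := by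
    rw [LinearEquiv.AssociatedPrimes.eq (TensorProduct.AlgebraTensorModule.rid E (EGA4.Cpl E) (EGA4.Cpl E))]
    exact hq
  rw [CAlgAssTensor.associatedPrimes_tensor (EGA4.Cpl E) (EGA4.Cpl E)] at hq'
  obtain ⟨P, hP, hqP⟩ := Set.mem_iUnion₂.1 hq'
  have := hP.isPrime
  rw [dim_assPrimes_quot P (hE P) q hqP]
  exact h P hP

/-- Descent of strict equidimensionality along flat local maps. -/
theorem isStrictlyEquidim_descent (D E : Type u) [CommRing D] [CommRing E] [IsNoetherianRing D] [IsNoetherianRing E]
    [IsLocalRing D] [IsLocalRing E] [Algebra D E] [IsLocalHom (algebraMap D E)] [Module.Flat D E]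
    (h : EGA4.IsStrictlyEquidim E) : EGA4.IsStrictlyEquidim D := by
  intro r hr
  have := hr.isPrime
  have hne := map_ne_top D E (I := r) (Ideal.IsPrime.ne_top inferInstance)
  obtain ⟨r', hr'⟩ := Ideal.nonempty_minimalPrimes hne
  have := hr'.1.1
  have hann : Module.annihilator E (E ⧸ r.map (algebraMap D E) • (⊤ : Submodule E E)) = r.map (algebraMap D E) := by
    rw [smul_eq_mul, Ideal.mul_top, Ideal.annihilator_quotient]
  have hr'E : r' ∈ associatedPrimes E E := by
    have h1 : r' ∈ associatedPrimes E (E ⊗[D] D) := by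
      rw [CAlgAssTensor.associatedPrimes_tensor E E]
      refine Set.mem_iUnion₂.2 ⟨r, hr, ?_⟩
      exact Module.associatedPrimes.minimalPrimes_annihilator_subset_associatedPrimes _ _ (by rwa [hann])
    rwa [LinearEquiv.AssociatedPrimes.eq (TensorProduct.AlgebraTensorModule.rid D E E)] at h1
  have h2 : ringKrullDim E ≤ ringKrullDim (E ⧸ r.map (algebraMap D E)) := by
    rw [← h r' hr'E]
    exact ringKrullDim_le_of_surjective (Ideal.Quotient.factor hr'.1.2) (Ideal.Quotient.factor_surjective hr'.1.2)
  rw [dim_quot_eq_add D E r (Ideal.IsPrime.ne_top inferInstance), FlatLocalDepth.ringKrullDim_eq_add D E] at h2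
  refine le_antisymm (ringKrullDim_quotient_le r) ?_
  obtain ⟨a, ha⟩ := exists_dim D
  obtain ⟨b, hb⟩ := exists_dim_quot r (Ideal.IsPrime.ne_top inferInstance)
  have := FlatLocalDepth.nontrivial_fibre D E
  have : IsLocalRing (E ⧸ (maximalIdeal D).map (algebraMap D E)) :=
    IsLocalRing.of_surjective' (Ideal.Quotient.mk _) Ideal.Quotient.mk_surjective
  obtain ⟨c, hc⟩ := exists_dim (E ⧸ (maximalIdeal D).map (algebraMap D E))
  rw [ha, hb, hc] at h2
  rw [ha, hb]
  norm_cast at h2 ⊢
  omega

theorem strictly_descent_cpl (D E : Type u) [CommRing D] [CommRing E] [IsNoetherianRing D] [IsNoetherianRing E]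
    [IsLocalRing D] [IsLocalRing E] [Algebra D E] [IsLocalHom (algebraMap D E)] [Module.Flat D E]
    (h : EGA4.IsStrictlyEquidim (EGA4.Cpl E)) : EGA4.IsStrictlyEquidim (EGA4.Cpl D) := by
  obtain ⟨_, _, hff⟩ := RegLocus.exists_cpl_faithfullyFlat D E
  have := AdicNoeth.isNoetherianRing_adicCompletion (maximalIdeal D)
  have := AdicNoeth.isNoetherianRing_adicCompletion (maximalIdeal E)
  have : IsLocalHom (algebraMap (EGA4.Cpl D) (EGA4.Cpl E)) := by
    refine ⟨fun x hx => ?_⟩
    by_contra hn
    obtain ⟨P, hP⟩ := PrimeSpectrum.comap_surjective_of_faithfullyFlat (B := EGA4.Cpl E) (closedPoint (EGA4.Cpl D))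
    have hxP : algebraMap (EGA4.Cpl D) (EGA4.Cpl E) x ∈ P.asIdeal :=
      (congrArg PrimeSpectrum.asIdeal hP).ge ((mem_maximalIdeal x).2 hn)
    exact P.2.ne_top (Ideal.eq_top_of_isUnit_mem _ hxP hx)
  exact isStrictlyEquidim_descent (EGA4.Cpl D) (EGA4.Cpl E) h

/-- Localizations of `C ⊗ T` are strictly equidimensional. -/
theorem isStrictlyEquidim_tensor {R C : Type u} [CommRing R] [IsDomain R] [IsNoetherianRing R] [CommRing C]
    [IsNoetherianRing C] [IsLocalRing C] [Algebra R C] [Module.Flat R C] (hC : CAlg.IsUniversallyCatenary C)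
    (hCs : EGA4.IsStrictlyEquidim C) (T : Type u) [CommRing T] [IsDomain T] [Algebra R T] [FaithfulSMul R T]
    [Algebra.FiniteType R T] (Q : Ideal (C ⊗[R] T)) [Q.IsPrime] :
    EGA4.IsStrictlyEquidim (Localization.AtPrime Q) := by
  let CT := C ⊗[R] T
  have : IsNoetherianRing CT := Algebra.FiniteType.isNoetherianRing C _
  let E := Localization.AtPrime Q
  let p := Q.under C
  have : p.IsPrime := inferInstance
  obtain ⟨d, hd⟩ := exists_dim C
  obtain ⟨dp, hdp⟩ := exists_dim_quot p (Ideal.IsPrime.ne_top inferInstance)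
  have : Module.Finite R R := inferInstance
  obtain ⟨m, hm⟩ : ∃ m : ℕ, Algebra.trdeg R T = m := by
    obtain ⟨n, hn⟩ := Cardinal.lt_aleph0.1 (trdeg_lt_aleph0_of_finiteType : Algebra.trdeg R T < Cardinal.aleph0)
    exact ⟨n, hn⟩
  have : Q.LiesOver p := ⟨rfl⟩
  have : FaithfulSMul (C ⧸ p) (CT ⧸ Q) :=
    (faithfulSMul_iff_algebraMap_injective _ _).2 Ideal.quotientMap_injective
  -- one formula for all the associated primes
  have key : ∀ r ∈ associatedPrimes E E, ∃ h t : ℕ, ringKrullDim (E ⧸ r) = h ∧
      Algebra.trdeg (C ⧸ p) (CT ⧸ Q) = t ∧ h + t + dp = d + m := by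
    intro r hr
    have := hr.isPrime
    let r1 := r.comap (algebraMap CT E)
    have hr1 : r1 ∈ associatedPrimes CT CT :=
      Module.associatedPrimes.comap_mem_associatedPrimes_of_mem_associatedPrimes_of_isLocalizedModule_of_fg
        Q.primeCompl (Algebra.linearMap CT E) r hr ((isNoetherianRing_iff_ideal_fg CT).1 inferInstance _)
    have hr1Q : r1 ≤ Q := by
      have h := Ideal.comap_mono (f := algebraMap CT E) (le_maximalIdeal (Ideal.IsPrime.ne_top (I := r) inferInstance))
      rwa [← Ideal.under_def _ (maximalIdeal E), Localization.AtPrime.under_maximalIdeal] at h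
    obtain ⟨hq0, htr⟩ := assPrimes_tensor_domain (R := R) (C := C) T hr1
    let q0 := r1.under C
    have : q0.IsPrime := inferInstance
    have hq0d : ringKrullDim (C ⧸ q0) = d := (hCs q0 hq0).trans hd
    have hq0p : q0 ≤ p := Ideal.comap_mono hr1Q
    have : FaithfulSMul (C ⧸ q0) (CT ⧸ r1) :=
      (faithfulSMul_iff_algebraMap_injective _ _).2 Ideal.quotientMap_injective
    have : Algebra.FiniteType (C ⧸ q0) (CT ⧸ r1) := by
      have : Algebra.FiniteType C (CT ⧸ r1) := Algebra.FiniteType.trans (S := CT) inferInstance inferInstance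
      exact Algebra.FiniteType.of_restrictScalars_finiteType C _ _
    have hUC : CAlg.IsUniversallyCatenary (C ⧸ q0) :=
      LeadExc.isUniversallyCatenary_of_surjective (Ideal.Quotient.mk q0) Ideal.Quotient.mk_surjective hC
    let Qb := Q.map (Ideal.Quotient.mk r1)
    have hQb : Qb.IsPrime := Ideal.map_isPrime_of_surjective Ideal.Quotient.mk_surjective (by rwa [Ideal.mk_ker])
    let pb := p.map (Ideal.Quotient.mk q0)
    have hpb : pb.IsPrime := Ideal.map_isPrime_of_surjective Ideal.Quotient.mk_surjective (by rwa [Ideal.mk_ker])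
    have : Qb.LiesOver pb := ⟨by
      refine Ideal.comap_injective_of_surjective (Ideal.Quotient.mk q0) Ideal.Quotient.mk_surjective ?_
      show pb.comap (Ideal.Quotient.mk q0) = (Qb.comap (algebraMap (C ⧸ q0) (CT ⧸ r1))).comap (Ideal.Quotient.mk q0)
      rw [LocCohBasic.comap_map_mk hq0p, Ideal.comap_comap,
        show (algebraMap (C ⧸ q0) (CT ⧸ r1)).comp (Ideal.Quotient.mk q0) = (Ideal.Quotient.mk r1).comp (algebraMap C CT) from rfl,
        ← Ideal.comap_comap, LocCohBasic.comap_map_mk hr1Q]⟩
    obtain ⟨h, h', t, T', hh, hh', ht, hT', he⟩ := dimEq hUC (CT ⧸ r1) pb Qb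
    refine ⟨h, t, ?_, ?_, ?_⟩
    · have hr_eq : r = r1.map (algebraMap CT E) := (IsLocalization.map_under Q.primeCompl E r).symm
      rw [hr_eq, dim_loc_quot Q r1 hr1Q, hh]
      rfl
    · rw [← ht]
      have : FaithfulSMul ((C ⧸ q0) ⧸ pb) ((CT ⧸ r1) ⧸ Qb) :=
        (faithfulSMul_iff_algebraMap_injective _ _).2 (by
          rw [injective_iff_map_eq_zero]
          intro z hz
          obtain ⟨z, rfl⟩ := Ideal.Quotient.mk_surjective z
          rw [Ideal.Quotient.algebraMap_mk_of_liesOver, Ideal.Quotient.eq_zero_iff_mem] at hz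
          rw [Ideal.Quotient.eq_zero_iff_mem, Qb.over_def pb]
          exact hz)
      refine (trdeg_congr (DoubleQuot.quotQuotEquivQuotOfLE hq0p) (DoubleQuot.quotQuotEquivQuotOfLE hr1Q) ?_).symm
      intro z
      obtain ⟨z, rfl⟩ := Ideal.Quotient.mk_surjective z
      obtain ⟨z, rfl⟩ := Ideal.Quotient.mk_surjective z
      rfl
    · have h1 : T' = m := by
        rw [htr, hm] at hT'
        exact_mod_cast hT'.symm
      have : Nontrivial (C ⧸ q0) := Ideal.Quotient.nontrivial_iff.2 (Ideal.IsPrime.ne_top inferInstance)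
      have : IsLocalRing (C ⧸ q0) := IsLocalRing.of_surjective' _ Ideal.Quotient.mk_surjective
      have h2 := dim_add_height (CatenaryLib.isCatenary_of_essFiniteType (B := C ⧸ q0) hUC) (fun x hx => by
        rw [IsDomain.minimalPrimes_eq_singleton_bot, Set.mem_singleton_iff] at hx
        subst hx
        exact ringKrullDim_eq_of_ringEquiv (RingEquiv.quotientBot _)) pb
      rw [ringKrullDim_eq_of_ringEquiv (DoubleQuot.quotQuotEquivQuotOfLE hq0p), hdp, hh', hq0d] at h2
      have h3 : dp + h' = d := by exact_mod_cast h2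
      omega
  intro r hr
  obtain ⟨h, t, hh, ht, he⟩ := key r hr
  refine le_antisymm (ringKrullDim_quotient_le r) ?_
  rw [hh]
  suffices hsuff : ∀ P ∈ (⊥ : Ideal E).minimalPrimes, ringKrullDim (E ⧸ P) ≤ (h : WithBot ℕ∞) by
    exact le_trans (ringKrullDim_le_of_surjective (RingEquiv.quotientBot E).toRingHom
      (RingEquiv.quotientBot E).surjective) (dim_quot_le (⊥ : Ideal E) _ hsuff)
  intro P hP
  obtain ⟨h', t', hh', ht', he'⟩ := key P (Module.associatedPrimes.minimalPrimes_annihilator_subset_associatedPrimes E E (by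
    rw [Module.annihilator_eq_bot.2 inferInstance]; exact hP))
  rw [ht] at ht'
  have : t = t' := by exact_mod_cast ht'
  rw [hh']
  exact le_of_eq (by rw [show h' = h by omega])

/-- Localizations of finite type domains over a domain with strictly equidimensional completion. -/
theorem cpl_strictly_atPrime {R : Type u} [CommRing R] [IsDomain R] [IsNoetherianRing R] [IsLocalRing R]
    (hR : EGA4.IsStrictlyEquidim (EGA4.Cpl R)) (T : Type u) [CommRing T] [IsDomain T] [Algebra R T] [FaithfulSMul R T]
    [Algebra.FiniteType R T] (Q0 : Ideal T) [Q0.IsPrime] :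
    EGA4.IsStrictlyEquidim (EGA4.Cpl (Localization.AtPrime Q0)) := by
  have : IsNoetherianRing T := Algebra.FiniteType.isNoetherianRing R T
  let C := EGA4.Cpl R
  have : IsNoetherianRing C := AdicNoeth.isNoetherianRing_adicCompletion _
  have := CAlgN2.faithfullyFlat_completion R
  let CT := C ⊗[R] T
  have : IsNoetherianRing CT := Algebra.FiniteType.isNoetherianRing C (C ⊗[R] T)
  let _ : Algebra T CT := Algebra.TensorProduct.rightAlgebra
  have : IsScalarTower R T CT := IsScalarTower.of_algebraMap_eq fun a =>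
    ((Algebra.TensorProduct.includeRight : T →ₐ[R] CT).commutes a).symm
  have : Algebra.IsPushout R T C CT := inferInstance
  have : Module.FaithfullyFlat T CT :=
    Module.FaithfullyFlat.of_linearEquiv _ _ (Algebra.IsPushout.out (R := R) (S := T) (R' := C) (S' := CT)).equiv.symm
  obtain ⟨⟨Q, hQ⟩, hQQ⟩ := PrimeSpectrum.comap_surjective_of_faithfullyFlat (A := T) (B := CT) ⟨Q0, inferInstance⟩
  have : Q.LiesOver Q0 := ⟨(congrArg PrimeSpectrum.asIdeal hQQ).symm⟩
  let _ := Localization.AtPrime.algebraOfLiesOver Q0 Q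
  let E := Localization.AtPrime Q
  have hE : EGA4.IsStrictlyEquidim E := isStrictlyEquidim_tensor (cpl_isUniversallyCatenary R) hR T Q
  have hEs : EGA4.IsFormallyStrictlyCatenary E := by
    have : IsAdicComplete (maximalIdeal C) C := by
      rw [← cpl_map_maximalIdeal]
      exact AdicCompletion.isAdicComplete_self _ (IsNoetherian.noetherian _)
    obtain ⟨S, _, hS, g, hg⟩ := LocDuality.exists_regular_surjection (R := C)
    obtain ⟨d, f, hf⟩ := Algebra.FiniteType.iff_quotient_mvPolynomial''.1 (inferInstance : Algebra.FiniteType C CT)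
    let g' : MvPolynomial (Fin d) S →+* CT := f.toRingHom.comp (MvPolynomial.map g)
    have hg' : Function.Surjective g' := hf.comp (MvPolynomial.map_surjective g hg)
    have : LocCoh.IsCohenMacaulayRing (MvPolynomial (Fin d) S) :=
      LeadExc.isCohenMacaulayRing_mvPolynomial
        (have := LocCohBasic.isCohenMacaulayLocalRing_of_isRegularLocalRing (R := S); Depth.isCohenMacaulayRing_of_local) d
    have := this.isCohenMacaulayLocalRing_localization (Q.comap g')
    let ψ : Localization.AtPrime (Q.comap g') →+* E := Localization.localRingHom _ _ g' rfl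
    refine isFormallyStrictlyCatenary_of_surjective_CM ψ fun y => ?_
    obtain ⟨a, ⟨s, hs⟩, rfl⟩ := IsLocalization.exists_mk'_eq Q.primeCompl y
    obtain ⟨a, rfl⟩ := hg' a
    obtain ⟨s, rfl⟩ := hg' s
    exact ⟨IsLocalization.mk' _ a (⟨s, hs⟩ : (Q.comap g').primeCompl), Localization.localRingHom_mk' _ _ _ _ _ _⟩
  exact strictly_descent_cpl (Localization.AtPrime Q0) E (isStrictlyEquidim_cpl hEs hE)

theorem cpl_strictly_of_essFiniteType {A : Type u} [CommRing A] [IsNoetherianRing A] [IsLocalRing A]
    (hA : EGA4.IsFormallyStrictlyCatenary A) (D : Type u) [CommRing D] [IsDomain D] [IsLocalRing D] [Algebra A D]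
    [Algebra.EssFiniteType A D] : EGA4.IsStrictlyEquidim (EGA4.Cpl D) := by
  let p := RingHom.ker (algebraMap A D)
  have : p.IsPrime := RingHom.ker_isPrime _
  let R := A ⧸ p
  have : Nontrivial R := Ideal.Quotient.nontrivial_iff.2 (Ideal.IsPrime.ne_top inferInstance)
  have : IsLocalRing R := IsLocalRing.of_surjective' (Ideal.Quotient.mk p) Ideal.Quotient.mk_surjective
  let _ : Algebra R D := (RingHom.kerLift (algebraMap A D)).toAlgebra
  have : IsScalarTower A R D := IsScalarTower.of_algebraMap_eq fun _ => rfl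
  have : Algebra.EssFiniteType R D := Algebra.EssFiniteType.of_comp A R D
  have hinjD : Function.Injective (algebraMap R D) := RingHom.kerLift_injective (algebraMap A D)
  let T := Algebra.EssFiniteType.subalgebra R D
  have : FaithfulSMul R T := (faithfulSMul_iff_algebraMap_injective _ _).2 fun a b hab =>
    hinjD (congrArg Subtype.val hab)
  have : IsNoetherianRing D := Algebra.EssFiniteType.isNoetherianRing R D
  let Q0 := (maximalIdeal D).comap (algebraMap T D)
  have : IsLocalization.AtPrime D Q0 := by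
    have h : Algebra.EssFiniteType.submonoid R D = Q0.primeCompl := by
      ext z
      show IsUnit (algebraMap T D z) ↔ algebraMap T D z ∉ maximalIdeal D
      rw [mem_maximalIdeal, mem_nonunits_iff, not_not]
    show IsLocalization Q0.primeCompl D
    rw [← h]
    infer_instance
  have : IsNoetherianRing T := Algebra.FiniteType.isNoetherianRing R T
  have : IsNoetherianRing (Localization.AtPrime Q0) := IsLocalization.isNoetherianRing Q0.primeCompl _ inferInstance
  have hD := cpl_strictly_atPrime (hA p) T Q0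
  exact cpl_strictly_of_ringEquiv (IsLocalization.algEquiv Q0.primeCompl (Localization.AtPrime Q0) D).toRingEquiv hD

theorem isFormallyStrictlyCatenary_of_essFiniteType {A : Type u} [CommRing A] [IsNoetherianRing A] [IsLocalRing A]
    (hA : EGA4.IsFormallyStrictlyCatenary A) (B : Type u) [CommRing B] [IsNoetherianRing B] [IsLocalRing B]
    [Algebra A B] [Algebra.EssFiniteType A B] : EGA4.IsFormallyStrictlyCatenary B := by
  intro p _
  have : Nontrivial (B ⧸ p) := Ideal.Quotient.nontrivial_iff.2 (Ideal.IsPrime.ne_top inferInstance)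
  have : Algebra.EssFiniteType A (B ⧸ p) := Algebra.EssFiniteType.comp A B (B ⧸ p)
  exact cpl_strictly_of_essFiniteType hA (B ⧸ p)

end Groth.Agent.LeadFCat
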