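import Groth.Agent.FormalIrred.Basic
import Groth.Agent.S4754
import Groth.Agent.S2646
import Groth.Agent.LeadFCat.Poly
import Groth.Agent.LeadFCat.Cpl
import Groth.Agent.RegLocus.SemilocalCpl

/-!
# Unibranch local rings with geometrically normal formal fibres are universally catenary
-/

set_option autoImplicit false
universe u

open IsLocalRing
open scoped TensorProduct

namespace Groth.Agent.LeadFCat

/-- The base change of a local finite normal extension to the completion is a domain. -/
theorem isDomain_tensor_cpl_of_local (A : Type u) [CommRing A] [IsNoetherianRing A] [IsLocalRing A]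
    (hA : EGA4.HasGeomNormalFormalFibres A) (C : Type u) [CommRing C] [IsDomain C] [IsLocalRing C] [Algebra A C]
    [Module.Finite A C] [IsIntegrallyClosed C] : IsDomain (C ⊗[A] EGA4.Cpl A) := by
  obtain ⟨hN, hff, -⟩ := RegLocus.cpl_facts A
  have := hN
  have := hff
  have : IsNoetherianRing C := IsNoetherianRing.of_finite A C
  let T := C ⊗[A] EGA4.Cpl A
  have : Nontrivial T := inferInstance
  have : IsLocalRing T := FormalIrred.isLocalRing_tensor_cpl A C
  have : IsNoetherianRing T := by
    have hfin : Module.Finite (EGA4.Cpl A) (EGA4.Cpl A ⊗[A] C) := Module.Finite.base_change A (EGA4.Cpl A) C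
    have := IsNoetherianRing.of_finite (EGA4.Cpl A) (EGA4.Cpl A ⊗[A] C)
    exact isNoetherianRing_of_ringEquiv _ (Algebra.TensorProduct.comm A (EGA4.Cpl A) C).toRingEquiv
  refine FormalIrred.isDomain_of_isNormalRing T fun q _ => ?_
  have hdom : IsDomain (Localization.AtPrime (q.comap (algebraMap C T))) := inferInstance
  have hic : IsIntegrallyClosed (Localization.AtPrime (q.comap (algebraMap C T))) :=
    isIntegrallyClosed_of_isLocalization _ (q.comap (algebraMap C T)).primeCompl
      (Ideal.primeCompl_le_nonZeroDivisors _)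
  refine S2611.result C T (fun P _ => RegLocus.fibLoc_normal_of_fibre C T P ?_) q
  let Q := P.comap (algebraMap C T)
  let p' := Q.comap (algebraMap A C)
  have : Q.LiesOver p' := ⟨rfl⟩
  let _ := Localization.AtPrime.algebraOfLiesOver p' Q
  have : Module.Finite p'.ResidueField Q.ResidueField := inferInstance
  let e1 : Q.Fiber T ≃+* Q.ResidueField ⊗[A] EGA4.Cpl A :=
    (Algebra.TensorProduct.cancelBaseChange A C C Q.ResidueField (EGA4.Cpl A)).toRingEquiv
  let e2 : Q.ResidueField ⊗[p'.ResidueField] EGA4.formalFibre A p' ≃+* Q.ResidueField ⊗[A] EGA4.Cpl A :=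
    (Algebra.TensorProduct.cancelBaseChange A p'.ResidueField p'.ResidueField Q.ResidueField (EGA4.Cpl A)).toRingEquiv
  exact RegLocus.isNormalRing_of_equiv (e2.trans e1.symm) (hA p' Q.ResidueField this)

/-- The completion of the reduction of a unibranch ring is a domain. -/
theorem isDomain_cpl_red {A : Type u} [CommRing A] [IsLocalRing A] [IsNoetherianRing A]
    (hA : EGA4.HasGeomNormalFormalFibres A) (hu : CAlg2.IsUnibranch A) [Nontrivial (A ⧸ nilradical A)] :
    IsDomain (EGA4.Cpl (A ⧸ nilradical A)) := by
  let B := A ⧸ nilradical A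
  have : IsDomain B := hu.1
  have hB : EGA4.HasGeomNormalFormalFibres B := Groth.Agent.S4754.result A hA (nilradical A)
  let C := integralClosure B (FractionRing B)
  have : Module.Finite B C := (Groth.Agent.S2646.result B hB).2
  have : IsLocalRing C := hu.2
  have : IsIntegrallyClosed C := integralClosure.isIntegrallyClosedOfFiniteExtension (FractionRing B)
  have := isDomain_tensor_cpl_of_local B hB C
  obtain ⟨hN, hff, -⟩ := RegLocus.cpl_facts B
  have := hff
  exact Function.Injective.isDomain (Algebra.TensorProduct.includeRight : EGA4.Cpl B →ₐ[B] C ⊗[B] EGA4.Cpl B).toRingHom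
    (Algebra.TensorProduct.includeRight_injective (R := B) (A := C) (B := EGA4.Cpl B)
      (fun a b h => IsFractionRing.injective B (FractionRing B) (congrArg Subtype.val h)))

theorem isUniversallyCatenary_of_unibranch {A : Type u} [CommRing A] [IsLocalRing A] [IsNoetherianRing A]
    (hA : EGA4.HasGeomNormalFormalFibres A) (hu : CAlg2.IsUnibranch A) : CAlg.IsUniversallyCatenary A := by
  have hne : nilradical A ≠ ⊤ := fun h => by
    have h1 : (1 : A) ∈ nilradical A := h ▸ trivial
    obtain ⟨n, hn⟩ := h1
    rw [one_pow] at hn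
    exact one_ne_zero hn
  have : Nontrivial (A ⧸ nilradical A) := Ideal.Quotient.nontrivial_iff.2 hne
  have := isDomain_cpl_red hA hu
  let C := EGA4.Cpl A
  let NC := (nilradical A).map (algebraMap A C)
  obtain ⟨e0⟩ := RegLocus.cplQuotient_equiv A (nilradical A)
  let e : (C ⧸ NC) ≃+* EGA4.Cpl (A ⧸ nilradical A) :=
    (Algebra.TensorProduct.quotIdealMapEquivQuotTensor C (nilradical A)).toRingEquiv.trans e0.toRingEquiv
  have : IsDomain (C ⧸ NC) := e.toMulEquiv.isDomain
  have hp : NC.IsPrime := (Ideal.Quotient.isDomain_iff_prime NC).1 inferInstance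
  have hnil : NC ≤ nilradical C := Ideal.map_le_iff_le_comap.2 fun x hx => by
    obtain ⟨n, hn⟩ := hx
    exact ⟨n, by rw [← map_pow, show x ^ n = 0 from hn, map_zero]; exact zero_mem _⟩
  have heq : EGA4.IsFormallyEquidim A := by
    intro q hq
    have hqp : q.IsPrime := hq.1.1
    have hle : NC ≤ q := hnil.trans (nilradical_le_prime q)
    have hq' : q = NC := le_antisymm (hq.2 ⟨hp, bot_le⟩ hle) hle
    subst hq'
    refine le_antisymm (ringKrullDim_quotient_le _) ?_
    refine Order.krullDim_le_of_strictMono (fun x : PrimeSpectrum C =>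
      (⟨x.asIdeal.map (Ideal.Quotient.mk NC), Ideal.map_isPrime_of_surjective Ideal.Quotient.mk_surjective
        (by rw [Ideal.mk_ker]; exact hnil.trans (nilradical_le_prime _))⟩ : PrimeSpectrum (C ⧸ NC))) ?_
    intro a b hab
    refine lt_of_le_of_ne (Ideal.map_mono hab.le) fun h => hab.ne (PrimeSpectrum.ext ?_)
    have h' := congrArg (fun v : PrimeSpectrum (C ⧸ NC) => v.asIdeal.comap (Ideal.Quotient.mk NC)) h
    simpa only [LocCohBasic.comap_map_mk (hnil.trans (nilradical_le_prime a.asIdeal)),
      LocCohBasic.comap_map_mk (hnil.trans (nilradical_le_prime b.asIdeal))] using h'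
  refine isUniversallyCatenary_of_isFormallyCatenary fun p _ => ?_
  have : Nontrivial (A ⧸ p) := Ideal.Quotient.nontrivial_iff.2 (Ideal.IsPrime.ne_top inferInstance)
  refine (isEquidim_quot_iff_formally A heq p).1 fun q hq => ?_
  rw [IsDomain.minimalPrimes_eq_singleton_bot, Set.mem_singleton_iff] at hq
  subst hq
  exact ringKrullDim_eq_of_ringEquiv (RingEquiv.quotientBot _)

end Groth.Agent.LeadFCat
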